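import Cfsg.Agent.HNOrder51.CoverData

/-! Kernel check of the covering entries. -/

set_option autoImplicit false
set_option linter.style.longLine false
set_option Elab.async false
set_option maxRecDepth 100000

namespace CfsgLib.HN51

theorem cov6_ok : optBeq (stepsOK facts 223 aliveNodes 6 0 cov6) fullMask = true := by
  decide +kernel

theorem cov7_ok : optBeq (stepsOK facts 223 aliveNodes 7 0 cov7) fullMask = true := by
  decide +kernel

theorem cov8_ok : optBeq (stepsOK facts 223 aliveNodes 8 0 cov8) fullMask = true := by
  decide +kernel

theorem cov9_ok : optBeq (stepsOK facts 223 aliveNodes 9 0 cov9) fullMask = true := by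
  decide +kernel

end CfsgLib.HN51
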