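import Cfsg.Agent.HNOrder51.Facts

/-! Kernel check of all derivations. -/

set_option autoImplicit false
set_option Elab.async false
set_option maxRecDepth 100000

namespace CfsgLib.HN51

theorem factsOK0 : (List.range' 0 20).all (okAt dw facts justs) = true := by
  decide +kernel

theorem factsOK1 : (List.range' 20 20).all (okAt dw facts justs) = true := by
  decide +kernel

theorem factsOK2 : (List.range' 40 20).all (okAt dw facts justs) = true := by
  decide +kernel

theorem factsOK3 : (List.range' 60 20).all (okAt dw facts justs) = true := by
  decide +kernel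

theorem factsOK4 : (List.range' 80 20).all (okAt dw facts justs) = true := by
  decide +kernel

theorem factsOK5 : (List.range' 100 20).all (okAt dw facts justs) = true := by
  decide +kernel

theorem factsOK6 : (List.range' 120 20).all (okAt dw facts justs) = true := by
  decide +kernel

theorem factsOK7 : (List.range' 140 20).all (okAt dw facts justs) = true := by
  decide +kernel

theorem factsOK8 : (List.range' 160 20).all (okAt dw facts justs) = true := by
  decide +kernel

theorem factsOK9 : (List.range' 180 20).all (okAt dw facts justs) = true := by
  decide +kernel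

theorem factsOK10 : (List.range' 200 20).all (okAt dw facts justs) = true := by
  decide +kernel

theorem factsOK11 : (List.range' 220 3).all (okAt dw facts justs) = true := by
  decide +kernel

theorem facts_ok : ∀ i < 223, okAt dw facts justs i = true := by
  intro i hi
  by_cases h0 : i < 20
  · exact List.all_eq_true.mp factsOK0 i (List.mem_range'_1.mpr ⟨by omega, by omega⟩)
  by_cases h20 : i < 40
  · exact List.all_eq_true.mp factsOK1 i (List.mem_range'_1.mpr ⟨by omega, by omega⟩)
  by_cases h40 : i < 60
  · exact List.all_eq_true.mp factsOK2 i (List.mem_range'_1.mpr ⟨by omega, by omega⟩)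
  by_cases h60 : i < 80
  · exact List.all_eq_true.mp factsOK3 i (List.mem_range'_1.mpr ⟨by omega, by omega⟩)
  by_cases h80 : i < 100
  · exact List.all_eq_true.mp factsOK4 i (List.mem_range'_1.mpr ⟨by omega, by omega⟩)
  by_cases h100 : i < 120
  · exact List.all_eq_true.mp factsOK5 i (List.mem_range'_1.mpr ⟨by omega, by omega⟩)
  by_cases h120 : i < 140
  · exact List.all_eq_true.mp factsOK6 i (List.mem_range'_1.mpr ⟨by omega, by omega⟩)
  by_cases h140 : i < 160
  · exact List.all_eq_true.mp factsOK7 i (List.mem_range'_1.mpr ⟨by omega, by omega⟩)
  by_cases h160 : i < 180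
  · exact List.all_eq_true.mp factsOK8 i (List.mem_range'_1.mpr ⟨by omega, by omega⟩)
  by_cases h180 : i < 200
  · exact List.all_eq_true.mp factsOK9 i (List.mem_range'_1.mpr ⟨by omega, by omega⟩)
  by_cases h200 : i < 220
  · exact List.all_eq_true.mp factsOK10 i (List.mem_range'_1.mpr ⟨by omega, by omega⟩)
  exact List.all_eq_true.mp factsOK11 i (List.mem_range'_1.mpr ⟨by omega, by omega⟩)

theorem facts_hold (hF : Faith) (hC : CFix) :
    ∀ i < 223, Holds dw (facts.getD i noFact) :=
  facts_sound hF hC facts_ok

end CfsgLib.HN51
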