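import Cfsg.Agent.HNOrder51.CoverA
import Cfsg.Agent.HNOrder51.CoverB
import Cfsg.Agent.HNOrder51.FactsOK

/-! Every coset lies in one of the listed double cosets. -/

set_option autoImplicit false
set_option linter.style.longLine false
set_option Elab.async false
set_option maxRecDepth 100000

namespace CfsgLib.HN51

theorem table_lt : ((List.range 1408).all fun i => (List.range 5).all fun a => (act i a).blt 1408) = true := by
  decide +kernel

theorem run_lt : ∀ (w : List ℕ) {i : ℕ}, i < 1408 → isN w = true → run i w < 1408
  | [], i, hi, _ => hi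
  | a :: l, i, hi, h => by
    simp only [isN, List.all_cons, Bool.and_eq_true, Nat.blt_eq] at h
    refine run_lt l ?_ (by simpa [isN] using h.2)
    have := List.all_eq_true.mp (List.all_eq_true.mp table_lt i (List.mem_range.mpr hi)) a
      (List.mem_range.mpr h.1)
    exact Nat.blt_eq.mp this

/-- The double cosets of the live nodes exhaust the group. -/
theorem cover (hF : Faith) (hC : CFix) (g : Cfsg.Spor.HN) :
    ∃ a ∈ aliveNodes, ∃ w, isN w = true ∧ psi g = psi (ev (dw a) * ev w) := by
  refine cover_of_good (fun w hw => run_lt w (by norm_num) hw) (by simp [aliveNodes]) rfl ?_ g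
  have hfs := facts_hold hF hC
  simp only [aliveNodes, List.forall_mem_cons]
  exact ⟨good_all hC hfs cov0_ok, good_all hC hfs cov1_ok, good_all hC hfs cov2_ok, good_all hC hfs cov3_ok, good_all hC hfs cov5_ok, good_all hC hfs cov6_ok, good_all hC hfs cov7_ok, good_all hC hfs cov8_ok, good_all hC hfs cov9_ok, by simp⟩

end CfsgLib.HN51
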