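import Mathlib

/-! Generated: transversals for the stabiliser chain of `⟨x, y, z⟩` on 1408 points. Above the first
level the words use the letters `0 = y`, `1 = y⁻¹`, `2 = x⁻¹ y x`, `3 = x⁻¹ y⁻¹ x`. -/

set_option autoImplicit false
set_option linter.style.longLine false
set_option maxRecDepth 100000

namespace CfsgLib.HN51

/-- transversal of the point stabiliser, part 0 -/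
def top0 : List (List ℕ) := [
  [],
  [0],
  [1],
  [4],
  [0,0],
  [0,4],
  [1,4],
  [4,2],
  [4,3],
  [0,0,4],
  [0,4,2],
  [0,4,3],
  [1,4,2],
  [1,4,3],
  [4,2,0],
  [4,2,1],
  [4,2,2],
  [4,2,4],
  [4,3,0],
  [4,3,1],
  [4,3,3],
  [4,3,4],
  [0,0,4,2],
  [0,0,4,3],
  [0,4,2,0],
  [0,4,2,1],
  [0,4,2,2],
  [0,4,2,4],
  [0,4,3,0],
  [0,4,3,1],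
  [0,4,3,3],
  [0,4,3,4],
  [1,4,2,2],
  [1,4,2,4],
  [1,4,3,3],
  [1,4,3,4],
  [4,2,0,2],
  [4,2,0,4],
  [4,2,1,2],
  [4,2,1,4],
  [4,2,2,0],
  [4,2,2,1],
  [4,2,2,2],
  [4,2,2,4],
  [4,2,4,2],
  [4,2,4,3],
  [4,3,0,4],
  [4,3,1,4],
  [4,3,3,0],
  [4,3,3,1],
  [4,3,3,4],
  [4,3,4,2],
  [4,3,4,3],
  [0,0,4,2,2],
  [0,0,4,2,4],
  [0,0,4,3,3],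
  [0,0,4,3,4],
  [0,4,2,0,2],
  [0,4,2,0,4],
  [0,4,2,1,2],
  [0,4,2,1,4],
  [0,4,2,2,0],
  [0,4,2,2,1],
  [0,4,2,2,2],
  [0,4,2,2,4],
  [0,4,2,4,2],
  [0,4,2,4,3],
  [0,4,3,0,4],
  [0,4,3,1,4],
  [0,4,3,3,0],
  [0,4,3,3,1],
  [0,4,3,3,4],
  [0,4,3,4,2],
  [0,4,3,4,3],
  [1,4,2,2,2],
  [1,4,2,2,4],
  [1,4,2,4,2],
  [1,4,2,4,3],
  [1,4,3,3,4],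
  [1,4,3,4,2],
  [1,4,3,4,3],
  [4,2,0,2,4],
  [4,2,0,4,2],
  [4,2,1,2,4],
  [4,2,1,4,2],
  [4,2,2,0,2],
  [4,2,2,0,3],
  [4,2,2,0,4],
  [4,2,2,1,2],
  [4,2,2,1,3],
  [4,2,2,1,4],
  [4,2,2,2,0],
  [4,2,2,2,1],
  [4,2,2,2,4],
  [4,2,2,4,2],
  [4,2,2,4,3],
  [4,2,4,2,0],
  [4,2,4,2,1],
  [4,2,4,2,2],
  [4,2,4,2,4],
  [4,2,4,3,3],
  [4,2,4,3,4],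
  [4,3,0,4,3],
  [4,3,1,4,3],
  [4,3,3,0,3],
  [4,3,3,0,4],
  [4,3,3,1,3],
  [4,3,3,1,4],
  [4,3,3,4,2],
  [4,3,4,2,2],
  [4,3,4,2,4],
  [4,3,4,3,0],
  [4,3,4,3,1],
  [4,3,4,3,3],
  [4,3,4,3,4],
  [0,0,4,2,2,2],
  [0,0,4,2,2,4],
  [0,0,4,2,4,2],
  [0,0,4,2,4,3],
  [0,0,4,3,3,4],
  [0,0,4,3,4,2],
  [0,0,4,3,4,3],
  [0,4,2,0,2,4],
  [0,4,2,0,4,2],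
  [0,4,2,1,2,4],
  [0,4,2,1,4,2],
  [0,4,2,2,0,2],
  [0,4,2,2,0,3]]

/-- transversal of the point stabiliser, part 1 -/
def top1 : List (List ℕ) := [
  [0,4,2,2,0,4],
  [0,4,2,2,1,2],
  [0,4,2,2,1,3],
  [0,4,2,2,1,4],
  [0,4,2,2,2,0],
  [0,4,2,2,2,1],
  [0,4,2,2,2,4],
  [0,4,2,2,4,2],
  [0,4,2,2,4,3],
  [0,4,2,4,2,0],
  [0,4,2,4,2,1],
  [0,4,2,4,2,2],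
  [0,4,2,4,2,4],
  [0,4,2,4,3,3],
  [0,4,2,4,3,4],
  [0,4,3,0,4,3],
  [0,4,3,1,4,3],
  [0,4,3,3,0,3],
  [0,4,3,3,0,4],
  [0,4,3,3,1,3],
  [0,4,3,3,1,4],
  [0,4,3,3,4,2],
  [0,4,3,4,2,2],
  [0,4,3,4,2,4],
  [0,4,3,4,3,0],
  [0,4,3,4,3,1],
  [0,4,3,4,3,3],
  [0,4,3,4,3,4],
  [1,4,2,2,2,4],
  [1,4,2,2,4,2],
  [1,4,2,2,4,3],
  [1,4,2,4,2,2],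
  [1,4,2,4,2,4],
  [1,4,2,4,3,3],
  [1,4,2,4,3,4],
  [1,4,3,3,4,2],
  [1,4,3,4,2,2],
  [1,4,3,4,2,4],
  [1,4,3,4,3,3],
  [1,4,3,4,3,4],
  [4,2,0,2,4,2],
  [4,2,0,2,4,3],
  [4,2,0,4,2,0],
  [4,2,0,4,2,1],
  [4,2,0,4,2,2],
  [4,2,0,4,2,4],
  [4,2,1,2,4,2],
  [4,2,1,2,4,3],
  [4,2,1,4,2,2],
  [4,2,1,4,2,4],
  [4,2,2,0,2,0],
  [4,2,2,0,2,1],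
  [4,2,2,0,2,2],
  [4,2,2,0,2,4],
  [4,2,2,0,3,4],
  [4,2,2,0,4,2],
  [4,2,2,0,4,3],
  [4,2,2,1,2,2],
  [4,2,2,1,2,4],
  [4,2,2,1,3,4],
  [4,2,2,1,4,2],
  [4,2,2,1,4,3],
  [4,2,2,2,0,2],
  [4,2,2,2,0,3],
  [4,2,2,2,0,4],
  [4,2,2,2,1,2],
  [4,2,2,2,1,3],
  [4,2,2,2,1,4],
  [4,2,2,2,4,2],
  [4,2,2,2,4,3],
  [4,2,2,4,2,0],
  [4,2,2,4,2,1],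
  [4,2,2,4,2,4],
  [4,2,2,4,3,0],
  [4,2,2,4,3,1],
  [4,2,2,4,3,3],
  [4,2,2,4,3,4],
  [4,2,4,2,0,2],
  [4,2,4,2,0,3],
  [4,2,4,2,0,4],
  [4,2,4,2,1,2],
  [4,2,4,2,1,3],
  [4,2,4,2,1,4],
  [4,2,4,2,2,0],
  [4,2,4,2,2,1],
  [4,2,4,2,2,2],
  [4,2,4,2,2,4],
  [4,2,4,2,4,2],
  [4,2,4,2,4,3],
  [4,2,4,3,3,0],
  [4,2,4,3,3,1],
  [4,2,4,3,3,4],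
  [4,2,4,3,4,3],
  [4,3,0,4,3,0],
  [4,3,0,4,3,1],
  [4,3,0,4,3,3],
  [4,3,1,4,3,3],
  [4,3,1,4,3,4],
  [4,3,3,0,3,0],
  [4,3,3,0,3,1],
  [4,3,3,0,3,4],
  [4,3,3,0,4,3],
  [4,3,3,1,3,4],
  [4,3,3,1,4,3],
  [4,3,3,4,2,0],
  [4,3,3,4,2,1],
  [4,3,3,4,2,4],
  [4,3,4,2,2,0],
  [4,3,4,2,2,1],
  [4,3,4,2,2,2],
  [4,3,4,2,2,4],
  [4,3,4,3,0,3],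
  [4,3,4,3,0,4],
  [4,3,4,3,1,3],
  [4,3,4,3,1,4],
  [4,3,4,3,3,0],
  [4,3,4,3,3,1],
  [4,3,4,3,3,4],
  [4,3,4,3,4,2],
  [4,3,4,3,4,3],
  [0,0,4,2,2,2,4],
  [0,0,4,2,2,4,2],
  [0,0,4,2,2,4,3],
  [0,0,4,2,4,2,2],
  [0,0,4,2,4,2,4],
  [0,0,4,2,4,3,3],
  [0,0,4,2,4,3,4],
  [0,0,4,3,3,4,2]]

/-- transversal of the point stabiliser, part 2 -/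
def top2 : List (List ℕ) := [
  [0,0,4,3,4,2,2],
  [0,0,4,3,4,2,4],
  [0,0,4,3,4,3,3],
  [0,0,4,3,4,3,4],
  [0,4,2,0,2,4,2],
  [0,4,2,0,2,4,3],
  [0,4,2,0,4,2,0],
  [0,4,2,0,4,2,1],
  [0,4,2,0,4,2,2],
  [0,4,2,0,4,2,4],
  [0,4,2,1,2,4,2],
  [0,4,2,1,2,4,3],
  [0,4,2,1,4,2,2],
  [0,4,2,1,4,2,4],
  [0,4,2,2,0,2,0],
  [0,4,2,2,0,2,1],
  [0,4,2,2,0,2,2],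
  [0,4,2,2,0,2,4],
  [0,4,2,2,0,3,4],
  [0,4,2,2,0,4,2],
  [0,4,2,2,0,4,3],
  [0,4,2,2,1,2,2],
  [0,4,2,2,1,2,4],
  [0,4,2,2,1,3,4],
  [0,4,2,2,1,4,2],
  [0,4,2,2,1,4,3],
  [0,4,2,2,2,0,2],
  [0,4,2,2,2,0,3],
  [0,4,2,2,2,0,4],
  [0,4,2,2,2,1,2],
  [0,4,2,2,2,1,3],
  [0,4,2,2,2,1,4],
  [0,4,2,2,2,4,2],
  [0,4,2,2,2,4,3],
  [0,4,2,2,4,2,0],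
  [0,4,2,2,4,2,1],
  [0,4,2,2,4,2,4],
  [0,4,2,2,4,3,0],
  [0,4,2,2,4,3,1],
  [0,4,2,2,4,3,3],
  [0,4,2,2,4,3,4],
  [0,4,2,4,2,0,2],
  [0,4,2,4,2,0,3],
  [0,4,2,4,2,0,4],
  [0,4,2,4,2,1,2],
  [0,4,2,4,2,1,3],
  [0,4,2,4,2,1,4],
  [0,4,2,4,2,2,0],
  [0,4,2,4,2,2,1],
  [0,4,2,4,2,2,2],
  [0,4,2,4,2,2,4],
  [0,4,2,4,2,4,2],
  [0,4,2,4,2,4,3],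
  [0,4,2,4,3,3,0],
  [0,4,2,4,3,3,1],
  [0,4,2,4,3,3,4],
  [0,4,2,4,3,4,3],
  [0,4,3,0,4,3,0],
  [0,4,3,0,4,3,1],
  [0,4,3,0,4,3,3],
  [0,4,3,1,4,3,3],
  [0,4,3,1,4,3,4],
  [0,4,3,3,0,3,0],
  [0,4,3,3,0,3,1],
  [0,4,3,3,0,3,4],
  [0,4,3,3,0,4,3],
  [0,4,3,3,1,3,4],
  [0,4,3,3,1,4,3],
  [0,4,3,3,4,2,0],
  [0,4,3,3,4,2,1],
  [0,4,3,3,4,2,4],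
  [0,4,3,4,2,2,0],
  [0,4,3,4,2,2,1],
  [0,4,3,4,2,2,2],
  [0,4,3,4,2,2,4],
  [0,4,3,4,3,0,3],
  [0,4,3,4,3,0,4],
  [0,4,3,4,3,1,3],
  [0,4,3,4,3,1,4],
  [0,4,3,4,3,3,0],
  [0,4,3,4,3,3,1],
  [0,4,3,4,3,3,4],
  [0,4,3,4,3,4,2],
  [0,4,3,4,3,4,3],
  [1,4,2,2,2,4,2],
  [1,4,2,2,2,4,3],
  [1,4,2,2,4,2,4],
  [1,4,2,2,4,3,3],
  [1,4,2,2,4,3,4],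
  [1,4,2,4,2,2,2],
  [1,4,2,4,2,2,4],
  [1,4,2,4,2,4,2],
  [1,4,2,4,2,4,3],
  [1,4,2,4,3,3,4],
  [1,4,3,3,4,2,4],
  [1,4,3,4,2,2,2],
  [1,4,3,4,2,2,4],
  [1,4,3,4,3,3,4],
  [1,4,3,4,3,4,2],
  [1,4,3,4,3,4,3],
  [4,2,0,2,4,2,2],
  [4,2,0,2,4,2,4],
  [4,2,0,2,4,3,3],
  [4,2,0,2,4,3,4],
  [4,2,0,4,2,0,4],
  [4,2,0,4,2,1,4],
  [4,2,0,4,2,2,0],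
  [4,2,0,4,2,2,1],
  [4,2,0,4,2,2,4],
  [4,2,0,4,2,4,2],
  [4,2,1,2,4,2,4],
  [4,2,1,2,4,3,4],
  [4,2,1,4,2,2,4],
  [4,2,1,4,2,4,2],
  [4,2,2,0,2,0,2],
  [4,2,2,0,2,0,3],
  [4,2,2,0,2,0,4],
  [4,2,2,0,2,1,2],
  [4,2,2,0,2,1,3],
  [4,2,2,0,2,1,4],
  [4,2,2,0,2,2,0],
  [4,2,2,0,2,2,1],
  [4,2,2,0,2,2,4],
  [4,2,2,0,2,4,2],
  [4,2,2,0,2,4,3],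
  [4,2,2,0,3,4,2],
  [4,2,2,0,3,4,3],
  [4,2,2,0,4,2,0]]

/-- transversal of the point stabiliser, part 3 -/
def top3 : List (List ℕ) := [
  [4,2,2,0,4,2,1],
  [4,2,2,0,4,2,4],
  [4,2,2,0,4,3,4],
  [4,2,2,1,2,2,4],
  [4,2,2,1,2,4,2],
  [4,2,2,1,2,4,3],
  [4,2,2,1,3,4,2],
  [4,2,2,1,3,4,3],
  [4,2,2,1,4,2,4],
  [4,2,2,1,4,3,4],
  [4,2,2,2,0,2,0],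
  [4,2,2,2,0,2,1],
  [4,2,2,2,0,2,4],
  [4,2,2,2,0,3,0],
  [4,2,2,2,0,3,1],
  [4,2,2,2,0,3,4],
  [4,2,2,2,0,4,2],
  [4,2,2,2,0,4,3],
  [4,2,2,2,1,2,4],
  [4,2,2,2,1,3,4],
  [4,2,2,2,1,4,2],
  [4,2,2,2,1,4,3],
  [4,2,2,2,4,2,0],
  [4,2,2,2,4,2,1],
  [4,2,2,2,4,2,4],
  [4,2,2,2,4,3,0],
  [4,2,2,2,4,3,1],
  [4,2,2,2,4,3,4],
  [4,2,2,4,2,0,2],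
  [4,2,2,4,2,0,3],
  [4,2,2,4,2,0,4],
  [4,2,2,4,2,1,2],
  [4,2,2,4,2,1,3],
  [4,2,2,4,2,1,4],
  [4,2,2,4,2,4,2],
  [4,2,2,4,2,4,3],
  [4,2,2,4,3,1,4],
  [4,2,2,4,3,3,4],
  [4,2,2,4,3,4,2],
  [4,2,2,4,3,4,3],
  [4,2,4,2,0,2,0],
  [4,2,4,2,0,2,1],
  [4,2,4,2,0,2,2],
  [4,2,4,2,0,2,4],
  [4,2,4,2,0,3,4],
  [4,2,4,2,0,4,2],
  [4,2,4,2,1,2,2],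
  [4,2,4,2,1,2,4],
  [4,2,4,2,1,3,4],
  [4,2,4,2,1,4,2],
  [4,2,4,2,2,0,3],
  [4,2,4,2,2,0,4],
  [4,2,4,2,2,1,3],
  [4,2,4,2,2,1,4],
  [4,2,4,2,2,2,0],
  [4,2,4,2,2,2,1],
  [4,2,4,2,2,2,4],
  [4,2,4,2,2,4,2],
  [4,2,4,2,2,4,3],
  [4,2,4,2,4,2,0],
  [4,2,4,2,4,2,1],
  [4,2,4,2,4,2,2],
  [4,2,4,2,4,2,4],
  [4,2,4,2,4,3,1],
  [4,2,4,2,4,3,3],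
  [4,2,4,3,3,0,4],
  [4,2,4,3,3,1,4],
  [4,2,4,3,3,4,3],
  [4,2,4,3,4,3,0],
  [4,2,4,3,4,3,1],
  [4,2,4,3,4,3,3],
  [4,3,0,4,3,3,0],
  [4,3,0,4,3,3,1],
  [4,3,0,4,3,3,4],
  [4,3,1,4,3,3,4],
  [4,3,1,4,3,4,3],
  [4,3,3,0,3,0,2],
  [4,3,3,0,3,0,3],
  [4,3,3,0,3,0,4],
  [4,3,3,0,3,1,2],
  [4,3,3,0,3,1,3],
  [4,3,3,0,3,1,4],
  [4,3,3,0,3,4,3],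
  [4,3,3,0,4,3,0],
  [4,3,3,0,4,3,1],
  [4,3,3,0,4,3,4],
  [4,3,3,1,3,4,3],
  [4,3,3,1,4,3,4],
  [4,3,3,4,2,1,4],
  [4,3,3,4,2,4,2],
  [4,3,4,2,2,1,4],
  [4,3,4,2,2,2,4],
  [4,3,4,2,2,4,2],
  [4,3,4,3,0,3,0],
  [4,3,4,3,0,3,1],
  [4,3,4,3,0,3,4],
  [4,3,4,3,0,4,3],
  [4,3,4,3,1,3,4],
  [4,3,4,3,1,4,3],
  [4,3,4,3,3,0,2],
  [4,3,4,3,3,0,4],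
  [4,3,4,3,3,1,2],
  [4,3,4,3,3,1,4],
  [4,3,4,3,3,4,2],
  [4,3,4,3,3,4,3],
  [4,3,4,3,4,2,1],
  [4,3,4,3,4,2,2],
  [4,3,4,3,4,3,0],
  [4,3,4,3,4,3,1],
  [4,3,4,3,4,3,3],
  [4,3,4,3,4,3,4],
  [0,0,4,2,2,4,2,4],
  [0,0,4,2,2,4,3,3],
  [0,0,4,2,4,2,2,2],
  [0,0,4,2,4,2,2,4],
  [0,0,4,2,4,2,4,2],
  [0,0,4,2,4,3,3,4],
  [0,0,4,3,4,2,2,2],
  [0,0,4,3,4,2,2,4],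
  [0,0,4,3,4,3,3,4],
  [0,0,4,3,4,3,4,3],
  [0,4,2,0,2,4,2,4],
  [0,4,2,0,2,4,3,4],
  [0,4,2,0,4,2,0,4],
  [0,4,2,0,4,2,1,4],
  [0,4,2,0,4,2,2,0],
  [0,4,2,0,4,2,2,1],
  [0,4,2,0,4,2,2,4]]

/-- transversal of the point stabiliser, part 4 -/
def top4 : List (List ℕ) := [
  [0,4,2,0,4,2,4,2],
  [0,4,2,1,2,4,2,4],
  [0,4,2,1,2,4,3,4],
  [0,4,2,1,4,2,2,4],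
  [0,4,2,1,4,2,4,2],
  [0,4,2,2,0,2,0,2],
  [0,4,2,2,0,2,0,3],
  [0,4,2,2,0,2,0,4],
  [0,4,2,2,0,2,1,2],
  [0,4,2,2,0,2,1,3],
  [0,4,2,2,0,2,1,4],
  [0,4,2,2,0,2,2,0],
  [0,4,2,2,0,2,2,1],
  [0,4,2,2,0,2,2,4],
  [0,4,2,2,0,2,4,2],
  [0,4,2,2,0,2,4,3],
  [0,4,2,2,0,4,2,0],
  [0,4,2,2,0,4,2,1],
  [0,4,2,2,0,4,2,4],
  [0,4,2,2,0,4,3,4],
  [0,4,2,2,1,2,2,4],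
  [0,4,2,2,1,2,4,2],
  [0,4,2,2,1,2,4,3],
  [0,4,2,2,1,4,2,4],
  [0,4,2,2,1,4,3,4],
  [0,4,2,2,2,0,2,0],
  [0,4,2,2,2,0,2,1],
  [0,4,2,2,2,0,2,4],
  [0,4,2,2,2,0,3,0],
  [0,4,2,2,2,0,3,1],
  [0,4,2,2,2,0,3,4],
  [0,4,2,2,2,0,4,2],
  [0,4,2,2,2,0,4,3],
  [0,4,2,2,2,1,2,4],
  [0,4,2,2,2,1,3,4],
  [0,4,2,2,2,1,4,2],
  [0,4,2,2,2,1,4,3],
  [0,4,2,2,2,4,2,4],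
  [0,4,2,2,2,4,3,4],
  [0,4,2,2,4,2,0,2],
  [0,4,2,2,4,2,0,3],
  [0,4,2,2,4,2,0,4],
  [0,4,2,2,4,2,1,2],
  [0,4,2,2,4,2,1,3],
  [0,4,2,2,4,2,1,4],
  [0,4,2,2,4,2,4,2],
  [0,4,2,2,4,2,4,3],
  [0,4,2,2,4,3,3,4],
  [0,4,2,2,4,3,4,2],
  [0,4,2,2,4,3,4,3],
  [0,4,2,4,2,0,2,0],
  [0,4,2,4,2,0,2,1],
  [0,4,2,4,2,0,2,2],
  [0,4,2,4,2,0,2,4],
  [0,4,2,4,2,0,3,4],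
  [0,4,2,4,2,0,4,2],
  [0,4,2,4,2,1,2,2],
  [0,4,2,4,2,1,2,4],
  [0,4,2,4,2,1,3,4],
  [0,4,2,4,2,1,4,2],
  [0,4,2,4,2,2,0,3],
  [0,4,2,4,2,2,0,4],
  [0,4,2,4,2,2,1,3],
  [0,4,2,4,2,2,1,4],
  [0,4,2,4,2,2,2,0],
  [0,4,2,4,2,2,2,1],
  [0,4,2,4,2,2,2,4],
  [0,4,2,4,2,2,4,2],
  [0,4,2,4,2,2,4,3],
  [0,4,2,4,2,4,2,0],
  [0,4,2,4,2,4,2,1],
  [0,4,2,4,2,4,2,2],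
  [0,4,2,4,2,4,2,4],
  [0,4,2,4,2,4,3,3],
  [0,4,2,4,3,3,0,4],
  [0,4,2,4,3,3,1,4],
  [0,4,2,4,3,3,4,3],
  [0,4,2,4,3,4,3,0],
  [0,4,2,4,3,4,3,1],
  [0,4,2,4,3,4,3,3],
  [0,4,3,0,4,3,3,0],
  [0,4,3,0,4,3,3,1],
  [0,4,3,0,4,3,3,4],
  [0,4,3,1,4,3,3,4],
  [0,4,3,1,4,3,4,3],
  [0,4,3,3,0,3,0,2],
  [0,4,3,3,0,3,0,3],
  [0,4,3,3,0,3,0,4],
  [0,4,3,3,0,3,1,2],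
  [0,4,3,3,0,3,1,3],
  [0,4,3,3,0,3,1,4],
  [0,4,3,3,0,3,4,3],
  [0,4,3,3,0,4,3,0],
  [0,4,3,3,0,4,3,1],
  [0,4,3,3,0,4,3,4],
  [0,4,3,3,1,3,4,3],
  [0,4,3,3,1,4,3,4],
  [0,4,3,3,4,2,4,2],
  [0,4,3,4,2,2,1,4],
  [0,4,3,4,2,2,2,4],
  [0,4,3,4,2,2,4,2],
  [0,4,3,4,3,0,3,0],
  [0,4,3,4,3,0,3,1],
  [0,4,3,4,3,0,3,4],
  [0,4,3,4,3,0,4,3],
  [0,4,3,4,3,1,3,4],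
  [0,4,3,4,3,1,4,3],
  [0,4,3,4,3,3,0,2],
  [0,4,3,4,3,3,0,4],
  [0,4,3,4,3,3,1,2],
  [0,4,3,4,3,3,1,4],
  [0,4,3,4,3,3,4,2],
  [0,4,3,4,3,3,4,3],
  [0,4,3,4,3,4,2,2],
  [0,4,3,4,3,4,3,0],
  [0,4,3,4,3,4,3,1],
  [0,4,3,4,3,4,3,3],
  [0,4,3,4,3,4,3,4],
  [1,4,2,2,4,2,4,2],
  [1,4,2,2,4,2,4,3],
  [1,4,2,2,4,3,3,4],
  [1,4,2,2,4,3,4,3],
  [1,4,2,4,2,2,2,4],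
  [1,4,2,4,2,2,4,2],
  [1,4,2,4,2,2,4,3],
  [1,4,2,4,2,4,2,2],
  [1,4,2,4,2,4,2,4],
  [1,4,2,4,3,3,4,3]]

/-- transversal of the point stabiliser, part 5 -/
def top5 : List (List ℕ) := [
  [1,4,3,3,4,2,4,2],
  [1,4,3,4,2,2,2,4],
  [1,4,3,4,2,2,4,2],
  [1,4,3,4,3,3,4,2],
  [1,4,3,4,3,3,4,3],
  [1,4,3,4,3,4,3,3],
  [1,4,3,4,3,4,3,4],
  [4,2,0,4,2,2,0,2],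
  [4,2,0,4,2,2,0,3],
  [4,2,0,4,2,2,0,4],
  [4,2,0,4,2,2,1,2],
  [4,2,0,4,2,2,1,3],
  [4,2,0,4,2,2,1,4],
  [4,2,0,4,2,2,4,2],
  [4,2,0,4,2,2,4,3],
  [4,2,0,4,2,4,2,0],
  [4,2,0,4,2,4,2,1],
  [4,2,0,4,2,4,2,4],
  [4,2,1,4,2,2,4,2],
  [4,2,1,4,2,2,4,3],
  [4,2,1,4,2,4,2,4],
  [4,2,2,0,2,0,2,0],
  [4,2,2,0,2,0,2,1],
  [4,2,2,0,2,0,2,4],
  [4,2,2,0,2,0,3,0],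
  [4,2,2,0,2,0,3,1],
  [4,2,2,0,2,0,3,4],
  [4,2,2,0,2,0,4,2],
  [4,2,2,0,2,0,4,3],
  [4,2,2,0,2,1,2,4],
  [4,2,2,0,2,1,3,4],
  [4,2,2,0,2,1,4,2],
  [4,2,2,0,2,1,4,3],
  [4,2,2,0,2,2,0,4],
  [4,2,2,0,2,2,1,4],
  [4,2,2,0,2,4,2,0],
  [4,2,2,0,2,4,2,1],
  [4,2,2,0,2,4,2,2],
  [4,2,2,0,2,4,3,3],
  [4,2,2,0,2,4,3,4],
  [4,2,2,0,3,4,2,2],
  [4,2,2,0,3,4,3,3],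
  [4,2,2,0,4,2,0,2],
  [4,2,2,0,4,2,0,3],
  [4,2,2,0,4,2,0,4],
  [4,2,2,0,4,2,1,2],
  [4,2,2,0,4,2,1,3],
  [4,2,2,0,4,2,1,4],
  [4,2,2,0,4,2,4,2],
  [4,2,2,0,4,2,4,3],
  [4,2,2,1,2,4,2,2],
  [4,2,2,1,2,4,3,3],
  [4,2,2,1,2,4,3,4],
  [4,2,2,1,3,4,2,2],
  [4,2,2,1,3,4,2,4],
  [4,2,2,1,3,4,3,3],
  [4,2,2,1,3,4,3,4],
  [4,2,2,1,4,2,4,2],
  [4,2,2,1,4,2,4,3],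
  [4,2,2,1,4,3,4,2],
  [4,2,2,2,0,2,0,2],
  [4,2,2,2,0,2,0,3],
  [4,2,2,2,0,2,0,4],
  [4,2,2,2,0,2,1,2],
  [4,2,2,2,0,2,1,3],
  [4,2,2,2,0,2,1,4],
  [4,2,2,2,0,2,4,2],
  [4,2,2,2,0,3,0,2],
  [4,2,2,2,0,3,0,3],
  [4,2,2,2,0,3,0,4],
  [4,2,2,2,0,3,1,2],
  [4,2,2,2,0,3,1,3],
  [4,2,2,2,0,3,1,4],
  [4,2,2,2,0,3,4,3],
  [4,2,2,2,0,4,2,0],
  [4,2,2,2,0,4,2,1],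
  [4,2,2,2,0,4,2,4],
  [4,2,2,2,0,4,3,0],
  [4,2,2,2,0,4,3,1],
  [4,2,2,2,0,4,3,4],
  [4,2,2,2,1,2,4,2],
  [4,2,2,2,1,3,4,3],
  [4,2,2,2,1,4,2,4],
  [4,2,2,2,1,4,3,4],
  [4,2,2,2,4,2,0,3],
  [4,2,2,2,4,2,1,3],
  [4,2,2,2,4,2,4,3],
  [4,2,2,2,4,3,0,2],
  [4,2,2,2,4,3,1,2],
  [4,2,2,2,4,3,4,2],
  [4,2,2,4,2,0,2,0],
  [4,2,2,4,2,0,2,1],
  [4,2,2,4,2,0,2,4],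
  [4,2,2,4,2,0,3,0],
  [4,2,2,4,2,0,3,1],
  [4,2,2,4,2,0,3,4],
  [4,2,2,4,2,0,4,2],
  [4,2,2,4,2,0,4,3],
  [4,2,2,4,2,1,2,4],
  [4,2,2,4,2,1,3,4],
  [4,2,2,4,2,1,4,2],
  [4,2,2,4,2,1,4,3],
  [4,2,2,4,2,4,2,4],
  [4,2,2,4,2,4,3,4],
  [4,2,2,4,3,4,2,2],
  [4,2,2,4,3,4,3,3],
  [4,2,4,2,0,2,0,3],
  [4,2,4,2,0,2,0,4],
  [4,2,4,2,0,2,1,3],
  [4,2,4,2,0,2,1,4],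
  [4,2,4,2,0,2,2,0],
  [4,2,4,2,0,2,2,1],
  [4,2,4,2,0,2,2,4],
  [4,2,4,2,0,2,4,3],
  [4,2,4,2,0,4,2,0],
  [4,2,4,2,0,4,2,1],
  [4,2,4,2,0,4,2,2],
  [4,2,4,2,1,2,2,4],
  [4,2,4,2,1,2,4,3],
  [4,2,4,2,1,4,2,2],
  [4,2,4,2,2,0,3,0],
  [4,2,4,2,2,0,3,1],
  [4,2,4,2,2,0,3,3],
  [4,2,4,2,2,0,4,3],
  [4,2,4,2,2,1,3,3],
  [4,2,4,2,2,1,4,3],
  [4,2,4,2,2,2,0,2],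
  [4,2,4,2,2,2,0,4]]

/-- transversal of the point stabiliser, part 6 -/
def top6 : List (List ℕ) := [
  [4,2,4,2,2,2,1,2],
  [4,2,4,2,2,2,1,4],
  [4,2,4,2,2,2,4,3],
  [4,2,4,2,2,4,2,0],
  [4,2,4,2,2,4,2,1],
  [4,2,4,2,2,4,2,2],
  [4,2,4,2,2,4,2,4],
  [4,2,4,2,2,4,3,3],
  [4,2,4,2,4,2,0,3],
  [4,2,4,2,4,2,1,3],
  [4,2,4,2,4,2,2,0],
  [4,2,4,2,4,2,2,1],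
  [4,2,4,2,4,2,2,2],
  [4,2,4,2,4,2,2,4],
  [4,2,4,2,4,2,4,2],
  [4,2,4,2,4,2,4,3],
  [4,2,4,3,3,0,4,3],
  [4,2,4,3,3,1,4,3],
  [4,2,4,3,3,4,3,0],
  [4,2,4,3,3,4,3,1],
  [4,2,4,3,3,4,3,4],
  [4,2,4,3,4,3,3,0],
  [4,2,4,3,4,3,3,1],
  [4,2,4,3,4,3,3,4],
  [4,3,0,4,3,3,0,2],
  [4,3,0,4,3,3,0,3],
  [4,3,0,4,3,3,0,4],
  [4,3,0,4,3,3,1,2],
  [4,3,0,4,3,3,1,3],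
  [4,3,0,4,3,3,1,4],
  [4,3,0,4,3,3,4,2],
  [4,3,0,4,3,3,4,3],
  [4,3,1,4,3,3,4,2],
  [4,3,1,4,3,3,4,3],
  [4,3,1,4,3,4,3,4],
  [4,3,3,0,3,0,2,0],
  [4,3,3,0,3,0,2,1],
  [4,3,3,0,3,0,3,0],
  [4,3,3,0,3,0,3,1],
  [4,3,3,0,3,0,3,4],
  [4,3,3,0,3,0,4,3],
  [4,3,3,0,3,1,2,4],
  [4,3,3,0,3,1,3,4],
  [4,3,3,0,3,1,4,3],
  [4,3,3,0,3,4,3,0],
  [4,3,3,0,3,4,3,1],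
  [4,3,3,0,3,4,3,3],
  [4,3,3,0,4,3,0,3],
  [4,3,3,0,4,3,0,4],
  [4,3,3,0,4,3,1,2],
  [4,3,3,0,4,3,1,3],
  [4,3,3,0,4,3,1,4],
  [4,3,3,0,4,3,4,3],
  [4,3,3,1,4,3,4,3],
  [4,3,3,4,2,4,2,2],
  [4,3,4,2,2,1,4,2],
  [4,3,4,2,2,2,4,2],
  [4,3,4,2,2,4,2,2],
  [4,3,4,3,0,3,0,4],
  [4,3,4,3,0,3,1,2],
  [4,3,4,3,0,3,1,4],
  [4,3,4,3,0,4,3,0],
  [4,3,4,3,0,4,3,1],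
  [4,3,4,3,1,4,3,3],
  [4,3,4,3,3,0,2,2],
  [4,3,4,3,3,1,2,2],
  [4,3,4,3,3,4,2,2],
  [4,3,4,3,3,4,3,0],
  [4,3,4,3,3,4,3,1],
  [4,3,4,3,3,4,3,3],
  [4,3,4,3,4,2,2,2],
  [4,3,4,3,4,3,0,2],
  [4,3,4,3,4,3,1,2],
  [4,3,4,3,4,3,4,2],
  [0,0,4,2,2,4,2,4,2],
  [0,0,4,2,2,4,2,4,3],
  [0,0,4,2,4,2,2,2,4],
  [0,0,4,2,4,2,2,4,2],
  [0,0,4,2,4,2,2,4,3],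
  [0,0,4,2,4,2,4,2,2],
  [0,0,4,2,4,2,4,2,4],
  [0,0,4,2,4,3,3,4,3],
  [0,0,4,3,4,2,2,2,4],
  [0,0,4,3,4,2,2,4,2],
  [0,0,4,3,4,3,3,4,2],
  [0,0,4,3,4,3,3,4,3],
  [0,0,4,3,4,3,4,3,3],
  [0,0,4,3,4,3,4,3,4],
  [0,4,2,0,4,2,2,0,2],
  [0,4,2,0,4,2,2,0,3],
  [0,4,2,0,4,2,2,0,4],
  [0,4,2,0,4,2,2,1,2],
  [0,4,2,0,4,2,2,1,3],
  [0,4,2,0,4,2,2,1,4],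
  [0,4,2,0,4,2,2,4,2],
  [0,4,2,0,4,2,4,2,0],
  [0,4,2,0,4,2,4,2,1],
  [0,4,2,0,4,2,4,2,4],
  [0,4,2,1,4,2,2,4,2],
  [0,4,2,1,4,2,4,2,4],
  [0,4,2,2,0,2,0,2,0],
  [0,4,2,2,0,2,0,2,1],
  [0,4,2,2,0,2,0,2,4],
  [0,4,2,2,0,2,0,3,0],
  [0,4,2,2,0,2,0,3,1],
  [0,4,2,2,0,2,0,3,4],
  [0,4,2,2,0,2,0,4,2],
  [0,4,2,2,0,2,0,4,3],
  [0,4,2,2,0,2,1,2,4],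
  [0,4,2,2,0,2,1,3,4],
  [0,4,2,2,0,2,1,4,2],
  [0,4,2,2,0,2,1,4,3],
  [0,4,2,2,0,2,2,0,4],
  [0,4,2,2,0,2,2,1,4],
  [0,4,2,2,0,2,4,2,0],
  [0,4,2,2,0,2,4,2,1],
  [0,4,2,2,0,2,4,2,2],
  [0,4,2,2,0,2,4,3,3],
  [0,4,2,2,0,2,4,3,4],
  [0,4,2,2,0,4,2,0,2],
  [0,4,2,2,0,4,2,0,3],
  [0,4,2,2,0,4,2,0,4],
  [0,4,2,2,0,4,2,1,2],
  [0,4,2,2,0,4,2,1,3],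
  [0,4,2,2,0,4,2,1,4],
  [0,4,2,2,0,4,2,4,2],
  [0,4,2,2,0,4,2,4,3],
  [0,4,2,2,1,2,4,2,2]]

/-- transversal of the point stabiliser, part 7 -/
def top7 : List (List ℕ) := [
  [0,4,2,2,1,2,4,3,3],
  [0,4,2,2,1,2,4,3,4],
  [0,4,2,2,1,4,2,4,2],
  [0,4,2,2,1,4,2,4,3],
  [0,4,2,2,2,0,2,0,2],
  [0,4,2,2,2,0,2,0,3],
  [0,4,2,2,2,0,2,0,4],
  [0,4,2,2,2,0,2,1,2],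
  [0,4,2,2,2,0,2,1,3],
  [0,4,2,2,2,0,2,1,4],
  [0,4,2,2,2,0,2,4,2],
  [0,4,2,2,2,0,3,0,2],
  [0,4,2,2,2,0,3,0,3],
  [0,4,2,2,2,0,3,0,4],
  [0,4,2,2,2,0,3,1,2],
  [0,4,2,2,2,0,3,1,3],
  [0,4,2,2,2,0,3,1,4],
  [0,4,2,2,2,0,3,4,3],
  [0,4,2,2,2,0,4,2,0],
  [0,4,2,2,2,0,4,2,1],
  [0,4,2,2,2,0,4,2,4],
  [0,4,2,2,2,0,4,3,0],
  [0,4,2,2,2,0,4,3,1],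
  [0,4,2,2,2,0,4,3,4],
  [0,4,2,2,2,1,2,4,2],
  [0,4,2,2,2,1,3,4,3],
  [0,4,2,2,2,1,4,2,4],
  [0,4,2,2,2,1,4,3,4],
  [0,4,2,2,2,4,2,4,3],
  [0,4,2,2,2,4,3,4,2],
  [0,4,2,2,4,2,0,2,0],
  [0,4,2,2,4,2,0,2,1],
  [0,4,2,2,4,2,0,2,4],
  [0,4,2,2,4,2,0,3,0],
  [0,4,2,2,4,2,0,3,1],
  [0,4,2,2,4,2,0,3,4],
  [0,4,2,2,4,2,0,4,2],
  [0,4,2,2,4,2,0,4,3],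
  [0,4,2,2,4,2,1,2,4],
  [0,4,2,2,4,2,1,3,4],
  [0,4,2,2,4,2,1,4,2],
  [0,4,2,2,4,2,1,4,3],
  [0,4,2,2,4,2,4,2,4],
  [0,4,2,2,4,2,4,3,4],
  [0,4,2,2,4,3,4,2,2],
  [0,4,2,2,4,3,4,3,3],
  [0,4,2,4,2,0,2,0,3],
  [0,4,2,4,2,0,2,0,4],
  [0,4,2,4,2,0,2,1,3],
  [0,4,2,4,2,0,2,1,4],
  [0,4,2,4,2,0,2,2,0],
  [0,4,2,4,2,0,2,2,1],
  [0,4,2,4,2,0,2,2,4],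
  [0,4,2,4,2,0,2,4,3],
  [0,4,2,4,2,0,4,2,0],
  [0,4,2,4,2,0,4,2,1],
  [0,4,2,4,2,0,4,2,2],
  [0,4,2,4,2,1,2,2,4],
  [0,4,2,4,2,1,2,4,3],
  [0,4,2,4,2,1,4,2,2],
  [0,4,2,4,2,2,0,3,0],
  [0,4,2,4,2,2,0,3,1],
  [0,4,2,4,2,2,0,3,3],
  [0,4,2,4,2,2,0,4,3],
  [0,4,2,4,2,2,1,3,3],
  [0,4,2,4,2,2,1,4,3],
  [0,4,2,4,2,2,2,0,2],
  [0,4,2,4,2,2,2,0,4],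
  [0,4,2,4,2,2,2,1,2],
  [0,4,2,4,2,2,2,1,4],
  [0,4,2,4,2,2,2,4,3],
  [0,4,2,4,2,2,4,2,0],
  [0,4,2,4,2,2,4,2,1],
  [0,4,2,4,2,2,4,2,2],
  [0,4,2,4,2,2,4,2,4],
  [0,4,2,4,2,2,4,3,3],
  [0,4,2,4,2,4,2,2,0],
  [0,4,2,4,2,4,2,2,1],
  [0,4,2,4,2,4,2,2,2],
  [0,4,2,4,2,4,2,2,4],
  [0,4,2,4,2,4,2,4,2],
  [0,4,2,4,2,4,2,4,3],
  [0,4,2,4,3,3,0,4,3],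
  [0,4,2,4,3,3,1,4,3],
  [0,4,2,4,3,3,4,3,0],
  [0,4,2,4,3,3,4,3,1],
  [0,4,2,4,3,3,4,3,4],
  [0,4,2,4,3,4,3,3,0],
  [0,4,2,4,3,4,3,3,1],
  [0,4,2,4,3,4,3,3,4],
  [0,4,3,0,4,3,3,0,2],
  [0,4,3,0,4,3,3,0,3],
  [0,4,3,0,4,3,3,0,4],
  [0,4,3,0,4,3,3,1,2],
  [0,4,3,0,4,3,3,1,3],
  [0,4,3,0,4,3,3,1,4],
  [0,4,3,0,4,3,3,4,3],
  [0,4,3,1,4,3,3,4,3],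
  [0,4,3,1,4,3,4,3,4],
  [0,4,3,3,0,3,0,2,0],
  [0,4,3,3,0,3,0,2,1],
  [0,4,3,3,0,3,0,3,0],
  [0,4,3,3,0,3,0,3,1],
  [0,4,3,3,0,3,0,3,4],
  [0,4,3,3,0,3,0,4,3],
  [0,4,3,3,0,3,1,2,4],
  [0,4,3,3,0,3,1,3,4],
  [0,4,3,3,0,3,1,4,3],
  [0,4,3,3,0,3,4,3,0],
  [0,4,3,3,0,3,4,3,1],
  [0,4,3,3,0,3,4,3,3],
  [0,4,3,3,0,4,3,0,3],
  [0,4,3,3,0,4,3,0,4],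
  [0,4,3,3,0,4,3,1,2],
  [0,4,3,3,0,4,3,1,3],
  [0,4,3,3,0,4,3,1,4],
  [0,4,3,3,0,4,3,4,3],
  [0,4,3,3,1,4,3,4,3],
  [0,4,3,3,4,2,4,2,2],
  [0,4,3,4,2,2,1,4,2],
  [0,4,3,4,2,2,2,4,2],
  [0,4,3,4,2,2,4,2,2],
  [0,4,3,4,3,0,3,0,4],
  [0,4,3,4,3,0,3,1,2],
  [0,4,3,4,3,0,3,1,4],
  [0,4,3,4,3,0,4,3,0],
  [0,4,3,4,3,0,4,3,1],
  [0,4,3,4,3,1,4,3,3]]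

/-- transversal of the point stabiliser, part 8 -/
def top8 : List (List ℕ) := [
  [0,4,3,4,3,3,0,2,2],
  [0,4,3,4,3,3,1,2,2],
  [0,4,3,4,3,3,4,2,2],
  [0,4,3,4,3,3,4,3,0],
  [0,4,3,4,3,3,4,3,1],
  [0,4,3,4,3,3,4,3,3],
  [0,4,3,4,3,4,2,2,2],
  [0,4,3,4,3,4,3,4,2],
  [1,4,2,2,4,2,4,2,4],
  [1,4,2,2,4,2,4,3,4],
  [1,4,2,2,4,3,4,3,3],
  [1,4,2,4,2,2,2,4,3],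
  [1,4,2,4,2,2,4,2,2],
  [1,4,2,4,2,2,4,3,3],
  [1,4,2,4,2,4,2,4,3],
  [1,4,3,3,4,2,4,2,2],
  [1,4,3,4,2,2,2,4,2],
  [1,4,3,4,3,3,4,2,2],
  [1,4,3,4,3,3,4,3,3],
  [1,4,3,4,3,4,3,4,2],
  [4,2,0,4,2,2,0,3,0],
  [4,2,0,4,2,2,0,3,1],
  [4,2,0,4,2,2,0,3,3],
  [4,2,0,4,2,2,0,3,4],
  [4,2,0,4,2,2,0,4,2],
  [4,2,0,4,2,2,1,3,3],
  [4,2,0,4,2,2,1,3,4],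
  [4,2,0,4,2,2,1,4,2],
  [4,2,0,4,2,2,4,3,0],
  [4,2,0,4,2,2,4,3,1],
  [4,2,0,4,2,2,4,3,4],
  [4,2,0,4,2,4,2,0,4],
  [4,2,0,4,2,4,2,1,4],
  [4,2,0,4,2,4,2,4,2],
  [4,2,1,4,2,2,4,3,4],
  [4,2,1,4,2,4,2,4,2],
  [4,2,2,0,2,0,2,0,4],
  [4,2,2,0,2,0,2,1,4],
  [4,2,2,0,2,0,3,0,2],
  [4,2,2,0,2,0,3,1,2],
  [4,2,2,0,2,0,3,4,3],
  [4,2,2,0,2,0,4,2,0],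
  [4,2,2,0,2,0,4,2,1],
  [4,2,2,0,2,0,4,2,2],
  [4,2,2,0,2,0,4,3,3],
  [4,2,2,0,2,1,3,4,3],
  [4,2,2,0,2,1,4,2,2],
  [4,2,2,0,2,1,4,3,3],
  [4,2,2,0,2,4,2,0,2],
  [4,2,2,0,2,4,2,1,2],
  [4,2,2,0,2,4,2,2,0],
  [4,2,2,0,2,4,2,2,1],
  [4,2,2,0,2,4,2,2,2],
  [4,2,2,0,2,4,3,4,2],
  [4,2,2,0,2,4,3,4,3],
  [4,2,2,0,3,4,2,2,2],
  [4,2,2,0,4,2,0,2,0],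
  [4,2,2,0,4,2,0,2,1],
  [4,2,2,0,4,2,0,2,4],
  [4,2,2,0,4,2,0,3,0],
  [4,2,2,0,4,2,0,3,1],
  [4,2,2,0,4,2,1,2,4],
  [4,2,2,0,4,2,4,2,0],
  [4,2,2,0,4,2,4,2,1],
  [4,2,2,0,4,2,4,2,2],
  [4,2,2,1,2,4,2,2,2],
  [4,2,2,1,2,4,3,4,2],
  [4,2,2,1,2,4,3,4,3],
  [4,2,2,1,3,4,2,2,2],
  [4,2,2,1,3,4,2,4,2],
  [4,2,2,1,3,4,3,4,3],
  [4,2,2,1,4,2,4,2,2],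
  [4,2,2,2,0,2,0,3,0],
  [4,2,2,2,0,2,0,3,1],
  [4,2,2,2,0,2,0,3,3],
  [4,2,2,2,0,2,0,3,4],
  [4,2,2,2,0,2,0,4,2],
  [4,2,2,2,0,2,0,4,3],
  [4,2,2,2,0,2,1,3,3],
  [4,2,2,2,0,2,1,3,4],
  [4,2,2,2,0,2,1,4,2],
  [4,2,2,2,0,2,1,4,3],
  [4,2,2,2,0,2,4,2,2],
  [4,2,2,2,0,3,0,2,2],
  [4,2,2,2,0,3,0,2,4],
  [4,2,2,2,0,3,0,4,2],
  [4,2,2,2,0,3,1,2,2],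
  [4,2,2,2,0,3,1,2,4],
  [4,2,2,2,0,3,1,4,2],
  [4,2,2,2,0,3,4,3,3],
  [4,2,2,2,0,4,2,0,3],
  [4,2,2,2,0,4,2,0,4],
  [4,2,2,2,0,4,2,1,3],
  [4,2,2,2,0,4,2,1,4],
  [4,2,2,2,0,4,2,4,2],
  [4,2,2,2,0,4,2,4,3],
  [4,2,2,2,0,4,3,0,2],
  [4,2,2,2,0,4,3,1,2],
  [4,2,2,2,0,4,3,4,2],
  [4,2,2,2,0,4,3,4,3],
  [4,2,2,2,1,2,4,2,2],
  [4,2,2,2,1,3,4,3,3],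
  [4,2,2,2,1,4,2,4,2],
  [4,2,2,2,1,4,2,4,3],
  [4,2,2,2,1,4,3,4,2],
  [4,2,2,2,1,4,3,4,3],
  [4,2,2,2,4,2,0,3,3],
  [4,2,2,2,4,2,1,3,3],
  [4,2,2,2,4,2,4,3,0],
  [4,2,2,2,4,2,4,3,1],
  [4,2,2,2,4,2,4,3,4],
  [4,2,2,2,4,3,4,2,4],
  [4,2,2,4,2,0,2,0,4],
  [4,2,2,4,2,0,2,1,4],
  [4,2,2,4,2,0,2,4,2],
  [4,2,2,4,2,0,3,0,4],
  [4,2,2,4,2,0,3,1,4],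
  [4,2,2,4,2,0,3,4,3],
  [4,2,2,4,2,0,4,2,2],
  [4,2,2,4,2,0,4,3,3],
  [4,2,2,4,2,1,2,4,2],
  [4,2,2,4,2,1,3,4,3],
  [4,2,2,4,2,1,4,2,2],
  [4,2,2,4,2,1,4,3,3],
  [4,2,2,4,2,4,2,4,2],
  [4,2,2,4,2,4,3,4,3],
  [4,2,2,4,3,4,2,2,2],
  [4,2,2,4,3,4,2,2,4]]

/-- transversal of the point stabiliser, part 9 -/
def top9 : List (List ℕ) := [
  [4,2,2,4,3,4,3,3,0],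
  [4,2,2,4,3,4,3,3,1],
  [4,2,4,2,0,2,0,3,0],
  [4,2,4,2,0,2,0,3,1],
  [4,2,4,2,0,2,0,4,3],
  [4,2,4,2,0,2,1,4,3],
  [4,2,4,2,0,2,2,0,4],
  [4,2,4,2,0,2,2,1,4],
  [4,2,4,2,0,2,2,4,2],
  [4,2,4,2,0,2,4,3,3],
  [4,2,4,2,1,2,2,4,2],
  [4,2,4,2,1,2,4,3,3],
  [4,2,4,2,2,0,3,0,2],
  [4,2,4,2,2,0,3,1,2],
  [4,2,4,2,2,2,0,2,2],
  [4,2,4,2,2,2,0,4,2],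
  [4,2,4,2,2,2,1,2,2],
  [4,2,4,2,2,2,1,4,2],
  [4,2,4,2,2,2,4,3,1],
  [4,2,4,2,2,4,2,0,4],
  [4,2,4,2,2,4,2,1,3],
  [4,2,4,2,2,4,2,1,4],
  [4,2,4,2,2,4,2,2,2],
  [4,2,4,2,2,4,2,2,4],
  [4,2,4,2,4,2,0,3,4],
  [4,2,4,2,4,2,1,3,4],
  [4,2,4,2,4,2,2,0,4],
  [4,2,4,2,4,2,2,1,4],
  [4,2,4,2,4,2,2,2,4],
  [4,2,4,2,4,2,4,2,2],
  [4,2,4,2,4,2,4,3,3],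
  [4,2,4,3,3,0,4,3,3],
  [4,2,4,3,3,0,4,3,4],
  [4,2,4,3,3,1,4,3,3],
  [4,2,4,3,3,1,4,3,4],
  [4,2,4,3,3,4,3,0,2],
  [4,2,4,3,3,4,3,0,4],
  [4,2,4,3,3,4,3,1,2],
  [4,2,4,3,3,4,3,1,4],
  [4,2,4,3,4,3,3,4,3],
  [4,3,0,4,3,3,0,2,0],
  [4,3,0,4,3,3,0,2,1],
  [4,3,0,4,3,3,0,2,2],
  [4,3,0,4,3,3,0,2,4],
  [4,3,0,4,3,3,1,2,2],
  [4,3,0,4,3,3,1,2,4],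
  [4,3,0,4,3,3,4,2,0],
  [4,3,0,4,3,3,4,2,1],
  [4,3,0,4,3,3,4,2,4],
  [4,3,1,4,3,3,4,2,4],
  [4,3,1,4,3,4,3,4,3],
  [4,3,3,0,3,0,3,0,4],
  [4,3,3,0,3,0,3,1,4],
  [4,3,3,0,3,0,4,3,0],
  [4,3,3,0,3,0,4,3,1],
  [4,3,3,0,3,0,4,3,3],
  [4,3,3,0,3,1,2,4,2],
  [4,3,3,0,3,1,4,3,3],
  [4,3,3,0,4,3,0,3,0],
  [4,3,3,0,4,3,0,3,1],
  [4,3,3,0,4,3,0,3,4],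
  [4,3,3,0,4,3,1,3,4],
  [4,3,3,0,4,3,4,3,3],
  [4,3,3,1,4,3,4,3,3],
  [4,3,3,4,2,4,2,2,0],
  [4,3,3,4,2,4,2,2,1],
  [4,3,4,2,2,1,4,2,2],
  [4,3,4,2,2,1,4,2,4],
  [4,3,4,2,2,2,4,2,1],
  [4,3,4,3,3,4,2,2,0],
  [4,3,4,3,3,4,2,2,2],
  [4,3,4,3,3,4,3,3,4],
  [4,3,4,3,4,2,2,2,4],
  [4,3,4,3,4,3,0,2,4],
  [4,3,4,3,4,3,1,2,4],
  [4,3,4,3,4,3,4,2,2],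
  [0,0,4,2,2,4,2,4,2,4],
  [0,0,4,2,2,4,2,4,3,4],
  [0,0,4,2,4,2,2,4,2,2],
  [0,0,4,2,4,2,4,2,4,3],
  [0,0,4,3,4,3,3,4,3,3],
  [0,0,4,3,4,3,4,3,4,2],
  [0,4,2,0,4,2,2,0,3,3],
  [0,4,2,0,4,2,2,0,4,2],
  [0,4,2,0,4,2,2,1,3,3],
  [0,4,2,0,4,2,2,1,4,2],
  [0,4,2,0,4,2,4,2,0,4],
  [0,4,2,0,4,2,4,2,1,4],
  [0,4,2,0,4,2,4,2,4,2],
  [0,4,2,1,4,2,4,2,4,2],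
  [0,4,2,2,0,2,0,2,0,4],
  [0,4,2,2,0,2,0,2,1,4],
  [0,4,2,2,0,2,0,4,2,0],
  [0,4,2,2,0,2,0,4,2,1],
  [0,4,2,2,0,2,0,4,2,2],
  [0,4,2,2,0,2,0,4,3,3],
  [0,4,2,2,0,2,1,4,2,2],
  [0,4,2,2,0,2,1,4,3,3],
  [0,4,2,2,0,2,4,2,0,2],
  [0,4,2,2,0,2,4,2,1,2],
  [0,4,2,2,0,2,4,2,2,0],
  [0,4,2,2,0,2,4,2,2,1],
  [0,4,2,2,0,2,4,2,2,2],
  [0,4,2,2,0,2,4,3,4,2],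
  [0,4,2,2,0,4,2,0,2,0],
  [0,4,2,2,0,4,2,0,2,1],
  [0,4,2,2,0,4,2,0,2,4],
  [0,4,2,2,0,4,2,0,3,0],
  [0,4,2,2,0,4,2,0,3,1],
  [0,4,2,2,0,4,2,1,2,4],
  [0,4,2,2,0,4,2,4,2,0],
  [0,4,2,2,0,4,2,4,2,1],
  [0,4,2,2,0,4,2,4,2,2],
  [0,4,2,2,1,2,4,2,2,2],
  [0,4,2,2,1,2,4,3,4,2],
  [0,4,2,2,1,4,2,4,2,2],
  [0,4,2,2,2,0,2,0,3,4],
  [0,4,2,2,2,0,2,0,4,2],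
  [0,4,2,2,2,0,2,1,3,4],
  [0,4,2,2,2,0,2,1,4,2],
  [0,4,2,2,2,0,2,1,4,3],
  [0,4,2,2,2,0,2,4,2,2],
  [0,4,2,2,2,0,3,0,2,4],
  [0,4,2,2,2,0,3,1,2,4],
  [0,4,2,2,2,0,3,1,4,2],
  [0,4,2,2,2,0,3,4,3,3],
  [0,4,2,2,2,0,4,2,0,3],
  [0,4,2,2,2,0,4,2,0,4]]

/-- transversal of the point stabiliser, part 10 -/
def top10 : List (List ℕ) := [
  [0,4,2,2,2,0,4,2,1,3],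
  [0,4,2,2,2,0,4,2,1,4],
  [0,4,2,2,2,0,4,2,4,2],
  [0,4,2,2,2,0,4,3,0,2],
  [0,4,2,2,2,0,4,3,1,2],
  [0,4,2,2,2,0,4,3,4,3],
  [0,4,2,2,2,1,2,4,2,2],
  [0,4,2,2,2,1,3,4,3,3],
  [0,4,2,2,2,1,4,2,4,2],
  [0,4,2,2,2,1,4,3,4,3],
  [0,4,2,2,2,4,2,4,3,0],
  [0,4,2,2,2,4,2,4,3,1],
  [0,4,2,2,2,4,2,4,3,4],
  [0,4,2,2,2,4,3,4,2,4],
  [0,4,2,2,4,2,0,4,2,2],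
  [0,4,2,2,4,2,0,4,3,3],
  [0,4,2,2,4,2,1,4,2,2],
  [0,4,2,2,4,2,1,4,3,3],
  [0,4,2,2,4,3,4,2,2,4],
  [0,4,2,4,2,0,2,0,3,0],
  [0,4,2,4,2,0,2,0,3,1],
  [0,4,2,4,2,0,2,0,4,3],
  [0,4,2,4,2,0,2,1,4,3],
  [0,4,2,4,2,0,2,2,0,4],
  [0,4,2,4,2,0,2,2,1,4],
  [0,4,2,4,2,0,2,2,4,2],
  [0,4,2,4,2,0,2,4,3,3],
  [0,4,2,4,2,1,2,2,4,2],
  [0,4,2,4,2,1,2,4,3,3],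
  [0,4,2,4,2,2,0,3,0,2],
  [0,4,2,4,2,2,0,3,1,2],
  [0,4,2,4,2,2,2,0,2,2],
  [0,4,2,4,2,2,2,1,2,2],
  [0,4,2,4,2,2,4,2,0,4],
  [0,4,2,4,2,2,4,2,1,4],
  [0,4,2,4,2,2,4,2,2,2],
  [0,4,2,4,2,2,4,2,2,4],
  [0,4,2,4,2,4,2,2,0,4],
  [0,4,2,4,2,4,2,2,1,4],
  [0,4,2,4,2,4,2,2,2,4],
  [0,4,2,4,2,4,2,4,3,3],
  [0,4,2,4,3,3,0,4,3,4],
  [0,4,2,4,3,3,1,4,3,4],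
  [0,4,2,4,3,3,4,3,0,2],
  [0,4,2,4,3,3,4,3,0,4],
  [0,4,2,4,3,3,4,3,1,2],
  [0,4,2,4,3,3,4,3,1,4],
  [0,4,2,4,3,4,3,3,4,3],
  [0,4,3,0,4,3,3,0,2,2],
  [0,4,3,0,4,3,3,1,2,2],
  [0,4,3,1,4,3,4,3,4,3],
  [0,4,3,3,0,3,0,3,0,4],
  [0,4,3,3,0,3,0,3,1,4],
  [0,4,3,3,0,3,0,4,3,0],
  [0,4,3,3,0,3,0,4,3,1],
  [0,4,3,3,0,3,0,4,3,3],
  [0,4,3,3,0,3,1,4,3,3],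
  [0,4,3,3,0,4,3,0,3,0],
  [0,4,3,3,0,4,3,0,3,1],
  [0,4,3,3,0,4,3,0,3,4],
  [0,4,3,3,0,4,3,1,3,4],
  [0,4,3,3,0,4,3,4,3,3],
  [0,4,3,3,1,4,3,4,3,3],
  [0,4,3,4,2,2,1,4,2,4],
  [0,4,3,4,3,3,4,2,2,2],
  [0,4,3,4,3,3,4,3,3,4],
  [0,4,3,4,3,4,2,2,2,4],
  [0,4,3,4,3,4,3,4,2,2],
  [1,4,2,4,2,2,4,2,2,2],
  [1,4,2,4,2,2,4,2,2,4],
  [1,4,2,4,2,4,2,4,3,3],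
  [1,4,3,4,3,3,4,2,2,2],
  [1,4,3,4,3,3,4,3,3,4],
  [1,4,3,4,3,4,3,4,2,2],
  [4,2,0,4,2,2,0,3,0,4],
  [4,2,0,4,2,2,0,3,1,4],
  [4,2,0,4,2,2,0,3,3,4],
  [4,2,0,4,2,2,4,3,4,3],
  [4,2,1,4,2,2,4,3,4,3],
  [4,2,2,0,2,0,3,0,2,4],
  [4,2,2,0,2,0,3,1,2,4],
  [4,2,2,0,2,0,3,4,3,3],
  [4,2,2,0,2,0,3,4,3,4],
  [4,2,2,0,2,0,4,2,2,0],
  [4,2,2,0,2,0,4,2,2,1],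
  [4,2,2,0,2,1,3,4,3,4],
  [4,2,2,2,0,2,0,3,0,4],
  [4,2,2,2,0,2,0,3,1,4],
  [4,2,2,2,0,2,0,3,3,4],
  [4,2,2,2,0,2,1,3,3,4],
  [4,2,2,2,0,2,4,2,2,4],
  [4,2,2,2,0,3,0,2,2,4],
  [4,2,2,2,0,3,1,2,2,4],
  [4,2,2,2,0,3,4,3,3,4],
  [4,2,2,2,0,4,2,4,2,2],
  [4,2,2,2,0,4,3,4,3,3],
  [4,2,2,2,1,2,4,2,2,4],
  [4,2,2,2,1,3,4,3,3,4],
  [4,2,2,2,1,4,2,4,2,2],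
  [4,2,2,2,1,4,3,4,3,3],
  [4,2,2,4,2,0,2,4,2,0],
  [4,2,2,4,2,0,2,4,2,1],
  [4,2,2,4,2,0,4,2,2,4],
  [4,2,2,4,2,1,4,2,2,4],
  [4,2,2,4,3,4,3,3,0,2],
  [4,2,2,4,3,4,3,3,1,2],
  [4,2,4,2,0,2,4,3,3,0],
  [4,2,4,2,0,2,4,3,3,1],
  [4,2,4,2,1,2,4,3,3,4],
  [4,2,4,2,2,4,2,2,4,3],
  [4,2,4,2,4,2,4,2,2,2],
  [4,2,4,2,4,2,4,3,3,0],
  [4,2,4,2,4,2,4,3,3,1],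
  [4,2,4,3,3,4,3,0,2,0],
  [4,2,4,3,3,4,3,0,2,1],
  [4,3,0,4,3,3,0,2,0,4],
  [4,3,0,4,3,3,0,2,1,4],
  [4,3,0,4,3,3,0,2,2,4],
  [4,3,0,4,3,3,4,2,4,2],
  [4,3,1,4,3,3,4,2,4,2],
  [4,3,3,4,2,4,2,2,0,3],
  [4,3,3,4,2,4,2,2,1,3],
  [4,3,4,3,4,3,4,2,2,0],
  [4,3,4,3,4,3,4,2,2,1],
  [0,4,2,4,2,4,2,4,3,3,0],
  [0,4,2,4,2,4,2,4,3,3,1],
  [0,4,3,4,3,4,3,4,2,2,0],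
  [0,4,3,4,3,4,3,4,2,2,1]]

/-- transversal of the point stabiliser -/
def topTrans : List (List ℕ) := top0 ++ top1 ++ top2 ++ top3 ++ top4 ++ top5 ++ top6 ++ top7 ++ top8 ++ top9 ++ top10

/-- transversal at level 1 -/
def trans1 : List (List ℕ) := [
  [],
  [0],
  [1],
  [0,0],
  [1,1],
  [2],
  [3],
  [0,0,0],
  [0,2],
  [2,2],
  [3,3],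
  [2,2,0],
  [0,0,3],
  [2,2,2],
  [3,3,1],
  [0,0,2,1,3,0,0],
  [1,1,3,0,2,1,1],
  [0,0,2],
  [1,1,3],
  [1,1,3,0,2,1],
  [2,2,0,0],
  [2,2,2,0],
  [2,2,2,1],
  [0,0,2,1,3,0],
  [3,3,1,2,0,3],
  [0,0,2,0],
  [0,0,2,1],
  [0,0,2,2],
  [0,0,0,2],
  [0,0,0,3],
  [2,2,0,3,1,2],
  [1,1,3,0],
  [1,1,3,1],
  [1,1,3,0,2],
  [0,0,2,1,3,0,2],
  [2,2,0,3,1,2,0],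
  [0,0,2,1,3],
  [0,0,2,1,3,0,2,0],
  [3,3,1,2,0],
  [0,0,0,2,0],
  [0,0,0,2,1],
  [0,0,0,3,0],
  [0,0,0,3,1],
  [2,2,0,3,1],
  [2,2,0,2],
  [2,2,0,3],
  [3,3,1,2],
  [3,3,1,3],
  [2,2,0,3,0],
  [2,2,2,0,3]]

/-- transversal at level 2 -/
def trans2 : List (List ℕ) := [
  [],
  [0,2,2,0,0,2,2,0],
  [1,1,3,1,2,1,3,1,1],
  [3,3,0,2,1,1],
  [0,0,3,3,0,0,0,2,1,3],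
  [1,2,1],
  [0,0,3,1,2,2,0,3,0],
  [0,3,0],
  [0,3,0,0,0,3,3,0,0],
  [1,3,3,1,1,2,1],
  [2,2,0,0,2,1,1,3,3],
  [1,3,3,1],
  [3,1,3,1,1,3,3,1],
  [0,0,0,2,2,2,1,1,1],
  [0,0,2,2,0,3,3,1,1],
  [0,0,3,3,0,0,3,1,3,1],
  [1,2,2,2,0],
  [1,3,3,1,1,2,1,1,2,1],
  [1,3,3,1,2,0,3,1,1,2,1],
  [1,3,3,1,2,2,0,0,3,1,1,3,3],
  [3,1,3,1,1,2,1],
  [0,0,3,1,2,2],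
  [0,2,2,0],
  [0,2,1,3,1,2,1],
  [2,2,0,0,0,0,2,2],
  [1,2,1,3,3,0,2,1,3,0],
  [3,1,3,0,3,1,2,2],
  [3,1,3,1],
  [0,2,1,3,0,3,0],
  [0,2,1,3,1,1,2,2,1,1],
  [1,3,3,1,2,0,3,1],
  [0,2,1,3],
  [0,0,3,3,0,0,0,3,0],
  [3,3,0,2,1,1,1,2,1],
  [0,3,0,2,0,3,1],
  [0,0,3,3,0,0],
  [0,3,0,0,2,1,3],
  [0,0,3,1,2,2,1,3,3,1],
  [1,2,1,3,3,0,2,1,1],
  [0,3,0,0,0,3,1,2,2],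
  [0,3,0,0,3,0],
  [0,2,2,0,0,0,3,1,2,2]]

/-- transversal at level 3 -/
def trans3 : List (List ℕ) := [
  [],
  [1,2,1,2,0,3,0,3,1,2,2],
  [1,3,3,1,3,3,0,2,1,3,0,0,2,2,0],
  [1,2,1,3,1,3,1,2,0,3,1,1,2,1],
  [3,3,0,2,1,1,3,1,2,0,0,2,0,2],
  [1,2,1,1,3,3,0,3,1,2,2,1,1,2,2,1,3,0],
  [2,0,2,2,1,3,1,3,1,2,0,3,1,1,2,1],
  [1,3,3,1,1,3,3,3,0,0,2,2,1,2,2,1,3,0],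
  [2,0,2,1,2,2,1,3,0],
  [2,0,2,0,3,3,1,1,1,1,3,3,0,3,0],
  [0,2,2,0,2,0,3,1,1,2,1,1,2,1],
  [1,1,2,2,1,3,0,2,0,2,1,2,2,1,3,0],
  [1,1,2,2,1,3,0],
  [2,0,2,0,3,3,0,2,1,2,2,0,0,3,0],
  [1,1,2,2,1,3,0,3,3,1,1,1,1,3,3,0,3,0],
  [2,0,2,0],
  [1,1,2,2,1,3,0,2,0,2,0],
  [0,3,0,0,2,2,0,2,0,3,1,1,2,1],
  [1,2,1,1,3,3,0,3,1,2,2,2,0,2,0],
  [3,3,0,2,1,2,2,0,0,3,0],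
  [0,2,2,1,2,2,2,0,3,0,2,0,0],
  [3,1,3,1,1,2,1,1,2,1,1,3,3,1],
  [1,2,1,1,2,0,3,1,2,2],
  [3,3,1,1,1,1,3,3,0,3,0],
  [1,1,2,2,1,3,0,3,3,0,2,1,2,2,0,0,3,0],
  [2,0,2,2,0,3,1,2,2,1,2,1],
  [1,3,3,1,1,3,3,3,0,0,2,2,0],
  [3,3,0,2,1,2,2,0,0,3,1,2,2,1,3,0],
  [1,2,1,1,3,3,0,3,1,2,2],
  [0,2,1,3,0,2,2,2,1,2,0,3,1]]

/-- transversal at level 4 -/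
def trans4 : List (List ℕ) := [
  [],
  [1,2,0,3,1,2,2,1,2,1]]

end CfsgLib.HN51
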