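import Cfsg.Agent.HNOrder51.Replay
import Cfsg.Agent.HNOrder51.ChainData

/-!
The action on 1408 points is faithful on `⟨x, y, z⟩` and the stabiliser of the point `0` commutes
with `t`, given the bound on groups with the first ten relations.
-/

set_option autoImplicit false
set_option Elab.async false
set_option maxRecDepth 100000

namespace CfsgLib.HN51

open Cfsg.Spor

/-- The first ten relations of the presentation. -/
def Rels10 {P : Type*} [Group P] (x y z : P) : Prop :=
  y ^ 6 = 1 ∧ (x ^ 2) * y * (x ^ 2) * (y⁻¹) = 1 ∧ (x⁻¹ * y⁻¹ * x * y) ^ 3 = 1 ∧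
    ((x⁻¹) * (y ^ 2) * x * (y ^ 3)) ^ 3 = 1 ∧ (x * y) ^ 8 = 1 ∧ (x * y * x * (y ^ 3)) ^ 4 = 1 ∧
    z ^ 2 = 1 ∧ (z * x) ^ 2 = 1 ∧
    (z⁻¹ * (y * x * y * x * (y ^ 2) * x * (y⁻¹))⁻¹ * z * (y * x * y * x * (y ^ 2) * x * (y⁻¹))) * ((x ^ 2)⁻¹) = 1 ∧
    z * (((((y ^ 3) * x * y * x * y)⁻¹ * z * ((y ^ 3) * x * y * x * y)) * x) ^ 3) = 1

/-- The bound on groups with the first ten relations. -/
def Bound10 : Prop :=
  ∀ (P : Type) [Group P] (x y z : P), Rels10 x y z → Subgroup.closure ({x, y, z} : Set P) = ⊤ →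
    Finite P ∧ Nat.card P ≤ 177408000

/-- every letter is undone by its inverse -/
def tableOK : Bool :=
  (List.range 1408).all fun i => (List.range 5).all fun a =>
    (act i a).blt 1408 && Nat.beq (act (act i a) (linv a)) i

theorem table_ok : tableOK = true := by decide +kernel

theorem act_spec {i a : ℕ} (hi : i < 1408) (ha : a < 5) :
    act i a < 1408 ∧ act (act i a) (linv a) = i := by
  have := List.all_eq_true.mp (List.all_eq_true.mp table_ok i (List.mem_range.mpr hi)) a
    (List.mem_range.mpr ha)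
  simpa [Nat.beq_eq] using this

theorem linv_linv {a : ℕ} (ha : a < 5) : linv (linv a) = a := by
  match a, ha with
  | 0, _ => rfl
  | 1, _ => rfl
  | 2, _ => rfl
  | 3, _ => rfl
  | 4, _ => rfl

/-- a letter as a permutation, acting by its inverse -/
def perm (a : ℕ) : Equiv.Perm (Fin 1408) :=
  if h : a < 5 then
    { toFun := fun i => ⟨act i (linv a), (act_spec i.2 (linv_lt h)).1⟩
      invFun := fun i => ⟨act i a, (act_spec i.2 h).1⟩
      left_inv := fun i => Fin.ext (by
        have := (act_spec i.2 (linv_lt h)).2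
        rwa [linv_linv h] at this)
      right_inv := fun i => Fin.ext (act_spec i.2 h).2 }
  else 1

/-- a word as a permutation -/
def permW (w : List ℕ) : Equiv.Perm (Fin 1408) := (w.map perm).prod

theorem permW_inv_apply : ∀ {w : List ℕ}, isN w = true → ∀ i : Fin 1408,
    (((permW w)⁻¹ i : Fin 1408) : ℕ) = run i w
  | [], _, i => by simp [permW, run]
  | a :: l, h, i => by
    simp only [isN, List.all_cons, Bool.and_eq_true, Nat.blt_eq] at h
    have e : (permW (a :: l))⁻¹ i = (permW l)⁻¹ ((perm a)⁻¹ i) := by simp [permW]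
    rw [e, permW_inv_apply (by simpa [isN] using h.2)]
    show run (((perm a)⁻¹ i : Fin 1408) : ℕ) l = run i (a :: l)
    rw [show (((perm a)⁻¹ i : Fin 1408) : ℕ) = act i a by simp [perm, h.1]]
    rfl

theorem perm_inv {a : ℕ} (ha : a < 5) : perm (linv a) = (perm a)⁻¹ := by
  ext i
  simp [perm, ha, linv_lt ha, linv_linv ha]

/-- The relators in letters, the last letter list being the inverse of `x ^ 2` where needed. -/
def relWords : List (List ℕ) :=
  let w := [2, 0, 2, 0, 2, 2, 0, 3]
  let u := [2, 2, 2, 0, 2, 0, 2]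
  [(List.replicate 6 [2]).flatten, [0, 0, 2, 0, 0, 3],
    (List.replicate 3 [1, 3, 0, 2]).flatten, (List.replicate 3 [1, 2, 2, 0, 2, 2, 2]).flatten,
    (List.replicate 8 [0, 2]).flatten, (List.replicate 4 [0, 2, 0, 2, 2, 2]).flatten,
    (List.replicate 2 [4]).flatten, (List.replicate 2 [4, 0]).flatten,
    [4] ++ winv w ++ [4] ++ w ++ [1, 1],
    [4] ++ (List.replicate 3 (winv u ++ [4] ++ u ++ [0])).flatten]

theorem relWords_fix :
    (relWords.all fun w => isN w && (List.range 1408).all fun i => Nat.beq (run i w) i) = true := by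
  decide +kernel

theorem permW_rel {w : List ℕ} (hw : w ∈ relWords) : permW w = 1 := by
  have h := List.all_eq_true.mp relWords_fix w hw
  simp only [Bool.and_eq_true, List.all_eq_true, List.mem_range, Nat.beq_eq] at h
  refine inv_eq_one.mp (Equiv.ext fun i => Fin.ext ?_)
  rw [permW_inv_apply h.1, h.2 i i.2, Equiv.Perm.one_apply]

/-- the pair of a letter -/
noncomputable def pairGen (a : ℕ) : Cfsg.Spor.HN × Equiv.Perm (Fin 1408) := (gen a, perm a)

/-- the pair of a word -/
noncomputable def pairW (w : List ℕ) : Cfsg.Spor.HN × Equiv.Perm (Fin 1408) := (ev w, permW w)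

theorem pairW_append (u w : List ℕ) : pairW (u ++ w) = pairW u * pairW w := by
  simp [pairW, ev_append, permW]

/-- The pairs. -/
noncomputable def pairs : Subgroup (Cfsg.Spor.HN × Equiv.Perm (Fin 1408)) :=
  Subgroup.closure {pairGen 0, pairGen 2, pairGen 4}

theorem mem_pairs : ∀ {w : List ℕ}, isN w = true → pairW w ∈ pairs
  | [], _ => one_mem pairs
  | a :: l, h => by
    simp only [isN, List.all_cons, Bool.and_eq_true, Nat.blt_eq] at h
    have e : pairW (a :: l) = pairGen a * pairW l := by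
      simp [pairW, pairGen, ev_cons, permW]
    rw [e]
    refine mul_mem ?_ (mem_pairs (by simpa [isN] using h.2))
    have inv_gen : ∀ b < 5, pairGen (linv b) = (pairGen b)⁻¹ := fun b hb => by
      simp [pairGen, gen_linv hb, perm_inv hb]
    match a, h.1 with
    | 0, _ => exact Subgroup.subset_closure (by simp)
    | 1, _ => rw [show (1 : ℕ) = linv 0 from rfl, inv_gen 0 (by norm_num)]
              exact inv_mem (Subgroup.subset_closure (by simp))
    | 2, _ => exact Subgroup.subset_closure (by simp)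
    | 3, _ => rw [show (3 : ℕ) = linv 2 from rfl, inv_gen 2 (by norm_num)]
              exact inv_mem (Subgroup.subset_closure (by simp))
    | 4, _ => exact Subgroup.subset_closure (by simp)

theorem gens_rels : Rels10 X Y Z ∧ Rels10 (perm 0) (perm 2) (perm 4) := by
  refine ⟨?_, ?_⟩
  · have h : ∀ r ∈ HN.extra, PresentedGroup.mk rels r = 1 := fun r => mk_rel
    simp only [HN.extra, List.forall_mem_cons, map_mul, map_inv, map_pow] at h
    obtain ⟨h1, h2, h3, h4, h5, h6, h7, h8, h9, h10, -⟩ := h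
    exact ⟨h1, h2, h3, h4, h5, h6, h7, h8, h9, h10⟩
  · have hx : (perm 0)⁻¹ = perm 1 := (perm_inv (a := 0) (by norm_num)).symm
    have hy : (perm 2)⁻¹ = perm 3 := (perm_inv (a := 2) (by norm_num)).symm
    have hz : (perm 4)⁻¹ = perm 4 := (perm_inv (a := 4) (by norm_num)).symm
    have h := fun w hw => permW_rel (w := w) hw
    simp only [relWords, permW, winv, List.forall_mem_cons, List.map_append, List.map_flatten,
      List.replicate, List.flatten_cons, List.flatten_nil, List.map_cons, List.map_nil,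
      List.cons_append, List.nil_append, List.append_nil, List.prod_cons, List.prod_nil,
      List.reverse_cons, List.reverse_nil, linv, mul_one] at h
    obtain ⟨h1, h2, h3, h4, h5, h6, h7, h8, h9, h10, -⟩ := h
    unfold Rels10
    simp only [pow_succ, pow_zero, one_mul, mul_inv_rev, hx, hy, hz, mul_assoc]
    exact ⟨h1, h2, h3, h4, h5, h6, h7, h8, h9, h10⟩

theorem pairs_bound (hb : Bound10) :
    Finite pairs ∧ Nat.card pairs ≤ 177408000 := by
  let x : pairs := ⟨pairGen 0, Subgroup.subset_closure (by simp)⟩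
  let y : pairs := ⟨pairGen 2, Subgroup.subset_closure (by simp)⟩
  let z : pairs := ⟨pairGen 4, Subgroup.subset_closure (by simp)⟩
  refine hb pairs x y z ?_ ?_
  · obtain ⟨⟨r1, r2, r3, r4, r5, r6, r7, r8, r9, r10⟩, s1, s2, s3, s4, s5, s6, s7, s8, s9, s10⟩ :=
      gens_rels
    exact ⟨Subtype.ext (Prod.ext r1 s1), Subtype.ext (Prod.ext r2 s2),
      Subtype.ext (Prod.ext r3 s3), Subtype.ext (Prod.ext r4 s4), Subtype.ext (Prod.ext r5 s5),
      Subtype.ext (Prod.ext r6 s6), Subtype.ext (Prod.ext r7 s7), Subtype.ext (Prod.ext r8 s8),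
      Subtype.ext (Prod.ext r9 s9), Subtype.ext (Prod.ext r10 s10)⟩
  · refine Subgroup.map_injective pairs.subtype_injective ?_
    rw [MonoidHom.map_closure, ← MonoidHom.range_eq_map, Subgroup.range_subtype]
    simp only [Set.image_insert_eq, Set.image_singleton, x, y, z]; rfl

/-- a letter of the stabiliser words, spelled out -/
def cWord : ℕ → List ℕ
  | 0 => [2]
  | 1 => [3]
  | 2 => [1, 2, 0]
  | _ => [1, 3, 0]

/-- a stabiliser word, spelled out -/
def cExp (w : List ℕ) : List ℕ := w.flatMap cWord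

theorem isN_cExp (w : List ℕ) : isN (cExp w) = true := by
  induction w with
  | nil => rfl
  | cons a l ih =>
    refine isN_append ?_ ih
    match a with
    | 0 => rfl
    | 1 => rfl
    | 2 => rfl
    | _ + 3 => rfl

theorem commute_cExp (w : List ℕ) : Commute (ev (cExp w)) T := by
  induction w with
  | nil => exact Commute.one_left T
  | cons a l ih =>
    rw [cExp, List.flatMap_cons, ev_append]
    refine Commute.mul_left ?_ ih
    have hc : Commute (X⁻¹ * Y * X) T := by
      have e : X * T * X⁻¹ = T ^ 2 := by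
        have h2 : X⁻¹ * T ^ 2 * X = T := by
          rw [pow_two, show X⁻¹ * (T * T) * X = (X⁻¹ * T * X) * (X⁻¹ * T * X) by group, x_conj,
            ← mul_inv_rev, ← pow_add]
          exact inv_eq_of_mul_eq_one_left (by rw [← pow_succ', T_pow_five])
        calc X * T * X⁻¹ = X * (X⁻¹ * T ^ 2 * X) * X⁻¹ := by rw [h2]
          _ = T ^ 2 := by group
      show X⁻¹ * Y * X * T = T * (X⁻¹ * Y * X)
      calc X⁻¹ * Y * X * T = X⁻¹ * (Y * (X * T * X⁻¹)) * X := by group
        _ = X⁻¹ * ((X * T * X⁻¹) * Y) * X := by rw [e, ((commute_T_Y.pow_left 2).symm).eq]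
        _ = T * (X⁻¹ * Y * X) := by group
    match a with
    | 0 => simpa [cWord, ev, gen] using commute_T_Y.symm
    | 1 => simpa [cWord, ev, gen] using commute_T_Y.symm.inv_left
    | 2 => simpa [cWord, ev, gen, mul_assoc] using hc
    | n + 3 =>
      have h := hc.inv_left
      rw [mul_inv_rev, mul_inv_rev, inv_inv] at h
      simpa [cWord, ev, gen, mul_assoc] using h

/-- the word of a tuple of transversal indices -/
def chainWord (i : ℕ) (j k l m : ℕ) : List ℕ :=
  cExp (trans4.getD m []) ++ cExp (trans3.getD l []) ++ cExp (trans2.getD k []) ++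
    cExp (trans1.getD j []) ++ topTrans.getD i []

theorem chain_checks :
    topTrans.length = 1408 ∧ topTrans.getD 0 [] = [] ∧
    (topTrans.all fun w => isN w) = true ∧
    ((List.range 1408).all fun i => Nat.beq (run 0 (topTrans.getD i [])) i) = true ∧
    (trans1.map fun w => run 3 (cExp w)).Nodup ∧ trans1.length = 50 ∧
    (trans2.map fun w => run 7 (cExp w)).Nodup ∧ trans2.length = 42 ∧
    (trans3.map fun w => run 8 (cExp w)).Nodup ∧ trans3.length = 30 ∧
    (trans4.map fun w => run 16 (cExp w)).Nodup ∧ trans4.length = 2 ∧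
    ((trans1 ++ trans2 ++ trans3 ++ trans4).all fun w => Nat.beq (run 0 (cExp w)) 0) = true ∧
    ((trans2 ++ trans3 ++ trans4).all fun w => Nat.beq (run 3 (cExp w)) 3) = true ∧
    ((trans3 ++ trans4).all fun w => Nat.beq (run 7 (cExp w)) 7) = true ∧
    (trans4.all fun w => Nat.beq (run 8 (cExp w)) 8) = true := by
  decide +kernel

/-- indices of the chain -/
abbrev Idx : Type := Fin 1408 × Fin 50 × Fin 42 × Fin 30 × Fin 2

/-- the word of an index -/
def idxWord (t : Idx) : List ℕ := chainWord t.1 t.2.1 t.2.2.1 t.2.2.2.1 t.2.2.2.2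

theorem run_append' (i : ℕ) (u w : List ℕ) : run i (u ++ w) = run (run i u) w := by
  simp [run, List.foldl_append]

theorem isN_idxWord (t : Idx) : isN (idxWord t) = true := by
  obtain ⟨hl, -, ht, -⟩ := chain_checks
  refine isN_append (isN_append (isN_append (isN_append (isN_cExp _) (isN_cExp _)) (isN_cExp _))
    (isN_cExp _)) (List.all_eq_true.mp ht _ ?_)
  rw [List.getD_eq_getElem _ _ (by rw [hl]; exact t.1.2)]
  exact List.getElem_mem _

/-- images of the base points -/
def baseImg (p : Equiv.Perm (Fin 1408)) : Fin 1408 × Fin 1408 × Fin 1408 × Fin 1408 × Fin 1408 :=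
  (p⁻¹ 0, p⁻¹ 3, p⁻¹ 7, p⁻¹ 8, p⁻¹ 16)

theorem run_lt' : ∀ (w : List ℕ) {i : ℕ}, i < 1408 → isN w = true → run i w < 1408
  | [], _, hi, _ => hi
  | a :: l, i, hi, h => by
    simp only [isN, List.all_cons, Bool.and_eq_true, Nat.blt_eq] at h
    exact run_lt' l (act_spec hi h.1).1 (by simpa [isN] using h.2)

theorem run_inj {w : List ℕ} (hw : isN w = true) {i j : ℕ} (hi : i < 1408) (hj : j < 1408)
    (h : run i w = run j w) : i = j := by
  have := (Equiv.injective (permW w)⁻¹) (a₁ := ⟨i, hi⟩) (a₂ := ⟨j, hj⟩) (Fin.ext (by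
    rw [permW_inv_apply hw, permW_inv_apply hw]; exact h))
  exact Fin.ext_iff.mp this

theorem getD_mem {l : List (List ℕ)} {n : ℕ} (h : l.length = n) (i : Fin n) :
    l.getD i [] ∈ l := by
  rw [List.getD_eq_getElem _ _ (by rw [h]; exact i.2)]
  exact List.getElem_mem _

theorem nodup_inj {l : List (List ℕ)} {n b : ℕ} (h : l.length = n)
    (hn : (l.map fun w => run b (cExp w)).Nodup) {i j : Fin n}
    (e : run b (cExp (l.getD i [])) = run b (cExp (l.getD j []))) : i = j := by
  have hi : (i : ℕ) < l.length := by rw [h]; exact i.2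
  have hj : (j : ℕ) < l.length := by rw [h]; exact j.2
  rw [List.getD_eq_getElem _ _ hi, List.getD_eq_getElem _ _ hj] at e
  have := (List.nodup_iff_injective_getElem.mp hn) (a₁ := ⟨i, by simpa using hi⟩)
    (a₂ := ⟨j, by simpa using hj⟩) (by simpa using e)
  exact Fin.ext (Fin.mk.inj_iff.mp this)

theorem idx_injective : Function.Injective fun t : Idx => baseImg (permW (idxWord t)) := by
  obtain ⟨hl, -, htN, htop, n1, l1, n2, l2, n3, l3, n4, l4, f0, f3, f7, f8⟩ := chain_checks
  simp only [List.all_eq_true, List.mem_range, Nat.beq_eq, List.mem_append] at htop f0 f3 f7 f8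
  rintro ⟨i, j, k, l, m⟩ ⟨i', j', k', l', m'⟩ h
  simp only [baseImg, Prod.mk.injEq, Fin.ext_iff, permW_inv_apply (isN_idxWord _)] at h
  obtain ⟨h0, h3, h7, h8, h16⟩ := h
  simp only [idxWord, chainWord, run_append', Fin.coe_ofNat_eq_mod] at h0 h3 h7 h8 h16
  have g1 := fun a : Fin 50 => getD_mem l1 a
  have g2 := fun a : Fin 42 => getD_mem l2 a
  have g3 := fun a : Fin 30 => getD_mem l3 a
  have g4 := fun a : Fin 2 => getD_mem l4 a
  simp only [f0 _ (Or.inl (Or.inl (Or.inl (g1 _)))), f0 _ (Or.inl (Or.inl (Or.inr (g2 _)))),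
    f0 _ (Or.inl (Or.inr (g3 _))), f0 _ (Or.inr (g4 _)), htop _ i.2, htop _ i'.2] at h0
  obtain rfl : i = i' := Fin.ext h0
  have hwi : isN (topTrans.getD i []) = true := List.all_eq_true.mp htN _ (getD_mem hl i)
  have bd : ∀ (b : ℕ) (a : List ℕ), b < 1408 → run b (cExp a) < 1408 := fun b a hb =>
    run_lt' _ hb (isN_cExp a)
  simp only [f3 _ (Or.inl (Or.inl (g2 _))), f3 _ (Or.inl (Or.inr (g3 _))),
    f3 _ (Or.inr (g4 _))] at h3
  obtain rfl : j = j' := nodup_inj l1 n1
    (run_inj hwi (bd _ _ (by norm_num)) (bd _ _ (by norm_num)) h3)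
  have hw1 : isN (cExp (trans1.getD j [])) = true := isN_cExp _
  simp only [f7 _ (Or.inl (g3 _)), f7 _ (Or.inr (g4 _))] at h7
  obtain rfl : k = k' := nodup_inj l2 n2
    (run_inj hw1 (bd _ _ (by norm_num)) (bd _ _ (by norm_num))
      (run_inj hwi (bd _ _ (bd _ _ (by norm_num))) (bd _ _ (bd _ _ (by norm_num))) h7))
  simp only [f8 _ (g4 _)] at h8
  obtain rfl : l = l' := nodup_inj l3 n3
    (run_inj (isN_cExp _) (bd _ _ (by norm_num)) (bd _ _ (by norm_num))
      (run_inj hw1 (bd _ _ (bd _ _ (by norm_num))) (bd _ _ (bd _ _ (by norm_num)))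
        (run_inj hwi (bd _ _ (bd _ _ (bd _ _ (by norm_num))))
          (bd _ _ (bd _ _ (bd _ _ (by norm_num)))) h8)))
  obtain rfl : m = m' := nodup_inj l4 n4
    (run_inj (isN_cExp _) (bd _ _ (by norm_num)) (bd _ _ (by norm_num))
      (run_inj (isN_cExp _) (bd _ _ (bd _ _ (by norm_num))) (bd _ _ (bd _ _ (by norm_num)))
        (run_inj hw1 (bd _ _ (bd _ _ (bd _ _ (by norm_num))))
          (bd _ _ (bd _ _ (bd _ _ (by norm_num))))
          (run_inj hwi (bd _ _ (bd _ _ (bd _ _ (bd _ _ (by norm_num)))))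
            (bd _ _ (bd _ _ (bd _ _ (bd _ _ (by norm_num))))) h16))))
  rfl

theorem base_bijective (hb : Bound10) :
    Function.Injective (fun p : pairs => baseImg p.1.2) ∧
      ∀ w, isN w = true → ∃ t : Idx, baseImg (permW (idxWord t)) = baseImg (permW w) := by
  obtain ⟨hfin, hcard⟩ := pairs_bound hb
  let Φ : pairs → _ := fun p => baseImg p.1.2
  let ι : Idx → pairs := fun t => ⟨pairW (idxWord t), mem_pairs (isN_idxWord t)⟩
  have hι : Function.Injective ι := fun a b h =>
    idx_injective (congrArg (fun p : pairs => baseImg p.1.2) h)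
  have hc : Nat.card Idx = 177408000 := by simp [Nat.card_prod]
  have hbij : Function.Bijective ι :=
    (Nat.bijective_iff_injective_and_card ι).mpr
      ⟨hι, le_antisymm (Nat.card_le_card_of_injective ι hι) (hc ▸ hcard)⟩
  refine ⟨fun p q h => ?_, fun w hw => ?_⟩
  · obtain ⟨a, rfl⟩ := hbij.2 p
    obtain ⟨b, rfl⟩ := hbij.2 q
    exact congrArg ι (idx_injective h)
  · obtain ⟨t, ht⟩ := hbij.2 ⟨pairW w, mem_pairs hw⟩
    exact ⟨t, congrArg (fun p : pairs => baseImg p.1.2) ht⟩

theorem faith (hb : Bound10) : Faith := by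
  intro u v hu hv h
  simp only [same, basePts, List.all_cons, List.all_nil, Bool.and_true, Bool.and_eq_true,
    Nat.beq_eq] at h
  have := (base_bijective hb).1 (a₁ := ⟨pairW u, mem_pairs hu⟩) (a₂ := ⟨pairW v, mem_pairs hv⟩) (by
    simp only [baseImg, pairW, Prod.mk.injEq, Fin.ext_iff, permW_inv_apply hu, permW_inv_apply hv]
    exact ⟨h.1, h.2.1, h.2.2.1, h.2.2.2.1, h.2.2.2.2⟩)
  exact congrArg (fun p : pairs => p.1.1) this

theorem cfix (hb : Bound10) : CFix := by
  intro w hw h0
  obtain ⟨t, ht⟩ := (base_bijective hb).2 w hw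
  have hev : ev (idxWord t) = ev w :=
    congrArg (fun p : pairs => p.1.1) ((base_bijective hb).1
      (a₁ := ⟨pairW (idxWord t), mem_pairs (isN_idxWord t)⟩) (a₂ := ⟨pairW w, mem_pairs hw⟩) ht)
  obtain ⟨hl, hnil, -, htop, -, l1, -, l2, -, l3, -, l4, f0, -⟩ := chain_checks
  simp only [List.all_eq_true, List.mem_range, Nat.beq_eq, List.mem_append] at htop f0
  simp only [baseImg, Prod.mk.injEq, Fin.ext_iff, permW_inv_apply (isN_idxWord t),
    permW_inv_apply hw] at ht
  obtain ⟨i, j, k, l, m⟩ := t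
  have h := ht.1
  simp only [Fin.coe_ofNat_eq_mod, Nat.zero_mod, h0, idxWord, chainWord, run_append',
    f0 _ (Or.inl (Or.inl (Or.inl (getD_mem l1 j)))), f0 _ (Or.inl (Or.inl (Or.inr (getD_mem l2 k)))),
    f0 _ (Or.inl (Or.inr (getD_mem l3 l))), f0 _ (Or.inr (getD_mem l4 m)), htop _ i.2] at h
  rw [← hev]
  simp only [idxWord, chainWord, h, hnil, List.append_nil, ev_append]
  exact (((commute_cExp _).mul_left (commute_cExp _)).mul_left (commute_cExp _)).mul_left
    (commute_cExp _)

end CfsgLib.HN51
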