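import Cfsg.Agent.HNOrder51.Replay

/-! Generated: the coset facts and their derivations. -/

set_option autoImplicit false
set_option linter.style.longLine false
set_option maxRecDepth 100000

namespace CfsgLib.HN51

/-- node words -/
def dw : ℕ → List ℕ
  | 0 => []
  | 1 => [5]
  | 2 => [5,0,4,5]
  | 3 => [5,1,4,5]
  | 4 => [5,4,3,4,5]
  | 5 => [5,4,3,0,4,5]
  | 6 => [5,4,3,4,3,4,5]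
  | 7 => [5,0,4,5,3,0,4,5]
  | 8 => [5,4,3,0,4,5,0,4,3,4,5]
  | 9 => [5,0,4,5,3,0,4,5,0,3,3,1,3,0,4,5]
  | _ => []

/-- facts from 0 -/
def facts0 : List Fact := [
  ⟨0, [], false, 0, [0]⟩,
  ⟨0, [], false, 0, [2]⟩,
  ⟨0, [], false, 0, [4]⟩,
  ⟨0, [], true, 1, []⟩,
  ⟨1, [0,0], true, 0, [0,0]⟩,
  ⟨1, [0], true, 1, [0,0]⟩,
  ⟨1, [], true, 1, [1]⟩,
  ⟨1, [4], true, 1, [0,0,4]⟩,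
  ⟨1, [3,4], false, 1, [4]⟩,
  ⟨1, [0,3,1,4], false, 1, [4]⟩,
  ⟨1, [1], true, 1, [0]⟩,
  ⟨1, [0,4], true, 2, []⟩,
  ⟨2, [0,0], true, 1, [1,4]⟩,
  ⟨2, [], false, 2, [0,0]⟩,
  ⟨2, [], true, 1, [1,4]⟩,
  ⟨2, [4], false, 2, [0,0]⟩,
  ⟨1, [1,4], true, 3, []⟩,
  ⟨3, [0,0], true, 1, [0,4]⟩,
  ⟨1, [0,0,4], true, 3, [0,0,4]⟩,
  ⟨3, [4], true, 1, [4]⟩,
  ⟨3, [], true, 3, [0,0]⟩,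
  ⟨2, [0], true, 3, [4]⟩,
  ⟨2, [1], true, 3, [4]⟩,
  ⟨3, [0,0,4], true, 2, [1]⟩,
  ⟨3, [0], false, 3, [4]⟩,
  ⟨3, [0], true, 1, [4]⟩,
  ⟨3, [1], true, 2, [1]⟩,
  ⟨1, [4,3,4], true, 4, []⟩,
  ⟨4, [0,0], true, 1, [0,0,4,3,4]⟩,
  ⟨4, [2,0,3,3,1,2,0,2,2,1,2,0,2,1,2,2,0,3,1,2,0,4,3,0,3,3,1,3,4,1,2,0,2,2,1,2,2,0,2,1,3,0,3,1,3,0,2,1,2,0,2,1,3,0,3,1,2,4], false, 4, [2,0,3,3,1,2,0,2,2,1,2,0,2,1,2,2,0,3,1,2,0,4,3,0,3,3,1,3,4,1,2,0,2,2,1,2,2,0,2,1,3,0,3,1,3,0,2,1,2,0,2,1,3,0,3,1,2,0,0]⟩,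
  ⟨4, [3,3,0,2,2,1,3,0,3,1,2,0,2,1,2,0,2,1,2,2,0,3,3,1,2,0,2,1,3,0,3,3,1,2,2,0,3,1,3,0,3,1,4], false, 4, [3,3,0,2,2,1,3,0,3,1,2,0,2,1,2,0,2,1,2,2,0,3,3,1,2,0,2,1,3,0,3,3,1,2,2,0,3,1,3,0,3,0]⟩,
  ⟨2, [0,3,1,3,4], true, 4, [2,0,3,3,1,2,0,2,2,1,2,0,2,1,2,2,0,3,1,2,0,4,3,0,3,3,1,3,4,1,3,3,0,2,2,1,3,0,3,1,2,0,2,1,2,0,2,1,2,2,0,3,3,1,2,0,2,1,2,2,2,0,2,2,1,3,0,0,4]⟩,
  ⟨4, [2,0,3,3,1,2,0,2,2,1,2,0,2,1,2,2,0,3,1,2,0,4,3,0,3,3,1,3,4,1,3,3,0,2,2,1,3,0,3,1,2,0,2,1,2,0,2,1,2,2,0,3,3,1,2,0,2,1,2,2,2,0,2,2,1,3,4], true, 2, [0,3,1,3,0,0,4]⟩,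
  ⟨4, [0,2,2,1,2,2,2,2,0,2,2,4,2,0,2,2,1,2,4,2,1,2,0,2,1,2,2,2,0,3,3,1,2,2,2,0,3,1,2,0,3,3,1,3,0,3,1,4,3,0,4,3,0], true, 2, [0,3,1,3,0,0,4]⟩,
  ⟨2, [2,0,3,3,1,2,0,2,2,1,2,0,2,1,2,2,0,3,1,2,0,4,3,0,3,3,1,3,4,1,2,0,3,3,1,2,0,3,1,2,0,2,1,3,0,2,1,4], false, 2, [3,0,3,3,1,3,0,2,1,2,4]⟩,
  ⟨2, [2,2,0,2,1,2,2,2,0,2,1,2,2,2,0,2,1,4], false, 2, [2,0,3,3,1,2,0,2,2,1,2,0,2,1,2,2,0,3,1,2,0,4,3,0,3,3,1,3,4,1,2,0,2,1,3,0,3,1,2,0,2,2,2,1,3,0,2,1,2,0,3,1,3,3,0,2,1,3,0,4,3,0,3,3,1,3,4,1,2,0,2,1,4]⟩,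
  ⟨2, [3,3,0,2,2,1,3,0,3,1,2,2,0,2,1,4], false, 2, [3,0,3,3,1,3,3,0,3,3,3,1,2,2,0,2,2,2,2,1,4]⟩,
  ⟨3, [0,3,1,3,4], true, 4, [2,0,3,3,1,2,0,2,2,1,2,0,2,1,2,2,0,3,1,2,0,4,3,0,3,3,1,3,4,1,3,0,2,1,3,0,3,1,3,0,3,1,3,3,0,3,3,1,3,3,0,2,1,3,0,2,1,2,0,2,1,2,2,0,3,1,2,0,2,1,2,0,3,1,2,2,0,0,4]⟩,
  ⟨4, [2,0,3,3,1,2,0,2,2,1,2,0,2,1,2,2,0,3,1,2,0,4,3,0,3,3,1,3,4,1,3,0,2,1,3,0,3,1,3,0,3,1,3,3,0,3,3,1,3,3,0,2,1,3,0,2,1,2,0,2,1,2,2,0,3,1,2,0,2,1,2,0,3,1,2,2,4], true, 3, [0,3,1,3,0,0,4]⟩,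
  ⟨4, [0,4,2,0,2,2,1,2,4,1,3,0,3,1,2,0,2,1,3,0,2,2,2,1,2,2,2,2,0,3,1,3,3,0,3,1,1], true, 3, [0,3,1,3,0,0,4]⟩]

/-- facts from 40 -/
def facts1 : List Fact := [
  ⟨3, [2,0,3,3,1,2,0,2,2,1,2,0,2,1,2,2,0,3,1,2,0,4,3,0,3,3,1,3,4,1,2,0,3,3,1,2,0,3,1,2,0,2,1,3,0,2,1,4], false, 3, [0,4,2,0,2,2,1,2,4,1,3,0,3,1,2,0,2,1,2,0,2,2,1,2,2,0,2,2,1,2,2,0,2,1,4]⟩,
  ⟨3, [0,0,4,3,4], true, 4, [0,0,4]⟩,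
  ⟨3, [2,0,3,3,1,2,0,2,2,1,2,0,2,1,2,2,0,3,1,2,0,4,3,0,3,3,1,3,4,1,2,0,2,1,3,0,3,1,2,0,2,2,2,1,3,0,2,1,2,0,3,1,2,0,3,3,1,2,2,2,0,2,1,3,0,3,3,1,1,4], true, 4, [0,0,4]⟩,
  ⟨2, [2,0,3,3,1,2,0,2,2,1,2,0,2,1,2,2,0,3,1,2,0,4,3,0,3,3,1,3,4,1,3,3,0,2,2,1,3,0,3,1,2,0,2,1,2,0,2,1,2,2,0,3,1,2,2,2,0,3,3,1,2,2,2,0,2,1,4], false, 2, [0,3,1,3,4,2,2,2]⟩,
  ⟨2, [2,0,3,3,1,2,0,2,2,1,2,0,2,1,2,2,0,3,1,2,0,4,3,0,3,3,1,3,4,1,3,0,2,1,3,3,0,3,3,1,2,0,3,1,3,0,2,2,2,1,2,0,2,1,2,2,0,2,1,1], true, 4, [2,0,3,3,1,2,0,2,2,1,2,0,2,1,2,2,0,3,1,2,0,4,3,0,3,3,1,3,4,1,3,3,0,2,2,1,3,0,3,1,2,0,2,1,2,0,2,1,2,2,0,3,3,1,2,0,2,1,2,2,2,0,2,2,1,3,0,0,4]⟩,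
  ⟨3, [2,0,3,3,1,2,0,2,2,1,2,0,2,1,2,2,0,2,2,1,2,2,2,0,3,1,3,0,2,2,4,2,0,2], false, 4, [2,0,3,3,1,2,0,2,2,1,2,0,2,1,2,2,0,3,1,2,0,4,3,0,3,3,1,3,4,1,3,3,0,2,2,1,3,0,3,1,2,0,2,1,2,0,2,1,2,2,0,3,3,1,2,0,2,1,2,2,2,0,2,2,1,3,0,0,4]⟩,
  ⟨3, [2,0,3,3,1,2,0,2,2,1,2,0,2,1,2,2,0,3,1,2,0,4,3,0,3,3,1,3,4,1,3,3,0,2,2,1,3,0,3,1,2,0,2,1,2,0,2,1,2,2,0,3,3,1,2,0,2,1,2,2,0,3,3,1,2,2,2,0,2,1,3,0,3,1,4,2,4,3,4], true, 1, [0,0,4,3,4]⟩,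
  ⟨1, [4,3,0,4], true, 5, []⟩,
  ⟨5, [0,0], true, 1, [4,3,1,4]⟩,
  ⟨5, [2,0,3,3,1,2,0,2,2,1,2,0,2,1,2,2,0,3,1,2,0,4,3,0,3,3,1,3,4,1,2,0,2,2,1,2,2,0,2,1,3,0,3,1,3,0,2,1,3,3,0,3,1,3,0,3,1,3,3,0,2,1,4], false, 5, [2,0,3,3,1,2,0,2,2,1,2,0,2,1,2,2,0,3,1,2,0,4,3,0,3,3,1,3,4,1,2,0,2,2,1,2,2,0,2,1,3,0,3,1,3,0,2,1,3,3,0,3,1,3,0,3,1,3,3,0,2,0]⟩,
  ⟨2, [3,4], true, 5, [0,2,1,2,0,2,1,2,2,0,3,1,2,0,3,0,4]⟩,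
  ⟨5, [0,2,1,2,0,2,1,2,2,0,3,1,2,0,3,1,4], true, 2, [3,0,0,4]⟩,
  ⟨5, [2,2,0,2,1,2,2,2,0,2,1,2,2,2,0,2,2,1,2,2,0,3,1,2,0,2,1,2,0,3,1,2,2,0,3,1,2,2,0,4,3,1,4], false, 5, [0,0]⟩,
  ⟨5, [2,0,3,3,1,2,0,2,2,1,2,0,2,1,2,2,0,3,1,2,0,4,3,0,3,3,1,3,4,1,2,0,2,2,1,2,2,2,0,3,3,1,2,2,2,2,0,3,1,3,0,2,2,4,3,0,3,3,1,3,4,1,4,3], true, 2, [3,0,0,4]⟩,
  ⟨3, [3,4], true, 5, [3,3,0,2,2,1,3,0,3,1,2,0,2,1,2,0,2,1,2,2,0,3,3,1,2,0,2,4,3,0,3,3,1,3,4,1,2,0,2,2,1,2,2,2,2,0,2,0,4]⟩,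
  ⟨5, [3,3,0,2,2,1,3,0,3,1,2,0,2,1,2,0,2,1,2,2,0,3,3,1,2,0,2,4,3,0,3,3,1,3,4,1,2,0,2,2,1,2,2,2,2,0,2,1,4], true, 3, [3,0,0,4]⟩,
  ⟨5, [2,0,3,3,1,2,0,2,2,1,2,0,2,1,2,2,0,3,1,2,0,4,3,0,3,3,1,3,4,1,3,3,0,2,2,1,3,0,3,1,2,0,2,1,2,0,2,1,2,2,0,3,1,2,2,2,0,2,1,3,0,3,1,2,4], true, 3, [3,0,0,4]⟩,
  ⟨3, [0,4,3,0,3,3,1,1,2,4], true, 5, [2,0,3,3,1,2,0,2,2,1,2,0,2,1,2,2,0,3,1,2,0,4,3,0,3,3,1,3,4,1,2,0,2,2,1,2,2,0,2,1,3,0,3,1,3,0,2,1,3,3,0,3,1,3,0,3,1,2,2,2,0,0,4]⟩,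
  ⟨3, [3,0,3,1,1,4], true, 5, [2,0,3,3,1,2,0,2,2,1,2,0,2,1,2,2,0,3,1,2,0,4,3,0,3,3,1,3,4,1,2,0,2,2,1,2,2,0,2,1,3,0,3,1,3,0,2,1,3,3,0,3,1,3,0,3,1,2,2,2,0,0,4]⟩,
  ⟨5, [2,0,3,3,1,2,0,2,2,1,2,0,2,1,2,2,0,3,1,2,0,4,3,0,3,3,1,3,4,1,2,0,2,2,1,2,2,0,2,1,3,0,3,1,3,0,2,1,3,3,0,3,1,3,0,3,1,2,2,2,4], true, 3, [0,4,3,0,3,4]⟩,
  ⟨5, [3,0,2,1,3,3,0,3,3,1,2,0,3,1,3,0,2,2,1,2,0,3,3,1,2,0,2,1,2,0,2,1,3,0,3,1,3,3,0,2,2,1,2,0,2,1,2,2,0,2], true, 3, [0,4,3,0,3,4]⟩,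
  ⟨5, [2,0,3,3,1,2,0,2,2,1,2,0,2,1,2,2,0,3,1,2,0,4,3,0,3,3,1,3,4,1,3,0,2,1,3,0,3,1,3,0,3,1,3,3,0,3,3,1,3,3,0,2,1,3,0,2,1,2,0,2,1,2,2,0,3,1,2,2,2,2,0,3,1,3,0,4,2,4,3,4], true, 5, [2,0,3,3,1,2,0,2,2,1,2,0,2,1,2,2,0,3,1,2,0,4,3,0,3,3,1,3,4,1,3,0,2,1,3,0,3,1,3,0,3,1,3,3,0,3,3,1,3,3,0,2,2,2,1,2,2,0,3,1,2,2,2,2,0,3,1,2,2,4,3]⟩,
  ⟨5, [2,0,3,3,1,2,0,2,2,1,2,0,2,1,3,0,2,2,1,3,0,3,1,2,2,0,2,2,1,2,2,0,2,2,1,2,2,1], true, 5, [2,0,3,3,1,2,0,2,2,1,2,0,2,1,2,2,0,3,1,2,0,4,3,0,3,3,1,3,4,1,3,0,2,1,3,0,3,1,3,0,3,1,3,3,0,3,3,1,3,3,0,2,2,2,1,2,2,0,3,1,2,2,2,2,0,3,1,2,2,4,3]⟩,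
  ⟨5, [2,0,3,3,1,2,0,2,2,1,2,0,2,1,2,2,0,3,1,2,0,4,3,0,3,3,1,3,4,1,3,0,2,1,3,0,3,1,3,0,3,1,3,3,0,3,3,1,3,3,0,2,2,2,1,2,2,0,3,1,2,2,2,2,0,3,1,2,2,0,0,4,3], true, 5, [2,0,3,3,1,2,0,2,2,1,2,0,2,1,2,2,0,3,1,2,0,4,3,0,3,3,1,3,4,1,3,0,2,1,3,0,3,1,3,0,3,1,3,3,0,3,3,1,3,3,0,2,1,3,0,2,1,2,0,2,1,2,2,0,3,1,2,2,2,2,0,3,1,3,1,4,2,4,3,4]⟩,
  ⟨5, [2,0,3,3,1,2,0,2,2,1,2,0,2,1,2,2,0,3,1,2,0,4,3,0,3,3,1,3,4,2,2,1,2,2,2,2,0,2,2,4,2,0,2,2,1,2,4,1,2,0,3,1,2,0,2,1,2,0,3,1,2,2,0,3,1,2,1], true, 5, [2,0,3,3,1,2,0,2,2,1,2,0,2,1,2,2,0,3,1,2,0,4,3,0,3,3,1,3,4,1,3,0,2,1,3,0,3,1,3,0,3,1,3,3,0,3,3,1,3,3,0,2,1,3,0,2,1,2,0,2,1,2,2,0,3,1,2,2,2,2,0,3,1,3,1,4,2,4,3,4]⟩,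
  ⟨5, [2,0,3,3,1,2,0,2,2,1,2,0,2,1,2,2,0,3,1,2,0,4,3,0,3,3,1,3,4,3,1,3,0,3,1,3,3,0,2,1,3,3,0,2,1,3,3,0,3,3,1,3,0,3,3,1,2,0,2,1,3,3,3,0,2,1,2,0,2,1,3,0,3,1,2,0,2,1,2,1,4,2,4,3,4], false, 5, [2,0,3,3,1,2,0,2,2,1,2,0,2,1,2,2,0,3,1,2,0,4,3,0,3,3,1,3,4,1,3,0,2,1,3,0,3,1,3,0,3,1,3,3,0,3,3,1,3,3,0,2,1,3,0,2,1,2,0,2,1,2,2,0,3,1,2,2,2,2,0,3,1,3,1,4,2,4,3,4]⟩,
  ⟨5, [3,0,2,1,3,3,0,2,1,2,0,3,1,3,0,2,2,1,2,0,3,1,2,0,3,3,1,4], true, 3, [3,0,0,4]⟩,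
  ⟨3, [2,2,0,2,2,1,3,0,3,3,1,3,3,0,4,2,0,2,2,1,2,4,1,2,2,0,3,3,1,2,2,0,2,4,3,0,4], true, 5, [0,0]⟩,
  ⟨3, [2,0,3,3,1,2,0,2,2,1,2,0,2,1,2,2,0,3,1,2,0,4,3,0,3,3,1,3,4,2,2,1,2,2,2,2,0,2,2,4,2,0,2,2,1,2,4,3,3,1,2,0,2,1,3,3,0,2,4,3,0,4], true, 5, [0,0]⟩,
  ⟨5, [], true, 3, [2,2,0,2,2,1,3,0,3,3,1,3,3,0,4,2,0,2,2,1,2,4,1,2,2,0,3,3,1,2,2,0,2,4,3,1,4]⟩,
  ⟨5, [0,2,1,2,0,2,1,2,2,0,3,1,2,0,3,4,3,1,4], true, 5, [0,2,1,2,0,2,1,2,2,0,3,1,2,2,2,0,3,3,1,2,2,2,2,0,2,1,3,0,3,1,2,0,2,1,1,4,2,4,3]⟩,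
  ⟨5, [2,0,3,3,1,2,0,2,2,1,2,0,2,1,2,2,0,3,1,2,0,4,3,0,3,3,1,3,4,1,2,0,3,3,1,2,0,2,1,3,0,2,1,3,0,3,3,1,2,0,2,1,3,0,3,1,2,2,2,0,3,4,2,4,3,4,3,0], true, 5, [0,2,1,2,0,2,1,2,2,0,3,1,2,2,2,0,3,3,1,2,2,2,2,0,2,1,3,0,3,1,2,0,2,1,1,4,2,4,3]⟩,
  ⟨5, [2,2,0,2,1,2,2,2,0,2,1,2,2,0,3,4,2,1,4], true, 5, [2,0,3,3,1,2,0,2,2,1,2,0,2,1,2,2,0,3,1,2,0,4,3,0,3,3,1,3,4,1,2,0,2,1,3,0,3,1,2,0,2,2,2,1,3,3,3,0,2,2,1,2,0,2,1,3,3,0,4,2,0,4]⟩,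
  ⟨5, [2,0,3,3,1,2,0,2,2,1,2,0,2,1,2,2,0,3,1,2,0,4,3,0,3,3,1,3,4,2,1,2,0,2,1,2,2,0,3,3,1,2,0,2,1,2,0,2,1,3,0,3,1,4,2,0], true, 5, [2,0,3,3,1,2,0,2,2,1,2,0,2,1,2,2,0,3,1,2,0,4,3,0,3,3,1,3,4,1,2,0,2,1,3,0,3,1,2,0,2,2,2,1,3,3,3,0,2,2,1,2,0,2,1,3,3,0,4,2,0,4]⟩,
  ⟨1, [4,3,4,3,4], true, 6, []⟩,
  ⟨6, [0,0], true, 1, [0,0,4,3,4,3,4]⟩,
  ⟨3, [2,2,0,2,2,1,3,0,3,3,1,3,3,0,4,2,0,2,2,1,2,4,1,2,2,0,3,3,1,2,2,0,2,1,1,4,3,4,3,4], true, 6, [2,0,3,3,1,2,0,2,2,1,2,0,2,1,2,2,0,3,1,2,0,4,3,0,3,3,1,3,4,1,2,2,0,2,1,2,2,2,0,2,1,2,2,2,0,2,2,1,2,2,2,0,3,3,3,1,2,0,0,4]⟩,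
  ⟨3, [2,0,3,3,1,2,0,2,2,1,2,0,2,1,2,2,0,3,1,2,0,4,3,0,3,3,1,3,4,1,4,2,2,4,2,2,4,2,2,4,2,0,2,1,3,3,0,3,1,3,0,3,1,3,0,2,1,2,4,3,1,4,3], true, 6, [2,0,3,3,1,2,0,2,2,1,2,0,2,1,2,2,0,3,1,2,0,4,3,0,3,3,1,3,4,1,2,2,0,2,1,2,2,2,0,2,1,2,2,2,0,2,2,1,2,2,2,0,3,3,3,1,2,0,0,4]⟩,
  ⟨6, [2,0,3,3,1,2,0,2,2,1,2,0,2,1,2,2,0,3,1,2,0,4,3,0,3,3,1,3,4,1,2,2,0,2,1,2,2,2,0,2,1,2,2,2,0,2,2,1,2,2,2,0,3,3,3,1,2,4], true, 3, [2,2,0,2,2,1,3,0,3,3,1,3,3,0,4,2,0,2,2,1,2,4,1,2,2,0,3,3,1,2,2,0,2,4,3,4,3,4]⟩,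
  ⟨5, [0,3,1,4], true, 6, [0,2,2,1,2,2,2,2,0,2,2,4,2,0,2,2,1,2,4,1,2,0,2,1,3,0,3,1,2,0,3,1,2,2,2,0,0,4]⟩]

/-- facts from 80 -/
def facts2 : List Fact := [
  ⟨5, [3,0,2,1,3,3,0,3,3,1,2,0,3,1,3,0,2,2,2,1,2,0,2,1,2,2,2,2,0,2,2,2,2,1,2,0,2,1,4], true, 6, [0,2,2,1,2,2,2,2,0,2,2,4,2,0,2,2,1,2,4,1,2,0,2,1,3,0,3,1,2,0,3,1,2,2,2,0,0,4]⟩,
  ⟨6, [0,2,2,1,2,2,2,2,0,2,2,4,2,0,2,2,1,2,4,1,2,0,2,1,3,0,3,1,2,0,3,1,2,2,2,4], true, 5, [0,3,0,4]⟩,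
  ⟨6, [0], true, 6, [0,2,2,1,2,2,2,2,0,2,2,4,2,0,2,2,1,2,4,1,2,0,2,1,3,0,3,1,2,0,3,1,2,2,2,0,0]⟩,
  ⟨6, [0,2,2,1,2,2,2,2,0,2,2,4,2,0,2,2,1,2,4,1,2,0,2,1,3,0,3,1,2,0,3,1,2,2,2], true, 6, [1]⟩,
  ⟨6, [4], false, 6, [0,2,1,2,0,2,1,3,0,2,2,1,3,3,0,3,3,1,2,0,2,2,1,2,4]⟩,
  ⟨6, [3,0,2,1,3,3,0,3,3,1,2,0,3,1,3,0,2,2,1,3,3,0,2,2,1,3,0,3,1,2,0,3,1,3,0,3,1,3,4], true, 3, [2,2,0,2,2,1,3,0,3,3,1,3,3,0,4,2,0,2,2,1,2,4,1,2,2,0,3,3,1,2,2,0,2,4,3,4,3,4]⟩,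
  ⟨6, [3,0,2,1,3,3,0,3,3,1,2,0,3,1,3,0,2,2,2,1,2,0,2,1,2,2,0,2,1,3,0,3,1,2,0,3,1,4], true, 5, [0,3,0,4]⟩,
  ⟨6, [0,3,1,4], false, 6, [3,0,2,1,3,3,0,3,3,1,2,0,3,1,3,0,2,2,1,3,3,0,2,2,1,3,0,3,1,2,2,0,2,2,1,2,2,4]⟩,
  ⟨6, [2,0,3,3,1,2,0,2,2,1,2,0,2,1,2,2,0,3,1,2,0,4,3,0,3,3,1,3,4,2,1,2,0,2,1,3,0,2,2,1,3,0,3,1,2,2,0,2,2,1,2,2,0,3,1,2,0,2,2,1,2,2,4], true, 5, [0,3,0,4]⟩,
  ⟨6, [2,0,3,3,1,2,0,2,2,1,2,0,2,1,2,2,0,3,1,2,0,4,3,0,3,3,1,3,4,1,2,2,0,2,2,1,3,0,3,3,1,3,3,0,4,2,0,2,2,1,2,4,1,2,2,0,3,1,3,0,2,2,1,2,0,3,1,2,2,2,2,0,3,4,3,1,4], false, 6, [2,0,3,3,1,2,0,2,2,1,2,0,2,1,2,2,0,3,1,2,0,4,3,0,3,3,1,3,4,1,3,0,3,3,1,3,3,0,3,3,3,1,2,2,2,2,0,3,4,3,3,0]⟩,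
  ⟨5, [2,0,3,3,1,2,0,2,2,1,2,0,2,1,2,2,0,3,1,2,0,4,3,0,3,3,1,3,4,1,2,0,2,2,1,2,2,0,2,1,3,0,3,1,3,0,2,1,3,3,0,3,1,3,0,3,1,2,2,2,0,0,4,3,4], true, 6, [0,4,2,0,2,2,1,2,4,1,3,0,2,1,3,3,0,2,1,3,0,4,3,0,3,3,1,3,4,1,2,2,0,2,4,2,0,4]⟩,
  ⟨5, [2,0,3,3,1,2,0,2,2,1,2,0,2,1,2,2,0,3,1,2,0,4,3,0,3,3,1,3,4,1,3,0,2,1,3,3,0,3,3,1,2,0,3,1,3,0,2,2,1,2,0,3,3,1,2,0,2,1,2,0,2,2,1,2,2,2,0,3,1,3,0,2,2,1,2,2,2,0,3,1,1,4], true, 6, [0,4,2,0,2,2,1,2,4,1,3,0,2,1,3,3,0,2,1,3,0,4,3,0,3,3,1,3,4,1,2,2,0,2,4,2,0,4]⟩,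
  ⟨6, [0,4,2,0,2,2,1,2,4,1,3,0,2,1,3,3,0,2,1,3,0,4,3,0,3,3,1,3,4,1,2,2,0,2,4,2,1,4], true, 5, [2,0,3,3,1,2,0,2,2,1,2,0,2,1,2,2,0,3,1,2,0,4,3,0,3,3,1,3,4,1,2,0,2,2,1,2,2,0,2,1,3,0,3,1,3,0,2,1,3,3,0,3,1,3,0,3,1,2,2,2,4,3,4]⟩,
  ⟨6, [0,2,1,2,0,2,1,2,2,2,2,0,2,2,2,1,3,0,2,1,3,0,3,1,2,0,2,1,4,2,4,3,4], true, 5, [2,0,3,3,1,2,0,2,2,1,2,0,2,1,2,2,0,3,1,2,0,4,3,0,3,3,1,3,4,1,2,0,2,2,1,2,2,0,2,1,3,0,3,1,3,0,2,1,3,3,0,3,1,3,0,3,1,2,2,2,4,3,4]⟩,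
  ⟨6, [2,0,3,3,1,2,0,2,2,1,2,0,2,1,2,2,0,3,1,2,0,4,3,0,3,3,1,3,4,1,2,2,0,2,1,2,2,2,0,2,1,2,2,2,0,2,2,1,2,2,2,0,3,3,3,1,2,0,0,4,3,4], true, 6, [2,0,3,3,1,2,0,2,2,1,2,0,2,1,2,2,0,3,1,2,0,4,3,0,3,3,1,3,4,1,3,0,2,1,3,0,3,1,3,0,3,1,3,3,0,3,3,1,3,3,0,2,1,3,0,2,1,2,0,2,2,1,3,0,3,3,1,2,0,2,1,3,0,3,1,2,2,2,2,0,3,1,3,0,3,1,4,2,2,2,0,2,1,3,3,4]⟩,
  ⟨6, [2,0,3,3,1,2,0,2,2,1,2,0,2,1,2,2,0,3,1,2,0,4,3,0,3,3,1,3,4,2,2,1,2,2,2,2,0,2,2,4,2,0,2,2,1,2,4,2,1,2,0,2,1,2,0,3,1,3,0,3,1,3,3,0,3,3,1,2,0,2,1,3,0,3,1,2,0,2,0,4,3,4], true, 6, [2,0,3,3,1,2,0,2,2,1,2,0,2,1,2,2,0,3,1,2,0,4,3,0,3,3,1,3,4,1,3,0,2,1,3,0,3,1,3,0,3,1,3,3,0,3,3,1,3,3,0,2,1,3,0,2,1,2,0,2,2,1,3,0,3,3,1,2,0,2,1,3,0,3,1,2,2,2,2,0,3,1,3,0,3,1,4,2,2,2,0,2,1,3,3,4]⟩,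
  ⟨6, [3,0,3,3,1,3,3,0,3,3,3,1,2,0,2,1,2,0,3,1,3,0,2,2,1,2,2,0,4,2,1,2,4], true, 6, [2,0,3,3,1,2,0,2,2,1,2,0,2,1,2,2,0,3,1,2,0,4,3,0,3,3,1,3,4,1,3,0,3,3,1,3,3,0,3,3,3,1,2,2,0,2,2,1,2,0,3,1,3,0,3,1,2,0,2,1,3,0,3,1,2,0,2,1,2,1,4,3,4,2]⟩,
  ⟨6, [3,3,0,2,2,1,3,0,3,1,2,0,2,1,2,0,2,1,2,2,0,3,3,3,1,2,2,0,3,1,3,3,0,3,1,4,2,2,2,0,3,0,2,2], true, 6, [2,0,3,3,1,2,0,2,2,1,2,0,2,1,2,2,0,3,1,2,0,4,3,0,3,3,1,3,4,1,3,0,3,3,1,3,3,0,3,3,3,1,2,2,0,2,2,1,2,0,3,1,3,0,3,1,2,0,2,1,3,0,3,1,2,0,2,1,2,1,4,3,4,2]⟩,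
  ⟨6, [2,0,3,3,1,2,0,2,2,1,2,0,2,1,2,2,0,3,1,2,0,4,3,0,3,3,1,3,4,1,3,3,0,2,2,1,3,0,3,1,2,0,2,1,2,0,2,1,2,2,0,3,3,1,2,0,2,1,2,2,0,3,3,1,2,2,2,0,3,1,2,0,3,3,1,3,0,3,4,2,1,2,4], true, 6, [2,0,3,3,1,2,0,2,2,1,2,0,2,1,2,2,0,3,1,2,0,4,3,0,3,3,1,3,4,1,2,0,2,1,3,0,3,1,2,0,2,2,2,1,3,0,2,1,2,0,3,1,3,0,3,3,1,2,0,2,1,4,2,1,2]⟩,
  ⟨6, [3,0,2,1,3,3,0,3,3,1,2,0,3,1,3,0,2,2,2,1,2,0,2,1,2,2,2,0,3,1,3,0,2,2,1,4,2,2,2,0,3], true, 6, [2,0,3,3,1,2,0,2,2,1,2,0,2,1,2,2,0,3,1,2,0,4,3,0,3,3,1,3,4,1,2,0,2,1,3,0,3,1,2,0,2,2,2,1,3,0,2,1,2,0,3,1,3,0,3,3,1,2,0,2,1,4,2,1,2]⟩,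
  ⟨6, [2,0,3,3,1,2,0,2,2,1,2,0,2,1,2,2,0,3,1,2,0,4,3,0,3,3,1,3,4,1,2,0,3,3,1,2,0,2,1,3,0,3,3,1,2,0,3,1,4,2,2,4,2,4], true, 6, [2,2,0,2,1,2,2,2,0,2,1,2,2,2,0,2,2,1,2,2,0,3,1,2,0,2,1,2,0,3,1,2,2,0,3,1,3,0,3,1,4,2,2,4,2,4]⟩,
  ⟨6, [3,3,0,2,2,1,3,0,3,1,2,0,2,1,2,0,2,1,2,2,0,2,1,3,0,3,1,3,0,2,1,3,0,3,1,1], true, 6, [2,2,0,2,1,2,2,2,0,2,1,2,2,2,0,2,2,1,2,2,0,3,1,2,0,2,1,2,0,3,1,2,2,0,3,1,3,0,3,1,4,2,2,4,2,4]⟩,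
  ⟨2, [3,0,4], true, 7, []⟩,
  ⟨7, [0,0], true, 2, [3,1,4]⟩,
  ⟨3, [4,3,4], true, 7, [2,0,3,3,1,2,0,2,2,1,2,0,2,1,2,2,0,3,1,2,0,4,3,0,3,3,1,3,4,1,3,3,0,2,2,1,3,0,3,1,2,0,2,1,2,0,2,1,2,2,0,2,1,3,0,3,1,3,3,0,2,2,1,3,3,3,0,0,4]⟩,
  ⟨3, [2,0,3,3,1,2,0,2,2,1,2,0,2,1,2,2,0,3,1,2,0,4,3,0,3,3,1,3,4,1,2,0,2,1,3,0,3,1,2,0,2,2,2,1,3,0,2,1,2,0,3,1,2,0,3,3,1,2,2,2,0,2,1,3,0,3,3,4], true, 7, [2,0,3,3,1,2,0,2,2,1,2,0,2,1,2,2,0,3,1,2,0,4,3,0,3,3,1,3,4,1,3,3,0,2,2,1,3,0,3,1,2,0,2,1,2,0,2,1,2,2,0,2,1,3,0,3,1,3,3,0,2,2,1,3,3,3,0,0,4]⟩,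
  ⟨7, [2,0,3,3,1,2,0,2,2,1,2,0,2,1,2,2,0,3,1,2,0,4,3,0,3,3,1,3,4,1,3,3,0,2,2,1,3,0,3,1,2,0,2,1,2,0,2,1,2,2,0,2,1,3,0,3,1,3,3,0,2,2,1,3,3,3,4], true, 3, [0,0,4,3,4]⟩,
  ⟨5, [0,2,1,2,0,2,1,2,2,0,3,1,2,0,3,4], true, 7, [0,0]⟩,
  ⟨5, [2,0,3,3,1,2,0,2,2,1,2,0,2,1,2,2,0,3,1,2,0,4,3,0,3,3,1,3,4,1,2,0,2,2,1,2,2,2,0,3,3,1,2,2,2,2,0,3,1,3,0,2,2,4,3,0,3,3,1,3,4,1,4,3,1], true, 7, [0,0]⟩,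
  ⟨7, [], true, 5, [0,2,1,2,0,2,1,2,2,0,3,1,2,0,3,1,1,4]⟩,
  ⟨5, [0,2,1,2,0,2,1,2,2,0,3,1,2,0,3,0,4,3,4], true, 7, [0,2,1,2,0,2,1,2,2,0,3,3,1,2,0,3,1,2,0,2,1,3,3,0,3,0,4]⟩,
  ⟨5, [0,3,1,3,0,3,1,3,3,0,2,1,3,3,0,2,1,3,3,0,3,3,3,1,2,2,2,0,3,3,1,2,2,0,2,0,4,3,3,4], true, 7, [0,2,1,2,0,2,1,2,2,0,3,3,1,2,0,3,1,2,0,2,1,3,3,0,3,0,4]⟩,
  ⟨7, [0,2,1,2,0,2,1,2,2,0,3,3,1,2,0,3,1,2,0,2,1,3,3,0,3,1,4], true, 5, [0,2,1,2,0,2,1,2,2,0,3,1,2,0,3,1,4,3,4]⟩,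
  ⟨5, [4,2,2,4,2,2,4,2,2,4,2,0,2,1,2,2,0,4,2,2,1,3,4], true, 7, [2,0,3,3,1,2,0,2,2,1,2,0,2,1,3,0,2,2,1,3,0,3,1,2,2,0,2,1,3,0,3,1,2,0,2,0,4]⟩,
  ⟨5, [0,2,1,2,0,2,1,3,0,2,2,1,3,0,3,1,2,2,2,0,3,3,1,2,2,2,0,3,1,2,0,4,2,1,2], true, 7, [2,0,3,3,1,2,0,2,2,1,2,0,2,1,3,0,2,2,1,3,0,3,1,2,2,0,2,1,3,0,3,1,2,0,2,0,4]⟩,
  ⟨7, [2,0,3,3,1,2,0,2,2,1,2,0,2,1,3,0,2,2,1,3,0,3,1,2,2,0,2,1,3,0,3,1,2,0,2,1,4], true, 5, [4,2,2,4,2,2,4,2,2,4,2,0,2,1,2,2,0,4,2,2,0,3,4]⟩,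
  ⟨7, [0], false, 7, [1,4,2,4,3,4]⟩,
  ⟨7, [3,0,2,1,3,3,0,3,3,1,2,0,3,1,3,0,2,2,1,3,0,2,1,3,0,4,3,0,3,3,1,3,4,1,2,2,0,3], true, 5, [4,2,2,4,2,2,4,2,2,4,2,0,2,1,2,2,0,4,2,2,0,3,4]⟩,
  ⟨7, [4], false, 7, [2,2,0,2,2,1,3,0,3,3,1,3,3,0,4,2,0,2,2,1,2,4,1,2,2,0,2,2,1,2,0,3,3,1,3,3,3,0,3,3,1,3,0,3,1,4]⟩,
  ⟨7, [2,0,3,3,1,2,0,2,2,1,2,0,2,1,2,2,0,3,1,2,0,4,3,0,3,3,1,3,4,2,1,2,0,2,1,3,0,2,2,1,3,0,3,1,2,2,0,3,1,2,2,2,0,3,3,1,2,2,4], true, 3, [0,0,4,3,4]⟩]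

/-- facts from 120 -/
def facts3 : List Fact := [
  ⟨7, [0,2,1,2,0,2,1,3,0,2,2,1,3,0,3,3,3,1,3,0,2,1,2,0,3,1,3,0,3,3,1,4], true, 5, [0,2,1,2,0,2,1,2,2,0,3,1,2,0,3,1,4,3,4]⟩,
  ⟨7, [3,4], true, 7, [2,0,3,3,1,2,0,2,2,1,2,0,2,1,2,2,0,3,3,1,2,0,2,1,2,2,0,3,1,3,0,2,2,1,2,0,3,1,2,2,2,0,2,1,3,0,3,1,2,2,0,0,4]⟩,
  ⟨7, [2,0,3,3,1,2,0,2,2,1,2,0,2,1,2,2,0,3,3,1,2,0,2,1,2,2,0,3,1,3,0,2,2,1,2,0,3,1,2,2,2,0,2,1,3,0,3,1,2,2,4], true, 7, [3,0,0,4]⟩,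
  ⟨7, [2,0,2,2,1,2,2,0,2,1,3,0,3,1,3,0,2,1,3,3,0,3,3,1,3,3,0,3,3,1,2,0,2,1,3,0,3,1,2,4], true, 7, [3,0,0,4]⟩,
  ⟨7, [3,0,3,3,1,3,3,0,3,3,3,1,2,2,0,2,2,1,2,2,2,0,2,2,1,2,0,3,3,1,3,3,3,0,3,0,4], false, 7, [3,0,0,4]⟩,
  ⟨7, [3,0,2,1,3,0,3,1,3,0,3,1,3,3,0,3,3,1,3,3,0,2,1,3,3,0,3,3,1,3,0,2,1,2,0,3,1,3,0,3,3,1,4], true, 5, [0,2,1,2,0,2,1,2,2,0,3,1,2,0,3,1,4,3,4]⟩,
  ⟨7, [0,3,1,4], false, 7, [0,2,1,2,0,2,1,2,2,0,3,3,1,2,0,3,1,2,0,2,1,3,3,0,3,1,4]⟩,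
  ⟨7, [0,3,3,1,3,4], true, 7, [2,0,3,3,1,2,0,2,2,1,2,0,2,1,2,2,0,3,1,2,0,4,3,0,3,3,1,3,4,2,2,1,2,2,2,2,0,2,2,4,2,0,2,2,1,2,4,1,3,0,2,1,3,0,3,3,1,2,0,2,1,3,0,3,1,2,0,3,3,1,3,0,0,4]⟩,
  ⟨5, [3,3,0,2,2,1,3,0,3,1,2,0,2,1,2,0,2,1,2,2,0,3,3,1,2,0,2,4,3,0,3,3,1,3,4,1,2,0,2,2,1,2,2,2,2,0,2,4], true, 7, [2,2,0,2,2,1,3,0,3,3,1,3,3,0,4,2,0,2,2,1,2,4,1,2,2,0,2,2,1,2,0,3,3,1,3,3,3,0,3,3,1,3,0,3,1,4]⟩,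
  ⟨5, [3,0,2,1,3,3,0,2,1,2,0,3,1,3,0,2,2,1,2,0,3,1,2,0,3,3,4], true, 7, [2,2,0,2,2,1,3,0,3,3,1,3,3,0,4,2,0,2,2,1,2,4,1,2,2,0,2,2,1,2,0,3,3,1,3,3,3,0,3,3,1,3,0,3,1,4]⟩,
  ⟨7, [2,2,0,2,2,1,3,0,3,3,1,3,3,0,4,2,0,2,2,1,2,4,1,2,2,0,2,2,1,2,0,3,3,1,3,3,3,0,3,3,1,3,0,3,0,4], true, 5, [3,3,0,2,2,1,3,0,3,1,2,0,2,1,2,0,2,1,2,2,0,3,3,1,2,0,2,4,3,0,3,3,1,3,4,1,2,0,2,2,1,2,2,2,2,0,2,1,1,4]⟩,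
  ⟨7, [2,0,3,3,1,2,0,2,2,1,2,0,2,1,2,2,0,3,1,2,0,4,3,0,3,3,1,3,4,1,2,2,0,2,2,1,3,0,3,3,1,3,3,0,4,2,0,2,2,1,2,4,0,4], true, 5, [3,3,0,2,2,1,3,0,3,1,2,0,2,1,2,0,2,1,2,2,0,3,3,1,2,0,2,4,3,0,3,3,1,3,4,1,2,0,2,2,1,2,2,2,2,0,2,1,1,4]⟩,
  ⟨7, [2,0,2,2,1,2,2,0,2,1,3,0,3,1,3,0,2,1,3,3,0,3,3,1,3,0,4,3,0,3,3,1,3,4,2,4,3,1,4], true, 3, [3,4,3,4]⟩,
  ⟨7, [2,0,3,3,1,2,0,2,2,1,2,0,2,1,2,2,0,3,1,2,0,4,3,0,3,3,1,3,4,1,2,0,2,2,1,2,2,2,0,3,3,1,2,2,2,2,0,3,1,3,0,2,2,1,3,0,2,1,3,0,3,3,1,2,0,2,1,3,0,3,1,3,0,3,1,2,0,2,1,3,3,0,4,2,4,3,4,3,0], true, 3, [3,4,3,4]⟩,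
  ⟨3, [3,0,0,4,3,4], true, 7, [2,0,2,2,1,2,2,0,2,1,3,0,3,1,3,0,2,1,3,3,0,3,3,1,3,0,4,3,0,3,3,1,3,4,2,4,3,0,4]⟩,
  ⟨3, [0,2,1,2,0,2,1,2,2,0,3,3,1,2,0,2,1,3,0,3,3,1,3,3,0,2,1,3,3,0,0,4,3,4], true, 7, [2,0,2,2,1,2,2,0,2,1,3,0,3,1,3,0,2,1,3,3,0,3,3,1,3,0,4,3,0,3,3,1,3,4,2,4,3,0,4]⟩,
  ⟨5, [3,3,0,2,2,1,3,0,3,1,2,0,2,1,2,0,2,1,2,2,0,3,3,1,2,0,2,4,3,0,3,3,1,3,4,1,2,0,2,2,1,2,2,2,2,0,2,4,3,1,4], true, 7, [3,3,0,2,2,1,3,0,3,1,2,0,2,1,2,0,2,1,2,2,0,3,3,1,2,0,2,1,2,2,2,0,2,2,2,1,3,3,3,4,3,0,4,3,1]⟩,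
  ⟨5, [2,0,3,3,1,2,0,2,2,1,2,0,2,1,2,2,0,3,1,2,0,4,3,0,3,3,1,3,4,1,3,0,2,1,3,3,0,3,3,1,2,0,3,1,3,0,2,2,1,2,2,0,2,2,1,2,0,3,3,1,3,3,3,0,3,3,1,3,3,3,0,3,1,2,0,2,1,3,3,4,2,4,3,4,3,1], true, 7, [3,3,0,2,2,1,3,0,3,1,2,0,2,1,2,0,2,1,2,2,0,3,3,1,2,0,2,1,2,2,2,0,2,2,2,1,3,3,3,4,3,0,4,3,1]⟩,
  ⟨7, [3,3,0,2,2,1,3,0,3,1,2,0,2,1,2,0,2,1,2,2,0,3,3,1,2,0,2,1,2,2,2,0,2,2,2,1,3,3,3,4,3,0,4,3,0], true, 5, [3,3,0,2,2,1,3,0,3,1,2,0,2,1,2,0,2,1,2,2,0,3,3,1,2,0,2,4,3,0,3,3,1,3,4,1,2,0,2,2,1,2,2,2,2,0,2,4,3,0,4]⟩,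
  ⟨7, [3,3,0,2,2,1,3,0,3,1,2,0,2,1,2,0,2,1,2,2,0,3,3,1,2,0,2,1,4,3,0,4,3,0], true, 5, [3,3,0,2,2,1,3,0,3,1,2,0,2,1,2,0,2,1,2,2,0,3,3,1,2,0,2,4,3,0,3,3,1,3,4,1,2,0,2,2,1,2,2,2,2,0,2,4,3,0,4]⟩,
  ⟨7, [2,0,3,3,1,2,0,2,2,1,2,0,2,1,2,2,0,3,1,2,0,4,3,0,3,3,1,3,4,1,3,0,2,1,3,3,0,3,3,1,2,0,3,1,3,0,2,2,1,2,0,3,3,1,2,0,2,1,2,0,2,2,1,2,0,2,2,2,4,2,2,0,3,4], true, 3, [2,0,3,3,1,2,0,2,2,1,2,0,2,1,2,2,0,3,1,2,0,4,3,0,3,3,1,3,4,1,4,2,2,4,2,2,4,2,2,4,2,0,2,1,3,3,0,3,3,1,2,0,2,2,1,2,0,3,3,1,3,0,2,2,1,2,0,2,2,2,4,2,2,0,3,4]⟩,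
  ⟨7, [2,0,3,3,1,2,0,2,2,1,2,0,2,1,3,0,2,2,1,3,0,3,1,2,2,0,2,1,3,0,3,1,3,3,0,2,2,1,3,3,4,2,2,0,3], true, 3, [2,0,3,3,1,2,0,2,2,1,2,0,2,1,2,2,0,3,1,2,0,4,3,0,3,3,1,3,4,1,4,2,2,4,2,2,4,2,2,4,2,0,2,1,3,3,0,3,3,1,2,0,2,2,1,2,0,3,3,1,3,0,2,2,1,2,0,2,2,2,4,2,2,0,3,4]⟩,
  ⟨3, [2,0,3,3,1,2,0,2,2,1,2,0,2,1,2,2,0,3,1,2,0,4,3,0,3,3,1,3,4,1,4,2,2,4,2,2,4,2,2,4,2,0,2,1,3,3,0,3,3,1,2,0,2,2,1,2,0,3,3,1,3,0,2,2,1,2,0,2,2,2,4,2,2,1,3,4], true, 7, [2,0,3,3,1,2,0,2,2,1,2,0,2,1,2,2,0,3,1,2,0,4,3,0,3,3,1,3,4,1,3,0,2,1,3,3,0,3,3,1,2,0,3,1,3,0,2,2,1,2,0,3,3,1,2,0,2,1,2,0,2,2,1,2,0,2,2,2,4,2,2,1,3,4]⟩,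
  ⟨3, [0,2,1,2,0,2,1,3,0,2,2,1,3,0,3,1,2,2,2,0,2,2,1,2,0,3,3,1,3,0,2,2,1,2,0,2,2,2,4,2,1,2], true, 7, [2,0,3,3,1,2,0,2,2,1,2,0,2,1,2,2,0,3,1,2,0,4,3,0,3,3,1,3,4,1,3,0,2,1,3,3,0,3,3,1,2,0,3,1,3,0,2,2,1,2,0,3,3,1,2,0,2,1,2,0,2,2,1,2,0,2,2,2,4,2,2,1,3,4]⟩,
  ⟨6, [2,0,3,3,1,2,0,2,2,1,2,0,2,1,2,2,0,3,1,2,0,4,3,0,3,3,1,3,4,1,2,2,0,2,1,2,2,2,0,2,1,2,2,2,0,2,2,1,2,2,2,0,3,3,3,1,2,0,4], true, 7, [2,0,3,3,1,2,0,2,2,1,2,0,2,1,2,2,0,3,1,2,0,4,3,0,3,3,1,3,4,1,3,3,0,2,2,1,3,0,3,1,2,2,0,3,1,2,2,0,2,2,1,2,2,0,2,1,4,2,0,2,4]⟩,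
  ⟨6, [3,0,2,1,3,3,0,3,3,1,2,0,3,1,3,0,2,2,1,2,0,3,3,1,2,0,2,1,3,0,2,2,2,1,2,0,4], true, 7, [2,0,3,3,1,2,0,2,2,1,2,0,2,1,2,2,0,3,1,2,0,4,3,0,3,3,1,3,4,1,3,3,0,2,2,1,3,0,3,1,2,2,0,3,1,2,2,0,2,2,1,2,2,0,2,1,4,2,0,2,4]⟩,
  ⟨7, [2,0,3,3,1,2,0,2,2,1,2,0,2,1,2,2,0,3,1,2,0,4,3,0,3,3,1,3,4,1,3,3,0,2,2,1,3,0,3,1,2,2,0,3,1,2,2,0,2,2,1,2,2,0,2,1,4,2,1,2,4], true, 6, [2,0,3,3,1,2,0,2,2,1,2,0,2,1,2,2,0,3,1,2,0,4,3,0,3,3,1,3,4,1,2,2,0,2,1,2,2,2,0,2,1,2,2,2,0,2,2,1,2,2,2,0,3,3,3,1,2,1,4]⟩,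
  ⟨7, [2,0,3,3,1,2,0,2,2,1,2,0,2,1,2,2,0,3,1,2,0,4,3,0,3,3,1,3,4,2,1,2,0,2,1,3,0,2,2,1,3,0,3,1,2,2,0,2,1,3,0,3,1,2,0,3,1,3,0,3,1,3,4,2,2,1,4,3,4,2], true, 6, [2,0,3,3,1,2,0,2,2,1,2,0,2,1,2,2,0,3,1,2,0,4,3,0,3,3,1,3,4,1,2,2,0,2,1,2,2,2,0,2,1,2,2,2,0,2,2,1,2,2,2,0,3,3,3,1,2,1,4]⟩,
  ⟨6, [2,0,3,3,1,2,0,2,2,1,2,0,2,1,2,2,0,3,1,2,0,4,3,0,3,3,1,3,4,1,2,2,0,2,1,2,2,2,0,2,1,2,2,2,0,2,2,1,2,2,2,0,3,3,3,1,2,0,0,4,3,3,4], true, 7, [0,2,1,2,0,2,1,2,2,0,3,3,1,2,0,2,2,1,2,0,2,1,2,0,4,3,0,3,3,1,3,4,1,2,0,2,2,1,2,2,2,4,3,4,2,2,2,4,2]⟩,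
  ⟨6, [2,0,3,3,1,2,0,2,2,1,2,0,2,1,2,2,0,3,1,2,0,4,3,0,3,3,1,3,4,1,3,3,0,2,2,1,3,0,3,1,2,2,2,0,2,2,1,2,0,3,3,1,3,3,3,3,0,3,1,2,0,2,0,4,3,3,4], true, 7, [0,2,1,2,0,2,1,2,2,0,3,3,1,2,0,2,2,1,2,0,2,1,2,0,4,3,0,3,3,1,3,4,1,2,0,2,2,1,2,2,2,4,3,4,2,2,2,4,2]⟩,
  ⟨7, [0,3,1,3,0,3,1,3,3,0,2,1,3,3,0,2,1,3,3,0,3,3,3,1,2,2,0,3,1,2,2,2,2,0,2,1,4,2,4,2,2,4,2,1,3], true, 6, [2,0,3,3,1,2,0,2,2,1,2,0,2,1,2,2,0,3,1,2,0,4,3,0,3,3,1,3,4,1,2,2,0,2,1,2,2,2,0,2,1,2,2,2,0,2,2,1,2,2,2,0,3,3,3,1,2,4,3,3,4]⟩,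
  ⟨7, [0,3,1,3,0,3,1,3,3,0,2,1,3,3,0,2,1,3,3,0,3,1,3,0,3,1,2,0,3,1,2,2,2,2,0,2,1,2,0,0,4,2,2,4,3,3], true, 6, [2,0,3,3,1,2,0,2,2,1,2,0,2,1,2,2,0,3,1,2,0,4,3,0,3,3,1,3,4,1,2,2,0,2,1,2,2,2,0,2,1,2,2,2,0,2,2,1,2,2,2,0,3,3,3,1,2,4,3,3,4]⟩,
  ⟨6, [2,0,3,3,1,2,0,2,2,1,2,0,2,1,2,2,0,3,1,2,0,4,3,0,3,3,1,3,4,1,3,3,0,2,2,1,3,0,3,1,2,0,4,3,0,3,3,1,3,4,1,2,2,0,2,4,2,1,4], true, 7, [2,0,3,3,1,2,0,2,2,1,2,0,2,1,2,2,0,3,1,2,0,4,3,0,3,3,1,3,4,1,2,0,2,1,3,0,3,1,2,0,2,2,2,1,3,0,2,1,2,0,3,1,3,3,3,0,3,1,2,0,2,1,3,3,4,3,3,0,3,1,3]⟩,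
  ⟨6, [2,0,2,1,3,0,3,1,2,0,2,2,2,1,3,0,2,1,2,0,3,3,1,2,0,2,1,2,0,3,1,2,0,2,1,3,0,3,1,2,4,2,0,4,2,4,2,1], true, 7, [2,0,3,3,1,2,0,2,2,1,2,0,2,1,2,2,0,3,1,2,0,4,3,0,3,3,1,3,4,1,2,0,2,1,3,0,3,1,2,0,2,2,2,1,3,0,2,1,2,0,3,1,3,3,3,0,3,1,2,0,2,1,3,3,4,3,3,0,3,1,3]⟩,
  ⟨7, [2,0,3,3,1,2,0,2,2,1,2,0,2,1,2,2,0,3,1,2,0,4,3,0,3,3,1,3,4,1,2,0,2,1,3,0,3,1,2,0,2,2,2,1,3,0,2,1,2,0,3,1,3,3,3,0,3,1,2,0,2,1,3,3,4,3,3,0,3,0,3], true, 6, [2,0,3,3,1,2,0,2,2,1,2,0,2,1,2,2,0,3,1,2,0,4,3,0,3,3,1,3,4,1,3,3,0,2,2,1,3,0,3,1,2,0,4,3,0,3,3,1,3,4,1,2,2,0,2,4,2,0,4]⟩,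
  ⟨7, [2,0,3,3,1,2,0,2,2,1,2,0,2,1,2,2,0,3,1,2,0,4,3,0,3,3,1,3,4,1,4,2,2,4,2,2,4,2,2,4,2,0,2,1,3,3,0,3,3,1,2,0,3,3,1,2,2,2,0,2,1,3,0,3,3,1,4,3,3,0,3,0,3], true, 6, [2,0,3,3,1,2,0,2,2,1,2,0,2,1,2,2,0,3,1,2,0,4,3,0,3,3,1,3,4,1,3,3,0,2,2,1,3,0,3,1,2,0,4,3,0,3,3,1,3,4,1,2,2,0,2,4,2,0,4]⟩,
  ⟨6, [2,0,3,3,1,2,0,2,2,1,2,0,2,1,2,2,0,3,1,2,0,4,3,0,3,3,1,3,4,1,2,2,0,2,1,2,2,2,0,2,1,2,2,2,0,2,2,1,2,2,2,0,3,3,1,2,2,2,2,2,0,4,2,1,2,4], true, 7, [2,0,3,3,1,2,0,2,1,2,2,0,2,1,3,0,3,1,2,2,0,4,2,4,2,1,2,4]⟩,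
  ⟨6, [0,2,1,2,0,2,1,3,0,2,2,1,3,0,3,1,2,2,2,0,3,1,3,0,2,2,1,2,0,3,1,2,2,2,2,0,4,2,1,2,4], true, 7, [2,0,3,3,1,2,0,2,1,2,2,0,2,1,3,0,3,1,2,2,0,4,2,4,2,1,2,4]⟩,
  ⟨7, [2,0,3,3,1,2,0,2,1,2,2,0,2,1,3,0,3,1,2,2,0,4,2,4,2,0,2,4], true, 6, [2,0,3,3,1,2,0,2,2,1,2,0,2,1,2,2,0,3,1,2,0,4,3,0,3,3,1,3,4,1,2,2,0,2,1,2,2,2,0,2,1,2,2,2,0,2,2,1,2,2,2,0,3,3,1,2,2,2,2,2,0,4,2,0,2,4]⟩,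
  ⟨7, [2,0,3,3,1,2,0,2,1,3,0,3,3,1,3,3,0,2,1,3,3,3,0,3,1,2,0,2,1,3,0,4,2,2,0,2,0,3,4], true, 6, [2,0,3,3,1,2,0,2,2,1,2,0,2,1,2,2,0,3,1,2,0,4,3,0,3,3,1,3,4,1,2,2,0,2,1,2,2,2,0,2,1,2,2,2,0,2,2,1,2,2,2,0,3,3,1,2,2,2,2,2,0,4,2,0,2,4]⟩]

/-- facts from 160 -/
def facts4 : List Fact := [
  ⟨6, [2,0,3,3,1,2,0,2,2,1,2,0,2,1,2,2,0,3,1,2,0,4,3,0,3,3,1,3,4,1,2,2,0,2,1,2,2,2,0,2,1,2,2,2,0,2,2,1,2,2,2,0,2,1,3,0,4,2,2,2,1,4], true, 7, [2,0,3,3,1,2,0,2,2,1,2,0,2,1,2,2,0,3,1,2,0,4,3,0,3,3,1,3,4,1,2,0,2,2,1,2,2,0,2,1,3,0,3,1,3,0,2,1,3,3,0,3,3,1,3,0,4,3,0,3,3,1,3,4,1,2,0,2,2,1,3,0,3,1,2,0,2,1,3,4,3,4,3,3,1,4]⟩,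
  ⟨6, [2,0,3,3,1,2,0,2,2,1,2,0,2,1,2,2,0,3,1,2,0,4,3,0,3,3,1,3,4,2,2,1,2,2,2,2,0,2,2,4,2,0,2,2,1,2,4,1,2,2,2,0,2,1,3,3,0,4,2,2,2,0,2,0,2], true, 7, [2,0,3,3,1,2,0,2,2,1,2,0,2,1,2,2,0,3,1,2,0,4,3,0,3,3,1,3,4,1,2,0,2,2,1,2,2,0,2,1,3,0,3,1,3,0,2,1,3,3,0,3,3,1,3,0,4,3,0,3,3,1,3,4,1,2,0,2,2,1,3,0,3,1,2,0,2,1,3,4,3,4,3,3,1,4]⟩,
  ⟨7, [2,0,3,3,1,2,0,2,2,1,2,0,2,1,2,2,0,3,1,2,0,4,3,0,3,3,1,3,4,1,2,0,2,2,1,2,2,0,2,1,3,0,3,1,3,0,2,1,3,3,0,3,3,1,3,0,4,3,0,3,3,1,3,4,1,2,0,2,2,1,3,0,3,1,2,0,2,1,3,4,3,4,3,3,0,4], true, 6, [2,0,3,3,1,2,0,2,2,1,2,0,2,1,2,2,0,3,1,2,0,4,3,0,3,3,1,3,4,1,2,2,0,2,1,2,2,2,0,2,1,2,2,2,0,2,2,1,2,2,2,0,2,1,3,0,4,2,2,2,0,4]⟩,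
  ⟨7, [2,0,2,1,3,0,3,1,2,0,2,2,2,1,3,0,2,1,2,0,3,1,3,3,0,2,1,3,0,4,3,0,3,3,1,3,4,1,2,2,2,0,3,1,2,0,4,2,2,2,0,2,0,4,2], true, 6, [2,0,3,3,1,2,0,2,2,1,2,0,2,1,2,2,0,3,1,2,0,4,3,0,3,3,1,3,4,1,2,2,0,2,1,2,2,2,0,2,1,2,2,2,0,2,2,1,2,2,2,0,2,1,3,0,4,2,2,2,0,4]⟩,
  ⟨7, [2,0,3,3,1,2,0,2,2,1,2,0,2,1,2,2,0,3,1,2,0,4,3,0,3,3,1,3,4,1,3,3,0,2,2,1,3,0,3,1,2,0,2,1,2,0,2,1,2,2,0,2,1,3,0,3,1,3,3,0,2,2,1,3,3,3,0,4], true, 7, [2,0,3,3,1,2,0,2,2,1,2,0,2,1,2,2,0,3,1,2,0,4,3,0,3,3,1,3,4,1,2,0,2,1,3,0,3,1,2,0,2,2,2,1,3,0,2,1,2,0,3,3,1,2,4,3,1,4]⟩,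
  ⟨7, [2,0,3,3,1,2,0,2,2,1,2,0,2,1,2,2,0,3,1,2,0,4,3,0,3,3,1,3,4,2,1,2,0,2,1,3,0,2,2,1,3,0,3,1,2,2,0,3,1,2,2,2,0,3,3,1,2,2,0,4], true, 7, [2,0,3,3,1,2,0,2,2,1,2,0,2,1,2,2,0,3,1,2,0,4,3,0,3,3,1,3,4,1,2,0,2,1,3,0,3,1,2,0,2,2,2,1,3,0,2,1,2,0,3,3,1,2,4,3,1,4]⟩,
  ⟨7, [2,0,3,3,1,2,0,2,2,1,2,0,2,1,2,2,0,3,1,2,0,4,3,0,3,3,1,3,4,2,2,1,2,2,2,2,0,2,2,4,2,0,2,2,1,2,4,1,3,0,2,1,3,0,3,3,1,2,0,2,1,3,0,3,1,2,2,2,0,2,1,2,0,4,2,1,4], true, 7, [2,0,3,3,1,2,0,2,2,1,2,0,2,1,2,2,0,3,1,2,0,4,3,0,3,3,1,3,4,1,2,2,0,2,2,1,3,0,3,3,1,3,3,0,4,2,0,2,2,1,2,4,1,3,0,3,3,1,3,0,2,1,2,0,3,1,3,0,2,2,1,2,0,2,1,4,2,1]⟩,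
  ⟨7, [2,0,3,3,1,2,0,2,2,1,2,0,2,1,2,2,0,3,1,2,0,4,3,0,3,3,1,3,4,2,2,1,2,2,2,2,0,2,2,4,2,0,2,2,1,2,4,2,1,2,0,2,1,2,2,2,0,3,3,1,2,2,2,0,3,1,2,0,3,4,2,1], true, 7, [2,0,3,3,1,2,0,2,2,1,2,0,2,1,2,2,0,3,1,2,0,4,3,0,3,3,1,3,4,1,2,2,0,2,2,1,3,0,3,3,1,3,3,0,4,2,0,2,2,1,2,4,1,3,0,3,3,1,3,0,2,1,2,0,3,1,3,0,2,2,1,2,0,2,1,4,2,1]⟩,
  ⟨7, [2,0,3,3,1,2,0,2,2,1,2,0,2,1,2,2,0,3,1,2,0,4,3,0,3,3,1,3,4,1,2,2,0,2,2,1,3,0,3,3,1,3,3,0,4,2,0,2,2,1,2,4,1,3,0,3,3,1,3,0,2,1,2,0,3,1,3,0,2,2,1,2,0,2,1,4,2,0], true, 7, [2,0,3,3,1,2,0,2,2,1,2,0,2,1,2,2,0,3,1,2,0,4,3,0,3,3,1,3,4,2,2,1,2,2,2,2,0,2,2,4,2,0,2,2,1,2,4,1,3,0,2,1,3,0,3,3,1,2,0,2,1,3,0,3,1,2,2,2,0,2,1,2,0,4,2,0,4]⟩,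
  ⟨7, [0,2,1,2,0,3,1,3,0,2,1,2,0,3,1,3,0,2,2,1,2,0,2,1,4,2,0], true, 7, [2,0,3,3,1,2,0,2,2,1,2,0,2,1,2,2,0,3,1,2,0,4,3,0,3,3,1,3,4,2,2,1,2,2,2,2,0,2,2,4,2,0,2,2,1,2,4,1,3,0,2,1,3,0,3,3,1,2,0,2,1,3,0,3,1,2,2,2,0,2,1,2,0,4,2,0,4]⟩,
  ⟨7, [0,4,2,4,3,4], true, 7, [1,4,2,4,3,4]⟩,
  ⟨7, [1], true, 7, [1,4,2,4,3,4]⟩,
  ⟨7, [0,2,1,2,0,2,1,2,2,0,3,3,1,2,0,3,1,2,0,2,1,3,3,0,3,4,3,1,4], true, 7, [0,4,2,0,2,2,1,2,4,1,3,0,2,1,2,0,3,3,1,2,2,2,0,3,1,2,2,2,0,4,2,2,4,2,1,3,4]⟩,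
  ⟨7, [2,0,3,3,1,2,0,2,2,1,2,0,2,1,2,2,0,3,1,2,0,4,3,0,3,3,1,3,4,2,1,2,0,2,1,3,0,2,2,1,3,0,3,3,3,1,3,0,2,1,2,0,3,1,3,0,3,3,4,3,1,4], true, 7, [0,4,2,0,2,2,1,2,4,1,3,0,2,1,2,0,3,3,1,2,2,2,0,3,1,2,2,2,0,4,2,2,4,2,1,3,4]⟩,
  ⟨7, [0,4,2,0,2,2,1,2,4,1,3,0,2,1,2,0,3,3,1,2,2,2,0,3,1,2,2,2,0,4,2,2,4,2,0,3,4], true, 7, [0,2,1,2,0,2,1,2,2,0,3,3,1,2,0,3,1,2,0,2,1,3,3,0,3,4,3,0,4]⟩,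
  ⟨7, [3,0,2,1,3,3,0,3,3,1,2,0,3,1,3,0,2,2,2,1,2,0,3,1,3,3,0,2,1,4,3,3,0,4,3,0], true, 7, [0,2,1,2,0,2,1,2,2,0,3,3,1,2,0,3,1,2,0,2,1,3,3,0,3,4,3,0,4]⟩,
  ⟨7, [0,2,1,2,0,2,1,2,2,0,3,3,1,2,0,3,1,2,0,2,1,3,3,0,3,0,4,2,2,2,4], true, 7, [2,0,3,3,1,2,0,2,2,1,2,0,2,1,2,2,0,3,1,2,0,4,3,0,3,3,1,3,4,1,2,2,0,3,1,3,0,2,2,1,3,3,0,3,1,2,4,2,2,2,4]⟩,
  ⟨7, [2,0,3,3,1,2,0,2,2,1,2,0,2,1,2,2,0,3,1,2,0,4,3,0,3,3,1,3,4,3,3,1,3,3,3,3,0,3,3,1,2,0,3,1,2,0,4,3,0,3,3,1,3,4,1,2,0,2,2,1,2,0,2,2,4,2,4,3,4,3,1], true, 7, [2,0,3,3,1,2,0,2,2,1,2,0,2,1,2,2,0,3,1,2,0,4,3,0,3,3,1,3,4,1,2,2,0,3,1,3,0,2,2,1,3,3,0,3,1,2,4,2,2,2,4]⟩,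
  ⟨7, [2,0,3,3,1,2,0,2,2,1,2,0,2,1,2,2,0,3,1,2,0,4,3,0,3,3,1,3,4,1,3,3,0,2,2,1,3,0,3,1,2,0,2,1,2,0,2,1,2,0,3,1,3,0,3,1,3,3,3,0,4,2,1,2,4], true, 7, [2,0,3,3,1,2,0,2,2,1,2,0,2,1,2,2,0,3,1,2,0,4,3,0,3,3,1,3,4,1,4,2,2,4,2,2,4,2,2,4,2,0,2,1,3,3,0,3,3,1,3,3,0,2,1,2,0,2,1,3,0,3,1,2,0,2,4,2,0,4,2,2,1,2]⟩,
  ⟨7, [0,2,2,1,2,2,2,2,0,2,2,4,2,0,2,2,1,2,4,2,1,2,0,2,1,2,2,0,3,1,2,2,0,3,1,2,2,2,2,0,3,1,2,2,0,4,2,1,2,4], true, 7, [2,0,3,3,1,2,0,2,2,1,2,0,2,1,2,2,0,3,1,2,0,4,3,0,3,3,1,3,4,1,4,2,2,4,2,2,4,2,2,4,2,0,2,1,3,3,0,3,3,1,3,3,0,2,1,2,0,2,1,3,0,3,1,2,0,2,4,2,0,4,2,2,1,2]⟩,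
  ⟨7, [2,0,3,3,1,2,0,2,2,1,2,0,2,1,2,2,0,3,1,2,0,4,3,0,3,3,1,3,4,1,4,2,2,4,2,2,4,2,2,4,2,0,2,1,3,3,0,3,3,1,3,3,0,2,1,2,0,2,1,3,0,3,1,2,0,2,4,2,0,4,2,2,0,2], true, 7, [2,0,3,3,1,2,0,2,2,1,2,0,2,1,2,2,0,3,1,2,0,4,3,0,3,3,1,3,4,1,3,3,0,2,2,1,3,0,3,1,2,0,2,1,2,0,2,1,2,0,3,1,3,0,3,1,3,3,3,0,4,2,0,2,4]⟩,
  ⟨7, [0,2,2,1,2,2,2,2,0,2,2,4,2,0,2,2,1,2,4,2,1,2,0,2,1,2,0,3,1,3,0,3,1,3,3,0,3,3,1,2,2,0,2,1,2,0,4,2,0,4,2,2,0,2], true, 7, [2,0,3,3,1,2,0,2,2,1,2,0,2,1,2,2,0,3,1,2,0,4,3,0,3,3,1,3,4,1,3,3,0,2,2,1,3,0,3,1,2,0,2,1,2,0,2,1,2,0,3,1,3,0,3,1,3,3,3,0,4,2,0,2,4]⟩,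
  ⟨7, [2,0,3,3,1,2,0,2,2,1,2,0,2,1,3,0,2,2,1,3,0,3,1,2,0,3,3,1,2,0,2,1,3,3,0,3,4,2,2,4,3,4,2], true, 7, [2,0,3,3,1,2,0,2,2,1,2,0,2,1,2,2,0,3,1,2,0,4,3,0,3,3,1,3,4,1,3,0,2,1,3,0,3,1,3,0,3,1,3,3,0,3,3,1,3,3,0,2,1,3,0,2,1,2,0,2,1,2,2,0,2,2,1,2,2,0,3,1,2,0,3,3,1,3,0,4,2,2,1,4,2,4,2,2]⟩,
  ⟨7, [2,2,0,2,2,1,3,0,3,3,1,3,3,0,4,2,0,2,2,1,2,4,1,2,2,2,0,2,2,2,1,3,0,2,1,3,0,3,1,2,2,0,4,2,4,3,3,0,4,3,4], true, 7, [2,0,3,3,1,2,0,2,2,1,2,0,2,1,2,2,0,3,1,2,0,4,3,0,3,3,1,3,4,1,3,0,2,1,3,0,3,1,3,0,3,1,3,3,0,3,3,1,3,3,0,2,1,3,0,2,1,2,0,2,1,2,2,0,2,2,1,2,2,0,3,1,2,0,3,3,1,3,0,4,2,2,1,4,2,4,2,2]⟩,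
  ⟨5, [0,4,3,4], true, 8, []⟩,
  ⟨8, [0,0], true, 5, [1,4,3,4]⟩,
  ⟨8, [2,2,0,2,2,1,3,0,3,3,1,3,3,0,4,2,0,2,2,1,2,4,3,3,1,2,0,2,1,3,3,3,4], false, 8, [4,2,2,4,2,2,4,2,2,4,2,0,2,1,3,3,0,3,3,3,1,2,0,2,1,2,0,3,1,2,0,2,1,2,0,0]⟩,
  ⟨8, [0,3,1,3,0,3,1,3,3,0,2,1,3,3,0,2,1,3,3,0,3,1,3,0,3,1,3,0,2,1,2,4], false, 8, [0,2,1,2,0,2,1,2,2,0,3,3,1,2,0,2,1,3,0,3,3,1,3,3,3,0,2,2,1,3,3,0,2,2,1,2,2,0,0]⟩,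
  ⟨8, [2,0,2,2,1,2,2,2,0,3,3,1,2,2,2,2,0,3,1,3,0,2,2,1,2,0,2,2,1,2,2,2,0,3,1,3,0,2,2,1,4], true, 5, [1,4,3,4]⟩,
  ⟨6, [2,0,3,3,1,2,0,2,2,1,2,0,2,1,2,2,0,3,1,2,0,4,3,0,3,3,1,3,4,2,1,2,0,2,1,2,2,0,3,3,1,2,0,2,2,1,2,0,2,1,2,0,3,3,1,2,0,2,1,3,3,3,0,2,1,3,0,2,4,2,1,2,4], true, 8, [0,2,1,2,0,2,1,2,2,0,3,3,1,2,0,2,1,2,0,3,1,2,2,2,2,0,0,4]⟩,
  ⟨6, [2,0,3,3,1,2,0,2,2,1,2,0,2,1,2,2,0,3,1,2,0,4,3,0,3,3,1,3,4,1,2,0,2,2,1,2,2,0,2,1,3,0,3,1,3,0,2,1,3,3,0,3,3,1,2,0,3,1,3,0,2,2,1,2,0,3,1,2,2,2,2,0,3,1,3,0,4,2,1,2,4], true, 8, [0,2,1,2,0,2,1,2,2,0,3,3,1,2,0,2,1,2,0,3,1,2,2,2,2,0,0,4]⟩,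
  ⟨8, [0,2,1,2,0,2,1,2,2,0,3,3,1,2,0,2,1,2,0,3,1,2,2,2,2,4], true, 6, [2,0,3,3,1,2,0,2,2,1,2,0,2,1,2,2,0,3,1,2,0,4,3,0,3,3,1,3,4,2,1,2,0,2,1,2,2,0,3,3,1,2,0,2,2,1,2,0,2,1,2,0,3,3,1,2,0,2,1,3,3,3,0,2,1,3,0,2,4,2,0,2,4]⟩,
  ⟨8, [2,0,3,3,1,2,0,2,2,1,2,0,2,1,2,2,0,3,1,2,0,4,3,0,3,3,1,3,4,1,3,3,0,2,2,1,3,0,3,1,2,2,0,2,1,3,0,3,1,2,2,0,3,4,2,0,4,2,4,2,0], true, 6, [2,0,3,3,1,2,0,2,2,1,2,0,2,1,2,2,0,3,1,2,0,4,3,0,3,3,1,3,4,2,1,2,0,2,1,2,2,0,3,3,1,2,0,2,2,1,2,0,2,1,2,0,3,3,1,2,0,2,1,3,3,3,0,2,1,3,0,2,4,2,0,2,4]⟩,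
  ⟨7, [0,3,0,4], true, 8, [0,2,2,1,2,2,2,2,0,2,2,4,2,0,2,2,1,2,4,1,2,0,2,2,1,3,0,2,2,1,2,0,2,1,2,2,0,2,0,4]⟩,
  ⟨8, [0,2,2,1,2,2,2,2,0,2,2,4,2,0,2,2,1,2,4,1,2,0,2,2,1,3,0,2,2,1,2,0,2,1,2,2,0,2,1,4], true, 7, [0,3,1,4]⟩,
  ⟨8, [2,0,2,2,1,2,2,0,2,1,3,0,3,1,3,0,2,1,3,3,0,3,3,3,1,2,2,2,2,0,2,1,2,2,0,2], true, 7, [0,3,1,4]⟩,
  ⟨8, [0,2,2,1,2,2,2,2,0,2,2,4,2,0,2,2,1,2,4,1,2,0,2,2,1,3,0,2,2,1,2,0,2,1,2,2,0,2,0,4], true, 8, [0,2,1,2,0,3,1,2,0,4,3,1,4,3,4]⟩,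
  ⟨8, [2,0,2,2,1,2,2,0,2,1,3,0,3,1,3,0,2,1,3,3,0,3,3,3,1,2,2,2,2,0,2,1,2,2,0,2,1,1], true, 8, [0,2,1,2,0,3,1,2,0,4,3,1,4,3,4]⟩,
  ⟨7, [0,2,1,2,0,2,1,2,2,0,3,3,1,2,0,3,1,2,0,2,1,3,3,0,3,4], true, 8, [2,0,2,1,3,0,3,0]⟩,
  ⟨7, [0,3,4], true, 8, [2,0,2,1,3,0,3,0]⟩]

/-- facts from 200 -/
def facts5 : List Fact := [
  ⟨8, [2,0,2,1,3,0,3,1], true, 7, [0,2,1,2,0,2,1,2,2,0,3,3,1,2,0,3,1,2,0,2,1,3,3,0,3,1,1,4]⟩,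
  ⟨7, [0,2,1,2,0,2,1,2,2,0,3,3,1,2,0,3,1,2,0,2,1,3,3,0,3,0,4,3,4], true, 8, [2,0,3,3,1,2,0,2,2,1,2,0,2,1,2,2,0,3,1,2,0,4,3,0,3,3,1,3,4,1,2,0,2,2,1,2,2,0,2,1,3,0,3,1,3,0,2,1,3,3,0,3,3,1,3,3,0,3,3,1,3,3,3,0,2,2,1,3,3,0,2,2,1,2,0,2,0,4]⟩,
  ⟨7, [2,0,3,3,1,2,0,2,2,1,2,0,2,1,2,2,0,3,1,2,0,4,3,0,3,3,1,3,4,3,0,4,3,4], true, 8, [2,0,3,3,1,2,0,2,2,1,2,0,2,1,2,2,0,3,1,2,0,4,3,0,3,3,1,3,4,1,2,0,2,2,1,2,2,0,2,1,3,0,3,1,3,0,2,1,3,3,0,3,3,1,3,3,0,3,3,1,3,3,3,0,2,2,1,3,3,0,2,2,1,2,0,2,0,4]⟩,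
  ⟨8, [2,0,3,3,1,2,0,2,2,1,2,0,2,1,2,2,0,3,1,2,0,4,3,0,3,3,1,3,4,1,2,0,2,2,1,2,2,0,2,1,3,0,3,1,3,0,2,1,3,3,0,3,3,1,3,3,0,3,3,1,3,3,3,0,2,2,1,3,3,0,2,2,1,2,0,2,1,4], true, 7, [0,2,1,2,0,2,1,2,2,0,3,3,1,2,0,3,1,2,0,2,1,3,3,0,3,1,4,3,4]⟩,
  ⟨8, [2,0,3,3,1,2,0,2,2,1,2,0,2,1,2,2,0,3,1,2,0,4,3,0,3,3,1,3,4,1,3,0,3,3,1,3,3,0,3,3,3,1,2,2,0,2,2,1,2,2,0,2,2,1,3,0,2,2,1,2,0,2,1,3,0,4,3,0], true, 7, [0,2,1,2,0,2,1,2,2,0,3,3,1,2,0,3,1,2,0,2,1,3,3,0,3,1,4,3,4]⟩,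
  ⟨8, [3,3,4], false, 8, [0,2,1,2,0,2,1,2,2,0,3,3,1,2,0,2,1,2,0,2,1,3,0,3,1,2,2,2,0,2,1,2,2,0,4,2,2,0,3]⟩,
  ⟨8, [2,0,3,3,1,2,0,2,2,1,2,0,2,1,2,2,0,3,1,2,0,4,3,0,3,3,1,3,4,1,3,3,0,2,2,1,3,0,3,1,2,0,2,1,2,0,2,1,2,2,0,3,3,3,1,2,2,4], true, 6, [2,0,3,3,1,2,0,2,2,1,2,0,2,1,2,2,0,3,1,2,0,4,3,0,3,3,1,3,4,2,1,2,0,2,1,2,2,0,3,3,1,2,0,2,2,1,2,0,2,1,2,0,3,3,1,2,0,2,1,3,3,3,0,2,1,3,0,2,4,2,0,2,4]⟩,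
  ⟨8, [2,2,2,4], true, 8, [2,0,3,3,1,2,0,2,2,1,2,0,2,1,2,2,0,3,1,2,0,4,3,0,3,3,1,3,4,1,2,0,3,3,1,2,0,2,4,3,0,3,3,1,3,4,1,2,0,2,2,1,3,0,3,1,2,0,2,1,3,0,0,4]⟩,
  ⟨7, [0,3,3,1,3,0,4], true, 9, []⟩,
  ⟨9, [0,0], true, 7, [0,3,3,1,3,1,4]⟩,
  ⟨9, [3,3,0,2,2,1,3,0,3,1,2,0,2,1,2,0,2,1,2,2,0,3,3,1,2,0,2,1,2,2,0,2,2,1,2,0,3,3,1,3,3,3,0,3,3,1,3], false, 9, [2,0,2,2,1,2,2,2,0,3,3,1,2,2,2,2,0,3,1,3,0,2,2,1,2,0,3,1,2,0,2,1,2,0,3,1,3,0,0]⟩,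
  ⟨9, [2,0,3,3,1,2,0,2,2,1,2,0,2,1,2,2,0,3,1,2,0,4,3,0,3,3,1,3,4,1,2,2,0,2,1,2,2,2,0,2,1,2,2,2,0,2,2,1,2,2,0,3,1,2,0,2,1,2,0,3,1,3], true, 7, [0,3,3,1,3,1,4]⟩,
  ⟨9, [0,3,1,3,0,3,1,3,3,0,2,1,3,3,0,2,1,3,3,0,3,3,1,3,3,0,2,1,3,0,4,3,0,3,3,1,3,4,1,2,0,2,1,4], false, 9, [2,0,3,3,1,2,0,2,2,1,2,0,2,1,2,2,0,3,1,2,0,4,3,0,3,3,1,3,4,2,1,2,0,2,1,2,2,0,3,3,1,2,0,2,1,2,0,2,1,3,0,3,1,2,0,2,0]⟩,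
  ⟨9, [0,2,1,2,0,2,1,3,0,2,2,1,2,0,2,1,2,0,2,1,4], false, 9, [2,0,3,3,1,2,0,2,2,1,2,0,2,1,2,2,0,3,1,2,0,4,3,0,3,3,1,3,4,1,3,0,2,1,3,3,0,3,3,1,2,0,3,1,3,0,2,2,1,2,0,3,3,1,2,0,2,1,2,0,3,1,2,2,2,0,3,3,1,2,2,0,3,3,1,3,0,0]⟩,
  ⟨9, [2,0,3,3,1,2,0,2,2,1,2,0,2,1,2,2,0,3,1,2,0,4,3,0,3,3,1,3,4,1,3,0,2,1,3,3,0,3,3,1,2,0,3,1,3,0,2,2,1,2,0,3,3,1,2,0,2,1,2,0,2,1,3,0,3,1,3,4], false, 9, [2,0,3,3,1,2,0,2,2,1,2,0,2,1,2,2,0,3,1,2,0,4,3,0,3,3,1,3,4,1,3,0,2,1,3,3,0,3,3,1,2,0,3,1,3,0,2,2,4,3,0,3,3,1,3,4,3,0]⟩,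
  ⟨9, [0,2,1,2,0,3,1,3,4], false, 9, [0,2,1,2,0,3,1,3,0,0]⟩,
  ⟨9, [0,3,3,1,3,3,3,3,0,3,3,1,2,0,3,1,2,2,0,2,2,1,2,2,0,2,1,4], false, 9, [0,2,1,2,0,2,1,2,2,0,3,3,1,2,0,2,2,1,2,0,2,1,2,2,2,0,2,2,1,2,0,3,3,1,3,0,2,0]⟩,
  ⟨9, [0,2,2,1,2,2,2,2,0,2,2,4,2,0,2,2,1,2,4,2,1,2,0,2,1,2,2,0,2,1,3,0,3,1,3,0,2,1,2,2,0,2,1,2,2,2,4], false, 9, [2,2,0,2,1,2,2,2,0,2,1,2,2,2,0,2,2,1,2,2,0,2,1,3,0,3,1,3,3,0,2,2,1,2,0,3,1,2,2,2,0,0]⟩,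
  ⟨9, [3,0,3,3,1,4], true, 9, [2,0,3,3,1,2,0,2,2,1,2,0,2,1,2,2,0,3,1,2,0,4,3,0,3,3,1,3,4,1,3,3,0,2,2,1,3,0,3,1,2,0,2,1,2,0,2,1,2,2,0,3,3,1,2,0,2,1,2,2,0,3,1,3,0,2,2,1,2,0,0,4]⟩,
  ⟨9, [2,0,3,3,1,2,0,2,2,1,2,0,2,1,2,2,0,3,1,2,0,4,3,0,3,3,1,3,4,1,3,3,0,2,2,1,3,0,3,1,2,2,2,2,0,3,1,2,2,0,4,3,3,0,3,0,3], true, 9, [2,0,3,3,1,2,0,2,2,1,2,0,2,1,2,2,0,3,1,2,0,4,3,0,3,3,1,3,4,1,3,3,0,2,2,1,3,0,3,1,2,0,2,1,2,0,2,1,2,2,0,3,3,1,2,0,2,1,2,2,0,3,1,3,0,2,2,1,2,0,0,4]⟩,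
  ⟨1, [4,3,4], true, 3, [2,2,0,2,2,1,3,0,3,3,1,3,3,0,4,2,0,2,2,1,2,4,1,2,2,0,3,3,1,2,2,0,2,1,1,4,3,4]⟩,
  ⟨3, [0,3,1,3,4], true, 3, [3,0,2,1,3,3,0,3,3,1,2,0,3,1,3,0,2,2,1,2,2,0,3,3,1,2,2,2,0,2,4,2,1,2]⟩,
  ⟨3, [2,0,3,3,1,2,0,2,2,1,2,0,2,1,2,2,0,3,1,2,0,4,3,0,3,3,1,3,4,1,2,0,2,1,3,0,3,1,2,0,2,2,2,1,3,0,2,1,2,0,3,1,2,0,3,3,1,2,2,2,0,2,1,3,0,3,3,1,1,4], true, 3, [2,2,0,2,2,1,3,0,3,3,1,3,3,0,4,2,0,2,2,1,2,4,1,2,2,0,3,3,1,2,2,0,2,4,3]⟩]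

/-- all facts -/
def facts : List Fact := facts0 ++ facts1 ++ facts2 ++ facts3 ++ facts4 ++ facts5

/-- derivations from 0 -/
def justs0 : List Just := [
  .base,
  .base,
  .base,
  .node,
  .part 3,
  .path [.L 1, .T 3 false false, .L 0, .R 0 true, .T 3 true true],
  .part 5,
  .path [.L 4, .T 3 false false, .L 4, .R 0 true, .R 0 true, .R 2 true, .T 3 true true, .L 4],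
  .path [.L 4, .T 3 false false, .L 4, .R 0 true, .R 0 true, .R 1 true, .R 2 true, .T 3 true true, .L 4, .T 7 true true],
  .path [.L 4, .T 3 false false, .L 4, .R 0 true, .R 1 true, .R 0 true, .R 2 true, .T 3 true true, .L 4, .T 7 true true],
  .path [.T 6 false false, .T 3 false false, .R 0 false, .R 0 false, .T 4 false false, .T 6 true true],
  .node,
  .part 11,
  .path [.T 11 false false, .L 1, .T 7 false false, .L 0, .T 11 true true],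
  .path [.R 13 false, .T 12 true false],
  .path [.L 4, .T 11 false false, .L 4, .T 10 false false, .L 4, .T 11 true true],
  .node,
  .part 16,
  .path [.L 4, .T 5 false false, .L 4, .T 16 true true, .L 4],
  .part 18,
  .path [.T 16 false false, .T 14 false false, .T 11 false false, .T 16 true true],
  .path [.L 1, .T 11 false false, .L 0, .T 18 true true],
  .path [.R 13 false, .T 21 true false],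
  .part 21,
  .path [.L 1, .T 16 false false, .L 0, .T 7 true true, .T 18 true true],
  .path [.R 24 false, .T 19 true false],
  .path [.R 24 false, .T 23 true false],
  .node,
  .part 27,
  .path [.L 4, .T 27 false false, .R 8 false, .R 8 false, .R 8 false, .R 9 false, .R 8 false, .R 9 false, .R 8 false, .R 9 false, .R 9 false, .R 8 false, .R 8 false, .R 8 false, .L 4, .T 7 false false, .L 4, .R 8 true, .R 8 true, .R 8 true, .R 9 true, .R 9 true, .R 8 true, .R 9 true, .R 8 true, .R 9 true, .R 8 true, .R 8 true, .R 8 true, .T 27 true true],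
  .path [.L 4, .T 27 false false, .R 8 false, .R 8 false, .R 9 false, .R 8 false, .R 8 false, .R 9 false, .R 8 false, .R 8 false, .R 8 false, .R 9 false, .R 8 false, .L 4, .T 7 false false, .L 4, .R 8 true, .R 9 true, .R 8 true, .R 8 true, .R 8 true, .R 9 true, .R 8 true, .R 8 true, .R 9 true, .R 8 true, .R 8 true, .T 27 true true],
  .path [.L 4, .T 11 false false, .L 4, .R 9 true, .R 8 true, .R 8 true, .R 8 true, .R 8 true, .R 9 true, .R 8 true, .R 8 true, .R 9 true, .R 9 true, .T 27 true true, .L 4],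
  .part 31,
  .path [.R 29 false, .T 32 true false],
  .path [.L 4, .T 11 false false, .L 4, .R 9 true, .R 8 true, .R 9 true, .R 8 true, .R 8 true, .R 9 true, .R 9 true, .T 27 true true, .L 4, .R 29 true, .T 33 true true],
  .path [.L 4, .T 11 false false, .L 4, .R 8 true, .R 9 true, .R 9 true, .T 27 true true, .L 4, .R 29 true, .T 33 true true],
  .path [.L 4, .T 11 false false, .L 4, .R 9 true, .R 8 true, .R 8 true, .R 9 true, .R 9 true, .R 8 true, .R 9 true, .T 27 true true, .L 4, .R 29 true, .T 33 true true],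
  .path [.L 4, .T 16 false false, .L 4, .R 8 true, .R 8 true, .R 8 true, .R 9 true, .R 8 true, .R 8 true, .R 9 true, .R 9 true, .T 27 true true, .L 4],
  .part 37,
  .path [.R 29 false, .R 30 false, .R 29 false, .T 38 true false]]

/-- derivations from 40 -/
def justs1 : List Just := [
  .path [.L 4, .T 16 false false, .L 4, .R 9 true, .R 9 true, .R 8 true, .R 8 true, .R 8 true, .R 9 true, .R 8 true, .R 9 true, .R 9 true, .R 9 true, .T 27 true true, .L 4, .R 29 true, .R 30 true, .R 29 true, .T 39 true true],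
  .path [.L 4, .T 18 false false, .L 4, .T 27 true true, .L 4],
  .path [.R 24 false, .R 40 false, .R 40 false, .R 24 false, .R 40 false, .R 24 false, .R 40 false, .T 41 true false],
  .path [.L 4, .T 11 false false, .R 8 false, .L 4, .T 28 false false, .R 30 false, .R 29 false, .L 4, .T 31 false false],
  .path [.R 13 false, .R 15 false, .R 43 false, .R 35 false, .R 34 false, .T 31 true false],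
  .path [.T 22 false false, .T 44 true false],
  .path [.R 24 false, .R 40 false, .R 45 true, .T 28 true false],
  .node,
  .part 47,
  .path [.L 4, .T 47 false false, .R 9 false, .R 9 false, .R 8 false, .R 8 false, .R 9 false, .R 8 false, .R 8 false, .R 8 false, .R 8 false, .R 9 false, .L 4, .T 7 false false, .L 4, .R 9 true, .R 8 true, .R 8 true, .R 8 true, .R 8 true, .R 9 true, .R 8 true, .R 8 true, .R 9 true, .R 9 true, .T 47 true true],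
  .path [.L 4, .T 11 false false, .L 4, .R 9 true, .R 9 true, .R 8 true, .R 9 true, .T 47 true true, .L 4],
  .part 50,
  .path [.L 4, .T 50 false false, .R 13 false, .R 36 false, .R 36 false, .R 43 false, .R 36 false, .L 4, .T 11 false false, .L 4, .T 47 true true],
  .path [.R 52 false, .T 51 true false],
  .path [.L 4, .T 16 false false, .L 4, .R 8 true, .R 9 true, .R 8 true, .R 8 true, .R 8 true, .R 9 true, .R 8 true, .R 8 true, .R 9 true, .R 8 true, .R 8 true, .T 47 true true, .L 4],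
  .part 54,
  .path [.R 52 false, .R 52 false, .T 55 true false],
  .path [.L 4, .T 18 false false, .L 4, .R 8 true, .R 8 true, .R 8 true, .R 9 true, .R 8 true, .R 8 true, .R 9 true, .R 9 true, .T 47 true true, .L 4],
  .path [.R 24 false, .T 57 true false],
  .part 57,
  .path [.R 49 false, .R 52 false, .T 59 true false],
  .path [.T 58 false false, .R 24 false, .R 40 false, .R 45 true, .T 27 false false, .R 8 true, .R 8 true, .R 8 true, .R 9 true, .R 9 true, .R 8 true, .R 9 true, .R 8 true, .R 9 true, .R 8 true, .R 8 true, .R 8 true, .T 27 true true, .R 45 false, .R 40 true, .R 24 true, .T 58 true true],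
  .path [.R 49 false, .R 52 false, .T 61 true false],
  .part 61,
  .path [.R 49 false, .R 52 false, .T 63 true false],
  .path [.T 62 false false, .T 64 true false],
  .path [.R 65 false, .R 52 false, .R 52 false, .R 52 false, .R 52 false, .T 56 true false],
  .path [.L 1, .R 45 true, .T 27 false false, .L 0, .T 47 true true],
  .path [.R 40 false, .R 40 false, .R 40 false, .T 67 true false],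
  .part 67,
  .path [.L 4, .T 50 false false, .L 4, .R 34 true, .R 35 true, .R 43 true, .R 36 true, .R 36 true, .R 15 true, .T 50 true true, .L 4],
  .path [.R 49 false, .R 52 false, .R 65 false, .R 52 false, .R 65 false, .R 52 false, .R 52 false, .R 65 false, .R 52 false, .T 70 true false],
  .path [.L 4, .T 50 false false, .L 4, .R 36 true, .R 43 true, .R 36 true, .R 36 true, .R 15 true, .R 13 true, .T 50 true true, .L 4],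
  .path [.R 49 false, .T 72 true false],
  .node,
  .part 74,
  .path [.L 4, .R 45 true, .T 27 false false, .L 4, .R 9 true, .R 9 true, .R 9 true, .R 8 true, .R 9 true, .R 8 true, .R 8 true, .R 8 true, .R 9 true, .T 74 true true, .L 4],
  .path [.R 40 false, .R 40 false, .R 40 false, .R 24 false, .R 40 false, .R 40 false, .R 24 false, .R 40 false, .R 40 false, .R 24 false, .R 40 false, .T 76 true false],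
  .part 76,
  .path [.L 4, .T 47 false false, .L 4, .R 9 true, .R 9 true, .R 8 true, .R 8 true, .R 9 true, .R 8 true, .T 74 true true, .L 4]]

/-- derivations from 80 -/
def justs2 : List Just := [
  .path [.R 52 false, .R 52 false, .R 52 false, .R 65 false, .R 52 false, .R 65 false, .R 52 false, .R 52 false, .T 79 true false],
  .part 79,
  .path [.L 1, .T 74 false false, .L 0, .R 9 true, .R 9 true, .R 8 true, .R 8 true, .R 9 true, .R 8 true, .T 74 true true],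
  .part 82,
  .path [.L 4, .T 74 false false, .L 4, .R 8 true, .R 8 true, .R 8 true, .R 9 true, .R 9 true, .R 8 true, .R 9 true, .R 8 true, .R 9 true, .R 8 true, .R 8 true, .R 8 true, .T 27 true true, .R 45 false, .L 4, .R 40 true, .R 40 true, .R 24 true, .R 40 true, .R 40 true, .R 40 true, .R 24 true, .R 40 true, .R 24 true, .R 40 true, .R 40 true, .R 24 true, .R 40 true, .R 40 true, .R 24 true, .T 77 true true],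
  .path [.R 84 false, .R 84 false, .R 84 false, .R 84 false, .R 84 false, .R 84 false, .R 84 false, .R 84 false, .R 84 false, .T 78 true false],
  .path [.R 84 false, .R 84 false, .R 84 false, .R 84 false, .R 84 false, .R 84 false, .R 84 false, .T 81 true false],
  .path [.L 4, .T 74 false false, .L 4, .R 9 true, .R 8 true, .R 9 true, .R 9 true, .R 9 true, .R 8 true, .T 27 true true, .R 45 false, .L 4, .R 40 true, .R 40 true, .R 40 true, .R 40 true, .R 24 true, .R 40 true, .R 40 true, .R 40 true, .R 40 true, .T 77 true true],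
  .path [.R 84 false, .R 84 false, .R 84 false, .R 87 false, .R 84 false, .T 86 true false],
  .path [.L 4, .T 77 false false, .R 40 false, .R 40 false, .R 24 false, .R 40 false, .R 24 false, .R 40 false, .R 40 false, .R 24 false, .R 40 false, .R 40 false, .R 40 false, .R 40 false, .R 24 false, .R 40 false, .R 40 false, .L 4, .R 45 true, .T 42 false false, .L 4, .R 24 true, .R 40 true, .R 24 true, .R 40 true, .R 24 true, .R 40 true, .R 40 true, .R 24 true, .R 40 true, .R 40 true, .R 40 true, .T 77 true true],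
  .path [.L 4, .T 58 false false, .L 4, .R 40 true, .R 24 true, .R 40 true, .R 24 true, .R 40 true, .R 40 true, .R 24 true, .R 40 true, .R 24 true, .R 40 true, .R 40 true, .R 40 true, .R 40 true, .R 40 true, .T 77 true true, .L 4],
  .path [.R 49 false, .R 52 false, .R 65 false, .R 52 false, .R 52 false, .T 90 true false],
  .part 90,
  .path [.R 84 false, .R 87 false, .R 89 false, .R 87 false, .T 92 true false],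
  .path [.L 4, .T 77 false false, .L 4, .R 40 true, .R 40 true, .R 24 true, .R 40 true, .R 40 true, .R 24 true, .R 40 true, .R 40 true, .R 40 true, .R 40 true, .R 24 true, .T 77 true true, .L 4],
  .path [.R 84 false, .R 84 false, .R 87 false, .R 89 false, .R 89 false, .R 84 false, .R 87 false, .T 94 true false],
  .path [.L 4, .T 77 false false, .L 4, .R 40 true, .R 40 true, .R 40 true, .R 40 true, .R 24 true, .R 40 true, .R 40 true, .R 24 true, .R 40 true, .R 40 true, .R 24 true, .R 40 true, .R 40 true, .T 77 true true, .L 4],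
  .path [.R 84 false, .R 87 false, .R 84 false, .R 89 false, .T 96 true false],
  .path [.L 4, .T 80 false false, .L 4, .R 52 true, .R 52 true, .R 52 true, .R 52 true, .R 65 true, .R 52 true, .R 65 true, .R 52 true, .R 49 true, .T 91 true true, .L 4],
  .path [.R 87 false, .R 87 false, .R 89 false, .T 98 true false],
  .path [.L 4, .T 91 false false, .L 4, .R 52 true, .R 52 true, .R 52 true, .R 65 true, .R 52 true, .R 65 true, .R 52 true, .R 52 true, .R 65 true, .R 52 true, .R 52 true, .R 52 true, .R 49 true, .T 91 true true, .L 4],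
  .path [.R 89 false, .T 100 true false],
  .node,
  .part 102,
  .path [.L 4, .T 22 false false, .L 4, .R 36 true, .R 43 true, .R 36 true, .R 36 true, .R 13 true, .T 102 true true, .L 4],
  .path [.R 24 false, .R 40 false, .R 40 false, .R 24 false, .R 40 false, .R 24 false, .R 40 false, .T 104 true false],
  .part 104,
  .path [.L 1, .T 50 false false, .L 0, .T 102 true true],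
  .path [.R 52 false, .T 107 true false],
  .part 107,
  .path [.L 4, .T 50 false false, .L 4, .R 43 true, .R 35 true, .R 36 true, .R 43 true, .R 34 true, .R 15 true, .R 13 true, .T 102 true true, .L 4],
  .path [.R 52 false, .R 52 false, .R 65 false, .R 52 false, .R 52 false, .R 65 false, .R 52 false, .T 110 true false],
  .part 110,
  .path [.L 4, .T 50 false false, .L 4, .R 15 true, .R 13 true, .T 102 true true, .L 4],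
  .path [.R 49 false, .R 52 false, .T 113 true false],
  .part 113,
  .path [.L 1, .T 102 false false, .L 0, .R 13 true, .T 50 true true, .R 52 true, .T 114 true true],
  .path [.R 116 false, .T 115 true false],
  .path [.L 4, .T 102 false false, .L 4, .T 22 true true, .L 4, .R 24 true, .T 105 true true],
  .path [.R 118 false, .T 106 true false]]

/-- derivations from 120 -/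
def justs3 : List Just := [
  .path [.R 118 false, .R 118 false, .R 118 false, .T 112 true false],
  .path [.L 4, .T 102 false false, .L 4, .R 34 true, .R 35 true, .R 43 true, .R 36 true, .R 36 true, .R 15 true, .R 13 true, .T 102 true true, .L 4],
  .part 121,
  .path [.R 118 false, .T 122 true false],
  .path [.T 121 false false, .T 123 true false],
  .path [.R 118 false, .R 124 false, .R 118 false, .R 118 false, .T 120 true false],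
  .path [.L 4, .T 102 false false, .L 4, .R 43 true, .R 35 true, .R 36 true, .R 43 true, .R 34 true, .R 15 true, .R 13 true, .T 50 true true, .L 4, .R 65 true, .R 52 true, .R 52 true, .R 52 true, .R 52 true, .R 65 true, .R 52 true, .T 111 true true],
  .path [.L 4, .T 102 false false, .L 4, .R 36 true, .R 43 true, .R 36 true, .R 36 true, .R 15 true, .T 102 true true, .L 4],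
  .path [.L 1, .T 54 false false, .L 0, .T 105 true true],
  .path [.R 65 false, .T 128 true false],
  .part 128,
  .path [.R 118 false, .T 130 true false],
  .path [.L 4, .T 111 false false, .R 52 false, .R 65 false, .R 52 false, .R 65 false, .R 52 false, .R 52 false, .R 52 false, .R 52 false, .R 52 false, .L 4, .T 54 false false, .L 4],
  .path [.R 116 false, .R 126 false, .T 132 true false],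
  .part 132,
  .path [.R 40 false, .R 40 false, .R 24 false, .R 40 false, .R 40 false, .R 24 false, .R 40 false, .R 40 false, .R 24 false, .R 40 false, .R 40 false, .R 40 false, .R 24 false, .R 40 false, .T 134 true false],
  .path [.L 4, .T 54 false false, .L 4, .R 40 true, .R 24 true, .R 40 true, .R 40 true, .R 40 true, .R 40 true, .R 40 true, .T 105 true true, .L 4],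
  .path [.R 49 false, .R 52 false, .R 52 false, .R 65 false, .R 52 false, .R 65 false, .R 52 false, .T 136 true false],
  .part 136,
  .path [.R 126 false, .R 124 false, .R 126 false, .R 118 false, .T 138 true false],
  .path [.L 4, .T 129 false false, .R 49 false, .R 65 false, .R 52 false, .R 52 false, .R 52 false, .L 4, .T 54 false false, .L 4],
  .path [.R 116 false, .T 140 true false],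
  .part 140,
  .path [.R 24 false, .R 40 false, .R 40 false, .R 24 false, .R 40 false, .R 24 false, .R 40 false, .T 142 true false],
  .path [.L 1, .T 77 false false, .L 0, .R 40 true, .R 24 true, .R 40 true, .R 40 true, .R 40 true, .R 24 true, .R 40 true, .R 40 true, .R 24 true, .R 40 true, .R 40 true, .R 24 true, .R 40 true, .R 40 true, .T 135 true true],
  .path [.R 87 false, .R 84 false, .T 144 true false],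
  .part 144,
  .path [.R 116 false, .R 126 false, .T 146 true false],
  .path [.L 4, .T 77 false false, .L 4, .R 40 true, .R 24 true, .R 40 true, .R 24 true, .R 40 true, .R 24 true, .R 40 true, .R 40 true, .R 40 true, .R 40 true, .T 135 true true, .L 4],
  .path [.R 84 false, .R 89 false, .R 87 false, .R 87 false, .R 89 false, .R 87 false, .T 148 true false],
  .part 148,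
  .path [.R 116 false, .T 150 true false],
  .path [.L 4, .T 77 false false, .L 4, .R 24 true, .R 40 true, .R 24 true, .R 40 true, .R 40 true, .R 40 true, .R 24 true, .R 40 true, .R 40 true, .R 24 true, .R 40 true, .R 24 true, .R 40 true, .R 40 true, .T 135 true true, .L 4],
  .path [.R 89 false, .R 84 false, .R 87 false, .R 87 false, .T 152 true false],
  .part 152,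
  .path [.R 126 false, .R 124 false, .R 126 false, .T 154 true false],
  .path [.L 4, .T 77 false false, .L 4, .R 40 true, .R 40 true, .R 24 true, .R 40 true, .R 40 true, .R 24 true, .R 40 true, .R 24 true, .R 40 true, .R 40 true, .R 40 true, .R 40 true, .R 40 true, .T 135 true true, .L 4],
  .path [.R 84 false, .R 87 false, .R 87 false, .R 89 false, .R 89 false, .R 87 false, .T 156 true false],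
  .part 156,
  .path [.R 116 false, .R 126 false, .T 158 true false]]

/-- derivations from 160 -/
def justs4 : List Just := [
  .path [.L 4, .T 77 false false, .L 4, .R 24 true, .R 40 true, .R 40 true, .R 40 true, .R 24 true, .T 143 true true, .L 4],
  .path [.R 89 false, .R 84 false, .R 87 false, .R 84 false, .R 87 false, .T 160 true false],
  .part 160,
  .path [.R 116 false, .R 126 false, .R 124 false, .R 126 false, .T 162 true false],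
  .path [.L 1, .T 105 false false, .L 0, .T 143 true true],
  .path [.R 118 false, .T 164 true false],
  .path [.L 4, .T 105 false false, .L 4, .R 24 true, .R 40 true, .R 40 true, .R 40 true, .R 40 true, .R 24 true, .R 40 true, .R 40 true, .R 40 true, .R 24 true, .T 143 true true, .L 4],
  .path [.R 116 false, .R 124 false, .R 124 false, .T 166 true false],
  .part 166,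
  .path [.R 124 false, .R 118 false, .T 168 true false],
  .path [.T 114 false false, .R 52 false, .T 50 false false, .R 13 false, .T 53 false false, .T 114 true true],
  .path [.R 116 false, .T 170 true false],
  .path [.L 4, .T 111 false false, .L 4, .R 52 true, .T 137 true true, .L 4],
  .path [.R 124 false, .R 124 false, .R 124 false, .T 172 true false],
  .part 172,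
  .path [.R 116 false, .R 118 false, .R 124 false, .R 126 false, .R 124 false, .R 118 false, .T 174 true false],
  .path [.L 4, .T 111 false false, .L 4, .R 52 true, .R 65 true, .R 52 true, .R 52 true, .R 52 true, .R 65 true, .R 52 true, .R 52 true, .R 49 true, .T 111 true true, .L 4],
  .path [.R 116 false, .R 126 false, .R 124 false, .T 176 true false],
  .path [.L 4, .T 111 false false, .L 4, .R 65 true, .R 52 true, .R 52 true, .R 52 true, .R 65 true, .R 52 true, .R 65 true, .R 52 true, .R 52 true, .R 49 true, .T 111 true true, .L 4],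
  .path [.R 118 false, .R 124 false, .R 118 false, .T 178 true false],
  .part 178,
  .path [.R 118 false, .R 126 false, .T 180 true false],
  .path [.L 4, .T 137 false false, .L 4, .R 52 true, .R 52 true, .R 65 true, .R 52 true, .R 52 true, .R 52 true, .R 52 true, .R 65 true, .R 52 true, .R 52 true, .R 49 true, .T 137 true true, .L 4],
  .path [.R 116 false, .R 118 false, .R 124 false, .R 126 false, .R 124 false, .R 124 false, .T 182 true false],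
  .node,
  .part 184,
  .path [.L 4, .T 184 false false, .R 49 false, .R 52 false, .R 52 false, .R 52 false, .R 65 false, .R 52 false, .R 65 false, .R 52 false, .R 65 false, .R 52 false, .R 65 false, .L 4, .T 71 false false, .L 4, .R 65 true, .R 52 true, .R 52 true, .R 65 true, .R 52 true, .R 52 true, .R 65 true, .R 52 true, .R 65 true, .R 52 true, .R 52 true, .T 184 true true],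
  .path [.L 4, .T 184 false false, .R 49 false, .R 65 false, .R 52 false, .R 52 false, .R 52 false, .R 52 false, .R 65 false, .R 52 false, .R 65 false, .L 4, .T 71 false false, .L 4, .R 65 true, .R 52 true, .R 65 true, .R 52 true, .R 65 true, .R 52 true, .R 65 true, .R 52 true, .R 52 true, .R 52 true, .T 184 true true],
  .path [.R 186 false, .R 186 false, .R 186 false, .R 186 false, .R 186 false, .R 186 false, .R 186 false, .R 186 false, .R 186 false, .R 186 false, .R 186 false, .R 186 false, .R 186 false, .R 186 false, .R 187 false, .T 185 true false],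
  .path [.L 4, .T 80 false false, .L 4, .R 52 true, .R 52 true, .R 65 true, .R 52 true, .R 65 true, .R 52 true, .R 52 true, .R 52 true, .R 52 true, .T 184 true true, .L 4],
  .path [.R 84 false, .R 87 false, .R 89 false, .R 89 false, .R 89 false, .R 89 false, .T 189 true false],
  .part 189,
  .path [.R 186 false, .R 186 false, .R 186 false, .R 186 false, .R 186 false, .R 187 false, .R 186 false, .R 186 false, .T 191 true false],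
  .path [.L 4, .T 108 false false, .L 4, .R 65 true, .R 52 true, .R 52 true, .R 52 true, .R 65 true, .R 52 true, .T 184 true true, .L 4],
  .part 193,
  .path [.R 186 false, .R 187 false, .R 186 false, .R 187 false, .R 187 false, .T 194 true false],
  .path [.T 193 false false, .R 126 false, .T 111 false false, .R 52 true, .R 52 true, .R 65 true, .T 111 true true, .R 126 true, .T 193 true true],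
  .path [.R 186 false, .R 187 false, .R 186 false, .R 187 false, .R 187 false, .T 196 true false],
  .path [.L 1, .T 111 false false, .L 0, .R 65 true, .R 52 true, .R 52 true, .R 65 true, .R 52 true, .R 65 true, .R 52 true, .T 184 true true],
  .path [.R 126 false, .T 198 true false]]

/-- derivations from 200 -/
def justs5 : List Just := [
  .part 198,
  .path [.L 4, .T 111 false false, .L 4, .R 65 true, .R 52 true, .R 65 true, .R 52 true, .R 65 true, .R 49 true, .T 184 true true, .L 4],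
  .path [.R 118 false, .R 118 false, .R 118 false, .R 124 false, .R 126 false, .T 201 true false],
  .part 201,
  .path [.R 187 false, .R 186 false, .R 186 false, .R 186 false, .R 187 false, .R 187 false, .T 203 true false],
  .path [.L 4, .T 184 false false, .L 4, .R 65 true, .R 52 true, .R 52 true, .R 52 true, .R 52 true, .R 65 true, .R 52 true, .T 91 true true, .L 4, .R 87 true, .R 87 true, .R 87 true, .R 89 true, .T 190 true true],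
  .path [.R 187 false, .R 205 false, .R 205 false, .R 187 false, .R 205 false, .R 205 false, .R 205 false, .T 192 true false],
  .path [.L 4, .T 184 false false, .L 4, .R 65 true, .R 52 true, .R 65 true, .R 52 true, .R 65 true, .R 52 true, .R 49 true, .T 184 true true, .L 4],
  .node,
  .part 208,
  .path [.T 208 false false, .R 124 false, .R 118 false, .T 167 false false, .R 124 false, .R 124 false, .T 127 false false, .T 167 true true, .R 118 true, .R 124 true, .T 208 true true],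
  .path [.R 210 false, .T 209 true false],
  .path [.L 4, .T 208 false false, .R 116 false, .R 124 false, .R 124 false, .L 4, .T 127 false false, .L 4, .R 116 true, .T 208 true true],
  .path [.L 4, .T 208 false false, .R 124 false, .R 118 false, .L 4, .T 165 false false, .L 4, .R 124 true, .R 124 true, .R 116 true, .T 208 true true],
  .path [.L 4, .T 208 false false, .R 118 false, .L 4, .T 165 false false, .L 4, .R 124 true, .R 116 true, .T 208 true true],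
  .path [.L 4, .T 208 false false, .R 116 false, .L 4, .T 171 false false, .L 4, .T 208 true true],
  .path [.L 4, .T 208 false false, .R 118 false, .L 4, .T 177 false false, .L 4, .R 116 true, .T 208 true true],
  .path [.L 4, .T 208 false false, .R 124 false, .L 4, .T 179 false false, .L 4, .R 118 true, .R 124 true, .T 208 true true],
  .path [.L 4, .T 208 false false, .L 4, .R 118 true, .R 116 true, .T 208 true true, .L 4],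
  .path [.R 210 false, .R 214 false, .R 212 false, .T 218 true false],
  .path [.T 27 true false, .R 45 false],
  .path [.T 37 true false, .R 45 false],
  .path [.T 42 true false, .R 45 false]]

/-- all derivations -/
def justs : List Just := justs0 ++ justs1 ++ justs2 ++ justs3 ++ justs4 ++ justs5

/-- the defining lemmas of `dw`, fixed here so that importers share one copy -/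
theorem dw_touch : True := by
  have := (fun _ => trivial : _ → True) @dw.eq_1
  have := (fun _ => trivial : _ → True) @dw.eq_2
  have := (fun _ => trivial : _ → True) @dw.eq_3
  have := (fun _ => trivial : _ → True) @dw.eq_4
  have := (fun _ => trivial : _ → True) @dw.eq_5
  have := (fun _ => trivial : _ → True) @dw.eq_6
  have := (fun _ => trivial : _ → True) @dw.eq_7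
  have := (fun _ => trivial : _ → True) @dw.eq_8
  have := (fun _ => trivial : _ → True) @dw.eq_9
  have := (fun _ => trivial : _ → True) @dw.eq_10
  have := (fun _ => trivial : _ → True) @dw.eq_11
  have := (fun _ => trivial : _ → True) @dw.eq_def
  trivial

end CfsgLib.HN51
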