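import Cfsg.Agent.Eq.Def_Spor_HN
import Mathlib

/-!
Words in the generators of the presented Harada–Norton group and the relations used in the coset
enumeration over `⟨x, y, z⟩`.

Letters: `0 = x`, `1 = x⁻¹`, `2 = y`, `3 = y⁻¹`, `4 = z`, `5 = t`, `6 = t⁻¹`.
-/

set_option autoImplicit false

namespace CfsgLib.HN51

open Cfsg.Spor

/-- the presented group -/
abbrev HN : Type := Cfsg.Spor.HN

/-- the relators -/
abbrev rels : Set (FreeGroup HN.Gen) :=
  coxRelators HN.edges ∪ {r | r ∈ HN.extra}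

/-- the generator `x` -/
def X : Cfsg.Spor.HN := PresentedGroup.mk rels HN.x
/-- the generator `y` -/
def Y : Cfsg.Spor.HN := PresentedGroup.mk rels HN.y
/-- the generator `z` -/
def Z : Cfsg.Spor.HN := PresentedGroup.mk rels HN.z
/-- the generator `t` -/
def T : Cfsg.Spor.HN := PresentedGroup.mk rels HN.t

/-- the value of a letter -/
def gen : ℕ → Cfsg.Spor.HN
  | 0 => X
  | 1 => X⁻¹
  | 2 => Y
  | 3 => Y⁻¹
  | 4 => Z
  | 5 => T
  | _ => T⁻¹

/-- the value of a word -/
def ev (w : List ℕ) : Cfsg.Spor.HN := (w.map gen).prod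

theorem ev_nil : ev [] = 1 := rfl

theorem ev_append (u w : List ℕ) : ev (u ++ w) = ev u * ev w := by
  simp [ev]

theorem ev_cons (a : ℕ) (w : List ℕ) : ev (a :: w) = gen a * ev w := by
  simp [ev]

theorem mk_rel {r : FreeGroup HN.Gen} (h : r ∈ HN.extra) : PresentedGroup.mk rels r = 1 :=
  PresentedGroup.one_of_mem (Or.inr h)

theorem T_pow_five : T ^ 5 = 1 := by
  have := mk_rel (r := HN.t ^ 5) (by simp [HN.extra])
  simpa [T] using this

theorem x_conj_T : X⁻¹ * T * X * T ^ 2 = 1 := by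
  have := mk_rel (r := (HN.x⁻¹ * HN.t * HN.x) * (HN.t ^ 2)) (by simp [HN.extra])
  simpa [T, X] using this

theorem T_comm_Y : T⁻¹ * Y⁻¹ * T * Y = 1 := by
  have := mk_rel (r := HN.t⁻¹ * HN.y⁻¹ * HN.t * HN.y) (by simp [HN.extra])
  simpa [T, Y] using this

theorem ZT_cube : (Z * T) ^ 3 = 1 := by
  have := mk_rel (r := (HN.z * HN.t) ^ 3) (by simp [HN.extra])
  simpa [T, Z] using this

theorem Z_sq : Z ^ 2 = 1 := by
  have := mk_rel (r := HN.z ^ 2) (by simp [HN.extra])
  simpa [Z] using this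

theorem Z_inv : Z⁻¹ = Z :=
  inv_eq_of_mul_eq_one_right (by rw [← pow_two, Z_sq])

theorem commute_T_Y : Commute T Y := by
  have h := T_comm_Y
  have e : T⁻¹ * Y⁻¹ * T * Y = (Y * T)⁻¹ * (T * Y) := by group
  rw [e, inv_mul_eq_one] at h
  exact h.symm

/-- conjugation by `x` inverts the square of `t` -/
theorem x_conj : X⁻¹ * T * X = (T ^ 2)⁻¹ := eq_inv_of_mul_eq_one_left x_conj_T

theorem x_sq_conj : X⁻¹ * X⁻¹ * T * (X * X) = T⁻¹ := by
  have h4 : X⁻¹ * (T ^ 2)⁻¹ * X = ((X⁻¹ * T * X) ^ 2)⁻¹ := by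
    rw [pow_two, pow_two]; group
  calc X⁻¹ * X⁻¹ * T * (X * X) = X⁻¹ * (X⁻¹ * T * X) * X := by group
    _ = X⁻¹ * (T ^ 2)⁻¹ * X := by rw [x_conj]
    _ = T ^ 4 := by rw [h4, x_conj, inv_pow, inv_inv, ← pow_mul]
    _ = T⁻¹ := eq_inv_of_mul_eq_one_left (by rw [← pow_succ, T_pow_five])

/-- the subgroup generated by the images of `x, y, z` -/
def Nsub : Subgroup Cfsg.Spor.HN :=
  (Subgroup.closure ({Cfsg.Spor.HN.x, Cfsg.Spor.HN.y, Cfsg.Spor.HN.z} :
    Set (FreeGroup Cfsg.Spor.HN.Gen))).map (PresentedGroup.mk rels)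

theorem Nsub_eq : Nsub = Subgroup.closure {X, Y, Z} := by
  rw [Nsub, MonoidHom.map_closure, Set.image_insert_eq, Set.image_insert_eq, Set.image_singleton]
  rfl

theorem X_mem : X ∈ Nsub := by rw [Nsub_eq]; exact Subgroup.subset_closure (by simp)
theorem Y_mem : Y ∈ Nsub := by rw [Nsub_eq]; exact Subgroup.subset_closure (by simp)
theorem Z_mem : Z ∈ Nsub := by rw [Nsub_eq]; exact Subgroup.subset_closure (by simp)

/-- words avoiding `t` -/
def isN (w : List ℕ) : Bool := w.all fun a => a.blt 5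

theorem ev_mem {w : List ℕ} (h : isN w = true) : ev w ∈ Nsub := by
  induction w with
  | nil => exact one_mem _
  | cons a l ih =>
    simp only [isN, List.all_cons, Bool.and_eq_true, Nat.blt_eq] at h
    rw [ev_cons]
    refine mul_mem ?_ (ih h.2)
    match a, h.1 with
    | 0, _ => exact X_mem
    | 1, _ => exact inv_mem X_mem
    | 2, _ => exact Y_mem
    | 3, _ => exact inv_mem Y_mem
    | 4, _ => exact Z_mem
    | _ + 5, h => omega

/-- the inverse letter -/
def linv : ℕ → ℕ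
  | 0 => 1
  | 1 => 0
  | 2 => 3
  | 3 => 2
  | a => a

/-- the inverse of a word avoiding `t` -/
def winv (w : List ℕ) : List ℕ := (w.map linv).reverse

theorem gen_linv {a : ℕ} (h : a < 5) : gen (linv a) = (gen a)⁻¹ := by
  match a, h with
  | 0, _ => rfl
  | 1, _ => exact (inv_inv _).symm
  | 2, _ => rfl
  | 3, _ => exact (inv_inv _).symm
  | 4, _ => exact Z_inv.symm

theorem ev_winv {w : List ℕ} (h : isN w = true) : ev (winv w) = (ev w)⁻¹ := by
  induction w with
  | nil => simp [winv, ev]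
  | cons a l ih =>
    simp only [isN, List.all_cons, Bool.and_eq_true, Nat.blt_eq] at h
    rw [winv, List.map_cons, List.reverse_cons, ev_append, ← winv, ih h.2, ev_cons, ev_cons,
      ev_nil, mul_one, gen_linv h.1, mul_inv_rev]

theorem linv_lt {a : ℕ} (h : a < 5) : linv a < 5 := by
  match a, h with
  | 0, _ => decide
  | 1, _ => decide
  | 2, _ => decide
  | 3, _ => decide
  | 4, _ => decide

theorem isN_winv {w : List ℕ} (h : isN w = true) : isN (winv w) = true := by
  simp only [isN, winv, List.all_eq_true, Nat.blt_eq, List.mem_reverse, List.mem_map] at h ⊢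
  rintro a ⟨b, hb, rfl⟩
  exact linv_lt (h b hb)

theorem isN_append {u w : List ℕ} (hu : isN u = true) (hw : isN w = true) :
    isN (u ++ w) = true := by
  simp only [isN, List.all_append, Bool.and_eq_true] at hu hw ⊢
  exact ⟨hu, hw⟩

theorem exists_word {g : Cfsg.Spor.HN} (h : g ∈ Nsub) : ∃ w, isN w = true ∧ ev w = g := by
  rw [Nsub_eq] at h
  induction h using Subgroup.closure_induction with
  | mem a ha =>
    rcases ha with rfl | rfl | rfl
    · exact ⟨[0], rfl, by simp [ev, gen]⟩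
    · exact ⟨[2], rfl, by simp [ev, gen]⟩
    · exact ⟨[4], rfl, by simp [ev, gen]⟩
  | one => exact ⟨[], rfl, rfl⟩
  | mul a b _ _ iha ihb =>
    obtain ⟨u, hu, rfl⟩ := iha
    obtain ⟨w, hw, rfl⟩ := ihb
    exact ⟨u ++ w, isN_append hu hw, ev_append u w⟩
  | inv a _ iha =>
    obtain ⟨u, hu, rfl⟩ := iha
    exact ⟨winv u, isN_winv hu, ev_winv hu⟩

/-- the right coset `N g` -/
def psi (g : Cfsg.Spor.HN) : Cfsg.Spor.HN ⧸ Nsub := ↑g⁻¹

theorem psi_eq {g h : Cfsg.Spor.HN} : psi g = psi h ↔ g * h⁻¹ ∈ Nsub := by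
  rw [psi, psi, QuotientGroup.eq, inv_inv]

theorem psi_mul {g h : Cfsg.Spor.HN} (c : Cfsg.Spor.HN) (e : psi g = psi h) :
    psi (g * c) = psi (h * c) := by
  rw [psi_eq] at e ⊢
  simpa [mul_assoc] using e

theorem psi_surjective : Function.Surjective psi := fun q => by
  induction q using QuotientGroup.induction_on with
  | _ g => exact ⟨g⁻¹, by simp [psi]⟩

end CfsgLib.HN51
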