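import Cfsg.Agent.HNOrder51.Replay

/-!
The double cosets of the listed nodes exhaust the group.

For every node and every one of the 1408 points, a certificate entry either names an edge fact
starting at that point, or a stabiliser fact leading to a point treated earlier.
-/

set_option autoImplicit false

namespace CfsgLib.HN51

/-- an entry: a point and the fact used, with its direction (`edge` ignores it) -/
inductive Step where
  | edge (q f : ℕ)
  | stab (q f : ℕ) (dir : Bool)

section

variable (d : ℕ → List ℕ) (fs : List Fact) (n : ℕ) (alive : List ℕ)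

/-- check an entry for node `a` given the points already treated, and extend them -/
def stepOK (a : ℕ) (mask : ℕ) : Step → Option ℕ
  | .edge q j =>
    let f := fs.getD j noFact
    bif j.blt n && f.e && isN f.u && isN f.v && Nat.beq f.a a && Nat.beq (run q f.u) 0 &&
        alive.contains f.b then
      some (mask ||| (1 <<< q))
    else none
  | .stab q j dir =>
    let f := fs.getD j noFact
    bif j.blt n && !f.e && isN f.u && isN f.v && Nat.beq f.a a && Nat.beq f.b a &&
        mask.testBit (run q (cond dir (f.u ++ winv f.v) (f.v ++ winv f.u))) then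
      some (mask ||| (1 <<< q))
    else none

/-- run through a list of entries -/
def stepsOK (a : ℕ) : ℕ → List Step → Option ℕ
  | mask, [] => some mask
  | mask, s :: l =>
    match stepOK fs n alive a mask s with
    | none => none
    | some m => stepsOK a m l

/-- equality of optional masks -/
def optBeq : Option ℕ → ℕ → Bool
  | some m, k => Nat.beq m k
  | none, _ => false

end

/-- all points -/
def fullMask : ℕ := 2 ^ 1408 - 1

section

variable {d : ℕ → List ℕ} {fs : List Fact} {n : ℕ} {alive : List ℕ}

/-- the union of the double cosets of the alive nodes -/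
def InCover (d : ℕ → List ℕ) (alive : List ℕ) (c : Cfsg.Spor.HN ⧸ Nsub) : Prop :=
  ∃ a ∈ alive, ∃ w, isN w = true ∧ c = psi (ev (d a) * ev w)

/-- right translation by `t` is understood at the given point -/
def Good (d : ℕ → List ℕ) (alive : List ℕ) (a q : ℕ) : Prop :=
  ∀ w, isN w = true → run 0 (winv w) = q → InCover d alive (psi (ev (d a) * ev w * T))

theorem run_append (i : ℕ) (u w : List ℕ) : run i (u ++ w) = run (run i u) w := by
  simp [run, List.foldl_append]

theorem winv_winv {w : List ℕ} (h : isN w = true) : winv (winv w) = w := by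
  simp only [isN, List.all_eq_true, Nat.blt_eq] at h
  simp only [winv, List.map_reverse, List.reverse_reverse, List.map_map]
  refine (List.map_congr_left fun a ha => ?_).trans (List.map_id w)
  match a, h a ha with
  | 0, _ => rfl
  | 1, _ => rfl
  | 2, _ => rfl
  | 3, _ => rfl
  | 4, _ => rfl

theorem stepOK_sound (hC : CFix) (hfs : ∀ j < n, Holds d (fs.getD j noFact)) {a mask m : ℕ}
    (hm : ∀ q, mask.testBit q = true → Good d alive a q) {s : Step}
    (h : stepOK fs n alive a mask s = some m) : ∀ q, m.testBit q = true → Good d alive a q := by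
  intro q hq
  cases s with
  | edge p j =>
    simp only [stepOK, Bool.cond_eq_ite, Option.ite_none_right_eq_some, Option.some.injEq,
      Bool.and_eq_true, Nat.blt_eq, Nat.beq_eq, List.contains_iff_mem] at h
    obtain ⟨⟨⟨⟨⟨⟨⟨hj, he⟩, hu⟩, hv⟩, hfa⟩, hr⟩, hb⟩, rfl⟩ := h
    rw [Nat.testBit_lor, Bool.or_eq_true, Nat.one_shiftLeft] at hq
    rcases hq with hq | hq
    · exact hm q hq
    rw [Nat.testBit_two_pow, decide_eq_true_eq] at hq
    subst hq
    intro w hw hwp
    have hf := hfs j hj
    rw [Holds, he, hfa] at hf
    have h0 : run 0 (winv w ++ (fs.getD j noFact).u) = 0 := by rw [run_append, hwp, hr]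
    have hc := cross hC true hu hv (isN_winv hw) hf (fun _ => h0)
    refine ⟨_, hb, winv (winv w ++ (fs.getD j noFact).u ++ winv (fs.getD j noFact).v),
      isN_winv (isN_append (isN_append (isN_winv hw) hu) (isN_winv hv)), ?_⟩
    rw [ev_winv (isN_append (isN_append (isN_winv hw) hu) (isN_winv hv)), ← hc, ev_winv hw,
      inv_inv]
    rfl
  | stab p j dir =>
    simp only [stepOK, Bool.cond_eq_ite, Option.ite_none_right_eq_some, Option.some.injEq,
      Bool.and_eq_true, Nat.blt_eq, Nat.beq_eq, Bool.not_eq_true'] at h
    obtain ⟨⟨⟨⟨⟨⟨⟨hj, he⟩, hu⟩, hv⟩, hfa⟩, hfb⟩, hr⟩, rfl⟩ := h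
    rw [Nat.testBit_lor, Bool.or_eq_true, Nat.one_shiftLeft] at hq
    rcases hq with hq | hq
    · exact hm q hq
    rw [Nat.testBit_two_pow, decide_eq_true_eq] at hq
    subst hq
    intro w hw hwp
    have hf := hfs j hj
    rw [Holds, he, hfa, hfb] at hf
    generalize fs.getD j noFact = f at *
    have key : ∀ u v : List ℕ, isN u = true → isN v = true →
        psi (ev (d a) * ev u * te false) = psi (ev (d a) * ev v) →
        Good d alive a (run p (u ++ winv v)) →
        InCover d alive (psi (ev (d a) * ev w * T)) := by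
      intro u v hu hv huv hg
      have hN := isN_append (isN_append (isN_winv hw) hu) (isN_winv hv)
      have hc := cross hC (p := d a) (q := d a) false hu hv (isN_winv hw) huv (by simp)
      obtain ⟨b, hb, x, hx, hx'⟩ := hg (winv (winv w ++ u ++ winv v)) (isN_winv hN)
        (by rw [winv_winv hN, List.append_assoc, run_append, hwp])
      refine ⟨b, hb, x, hx, ?_⟩
      rw [← hx', ev_winv hN]
      refine psi_mul T ?_
      rw [← hc, ev_winv hw, inv_inv]
      simp [te]
    cases dir
    · exact key _ _ hv hu (by simpa [te] using hf.symm) (hm _ hr)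
    · exact key _ _ hu hv hf (hm _ hr)

theorem stepsOK_sound (hC : CFix) (hfs : ∀ j < n, Holds d (fs.getD j noFact)) {a : ℕ} :
    ∀ {l : List Step} {mask m : ℕ}, (∀ q, mask.testBit q = true → Good d alive a q) →
      stepsOK fs n alive a mask l = some m → ∀ q, m.testBit q = true → Good d alive a q
  | [], mask, m, hm, h => by
    simp only [stepsOK, Option.some.injEq] at h
    subst h; exact hm
  | s :: l, mask, m, hm, h => by
    simp only [stepsOK] at h
    cases hs : stepOK fs n alive a mask s with
    | none => simp [hs] at h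
    | some k =>
      rw [hs] at h
      exact stepsOK_sound hC hfs (stepOK_sound hC hfs hm hs) h

theorem good_all (hC : CFix) (hfs : ∀ j < n, Holds d (fs.getD j noFact)) {a : ℕ} {l : List Step}
    (h : optBeq (stepsOK fs n alive a 0 l) fullMask = true) :
    ∀ q < 1408, Good d alive a q := by
  cases hs : stepsOK fs n alive a 0 l with
  | none => rw [hs] at h; simp [optBeq] at h
  | some m =>
    rw [hs] at h
    simp only [optBeq, Nat.beq_eq] at h
    intro q hq
    refine stepsOK_sound hC hfs (fun p hp => by simp at hp) hs q ?_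
    rw [h, fullMask, Nat.testBit_two_pow_sub_one, decide_eq_true_eq]
    exact hq

/-- Every coset lies in the double coset of some node. -/
theorem cover_of_good (hrange : ∀ w : List ℕ, isN w = true → run 0 w < 1408)
    (h0 : 0 ∈ alive) (hd0 : d 0 = []) (hg : ∀ a ∈ alive, ∀ q < 1408, Good d alive a q)
    (g : Cfsg.Spor.HN) : InCover d alive (psi g) := by
  let S : Set Cfsg.Spor.HN := {g | InCover d alive (psi g)}
  have h1 : (1 : Cfsg.Spor.HN) ∈ S :=
    ⟨0, h0, [], rfl, by rw [hd0]; rfl⟩
  have hN : ∀ g ∈ S, ∀ n ∈ Nsub, g * n ∈ S := by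
    rintro g ⟨a, ha, w, hw, e⟩ n hn
    obtain ⟨u, hu, rfl⟩ := exists_word hn
    exact ⟨a, ha, w ++ u, isN_append hw hu, by
      rw [ev_append, ← mul_assoc]; exact psi_mul (ev u) e⟩
  have hT : ∀ g ∈ S, g * T ∈ S := by
    rintro g ⟨a, ha, w, hw, e⟩
    obtain ⟨b, hb, x, hx, e'⟩ := hg a ha _ (hrange _ (isN_winv hw)) w hw rfl
    exact ⟨b, hb, x, hx, (psi_mul T e).trans e'⟩
  have hTinv : ∀ g ∈ S, g * T⁻¹ ∈ S := by
    intro g hg
    have e : g * T⁻¹ = g * T * T * T * T := by
      have h5 : T⁻¹ = T * T * T * T := inv_eq_of_mul_eq_one_right (by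
        rw [← T_pow_five]; simp [pow_succ, mul_assoc])
      rw [h5]; group
    rw [e]
    exact hT _ (hT _ (hT _ (hT _ hg)))
  suffices ∀ g, g ∈ S from this g
  intro g
  have hmem : g ∈ Subgroup.closure ({X, Y, Z, T} : Set Cfsg.Spor.HN) := by
    have : Subgroup.closure ({X, Y, Z, T} : Set Cfsg.Spor.HN) = ⊤ := by
      rw [eq_top_iff, ← PresentedGroup.closure_range_of rels]
      refine Subgroup.closure_mono ?_
      rintro _ ⟨i, rfl⟩
      cases i <;> simp [X, Y, Z, T, PresentedGroup.of]
    rw [this]; trivial
  refine Subgroup.closure_induction_right (p := fun g _ => g ∈ S) h1 ?_ ?_ hmem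
  · intro x y _ hy hx
    rcases hy with rfl | rfl | rfl | rfl
    · exact hN _ hx _ X_mem
    · exact hN _ hx _ Y_mem
    · exact hN _ hx _ Z_mem
    · exact hT _ hx
  · intro x y _ hy hx
    rcases hy with rfl | rfl | rfl | rfl
    · exact hN _ hx _ (inv_mem X_mem)
    · exact hN _ hx _ (inv_mem Y_mem)
    · exact hN _ hx _ (inv_mem Z_mem)
    · exact hTinv _ hx

end

end CfsgLib.HN51
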