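import Cfsg.Agent.HNOrder51.CoverData

/-! Kernel check of the covering entries. -/

set_option autoImplicit false
set_option linter.style.longLine false
set_option Elab.async false
set_option maxRecDepth 100000

namespace CfsgLib.HN51

theorem cov0_ok : optBeq (stepsOK facts 223 aliveNodes 0 0 cov0) fullMask = true := by
  decide +kernel

theorem cov1_ok : optBeq (stepsOK facts 223 aliveNodes 1 0 cov1) fullMask = true := by
  decide +kernel

theorem cov2_ok : optBeq (stepsOK facts 223 aliveNodes 2 0 cov2) fullMask = true := by
  decide +kernel

theorem cov3_ok : optBeq (stepsOK facts 223 aliveNodes 3 0 cov3) fullMask = true := by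
  decide +kernel

theorem cov5_ok : optBeq (stepsOK facts 223 aliveNodes 5 0 cov5) fullMask = true := by
  decide +kernel

end CfsgLib.HN51
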