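import Cfsg.Agent.HNOrder51.Cover
import Cfsg.Agent.HNOrder51.Facts

/-! Generated: an entry for every point of every node. -/

set_option autoImplicit false
set_option linter.style.longLine false
set_option Elab.async false
set_option maxRecDepth 100000

namespace CfsgLib.HN51

/-- the live nodes -/
def aliveNodes : List ℕ := [0, 1, 2, 3, 5, 6, 7, 8, 9]

/-- covering of the points at node 0 -/
def cov0 : List Step := [
  .edge 0 3, .stab 3 2 true, .stab 1 0 true, .stab 2 0 false, .stab 7 1 true, .stab 8 1 false, .stab 6 0 true, .stab 5 0 false,
  .stab 4 0 true, .stab 17 2 true, .stab 16 1 true, .stab 14 0 true, .stab 15 0 false, .stab 21 2 true, .stab 20 1 false, .stab 18 0 true,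
  .stab 19 0 false, .stab 12 1 true, .stab 13 1 false, .stab 9 0 true, .stab 10 1 true, .stab 11 1 false, .stab 44 1 true, .stab 45 1 false,
  .stab 39 0 true, .stab 37 0 false, .stab 43 2 true, .stab 42 1 true, .stab 40 0 true, .stab 41 0 false, .stab 36 1 true, .stab 22 0 true,
  .stab 38 1 true, .stab 51 1 true, .stab 52 1 false, .stab 47 0 true, .stab 46 0 false, .stab 50 2 true, .stab 48 0 true, .stab 49 0 false,
  .stab 23 0 true, .stab 33 2 true, .stab 32 1 true, .stab 25 0 true, .stab 24 0 false, .stab 35 2 true, .stab 34 1 false, .stab 29 0 true,
  .stab 28 0 false, .stab 27 2 true, .stab 26 1 true, .stab 31 2 true, .stab 30 1 false, .stab 99 2 true, .stab 98 1 true, .stab 96 0 true,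
  .stab 97 0 false, .stab 101 2 true, .stab 100 1 false, .stab 66 0 true, .stab 77 0 false, .stab 84 1 true, .stab 54 0 true, .stab 82 1 true,
  .stab 94 1 true, .stab 95 1 false, .stab 90 0 true, .stab 87 0 false, .stab 93 2 true, .stab 91 0 true, .stab 92 0 false, .stab 85 1 true,
  .stab 86 1 false, .stab 53 0 true, .stab 88 1 true, .stab 89 1 false, .stab 81 2 true, .stab 59 0 true, .stab 57 0 false, .stab 83 2 true,
  .stab 110 2 true, .stab 109 1 true, .stab 72 0 true, .stab 79 0 false, .stab 114 2 true, .stab 113 1 false, .stab 111 0 true, .stab 112 0 false,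
  .stab 103 1 false, .stab 56 0 true, .stab 102 1 false, .stab 108 1 true, .stab 107 0 true, .stab 105 0 false, .stab 104 1 false, .stab 55 0 true,
  .stab 106 1 false, .stab 76 1 true, .stab 58 0 true, .stab 60 0 false, .stab 75 2 true, .stab 74 1 true, .stab 62 0 true, .stab 61 0 false,
  .stab 80 1 false, .stab 67 0 true, .stab 68 0 false, .stab 78 2 true, .stab 70 0 true, .stab 69 0 false, .stab 65 1 true, .stab 64 2 true,
  .stab 63 1 true, .stab 73 1 false, .stab 71 2 true, .stab 215 1 true, .stab 216 1 false, .stab 210 0 true, .stab 207 0 false, .stab 214 2 true,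
  .stab 213 1 true, .stab 211 0 true, .stab 212 0 false, .stab 205 1 true, .stab 206 1 false, .stab 117 0 true, .stab 208 1 true, .stab 209 1 false,
  .stab 220 1 false, .stab 162 0 true, .stab 142 0 false, .stab 219 2 true, .stab 217 0 true, .stab 218 0 false, .stab 141 1 false, .stab 118 0 true,
  .stab 161 1 false, .stab 177 2 true, .stab 176 1 true, .stab 171 0 true, .stab 170 0 false, .stab 173 2 true, .stab 172 1 true, .stab 200 2 true,
  .stab 198 0 true, .stab 199 0 false, .stab 204 2 true, .stab 203 1 false, .stab 201 0 true, .stab 202 0 false, .stab 188 1 true, .stab 189 1 false,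
  .stab 116 0 true, .stab 183 1 true, .stab 184 1 false, .stab 196 1 true, .stab 197 1 false, .stab 195 0 true, .stab 192 0 false, .stab 190 1 true,
  .stab 191 1 false, .stab 115 0 true, .stab 193 1 true, .stab 194 1 false, .stab 181 2 true, .stab 180 1 true, .stab 178 0 true, .stab 179 0 false,
  .stab 182 2 true, .stab 130 0 true, .stab 127 0 false, .stab 186 2 true, .stab 185 1 true, .stab 187 2 true, .stab 168 1 true, .stab 169 1 false,
  .stab 122 0 true, .stab 124 0 false, .stab 174 1 true, .stab 175 1 false, .stab 165 0 true, .stab 151 0 false, .stab 238 2 true, .stab 237 1 true,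
  .stab 235 0 true, .stab 236 0 false, .stab 150 1 true, .stab 120 0 true, .stab 164 1 true, .stab 246 1 true, .stab 247 1 false, .stab 242 0 true,
  .stab 240 0 false, .stab 245 2 true, .stab 243 0 true, .stab 244 0 false, .stab 239 1 false, .stab 121 0 true, .stab 241 1 false, .stab 225 2 true,
  .stab 224 1 false, .stab 222 0 true, .stab 221 0 false, .stab 223 1 false, .stab 234 2 true, .stab 232 0 true, .stab 233 0 false, .stab 231 1 false,
  .stab 119 0 true, .stab 229 1 false, .stab 228 2 true, .stab 226 0 true, .stab 227 0 false, .stab 230 2 true, .stab 160 2 true, .stab 159 1 true,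
  .stab 138 0 true, .stab 137 0 false, .stab 123 1 true, .stab 125 1 true, .stab 157 1 true, .stab 158 1 false, .stab 128 0 true, .stab 131 0 false,
  .stab 156 2 true, .stab 133 0 true, .stab 132 0 false, .stab 129 1 true, .stab 126 1 true, .stab 167 2 true, .stab 166 1 false, .stab 153 0 true,
  .stab 152 0 false, .stab 143 1 false, .stab 144 1 false, .stab 163 1 true, .stab 146 0 true, .stab 148 0 false, .stab 147 1 false, .stab 145 1 false,
  .stab 140 2 true, .stab 139 1 true, .stab 135 1 true, .stab 136 1 false, .stab 134 2 true, .stab 155 2 true, .stab 154 1 false, .stab 149 1 true,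
  .stab 446 2 true, .stab 445 1 true, .stab 443 0 true, .stab 444 0 false, .stab 448 1 false, .stab 447 0 false, .stab 433 1 true, .stab 366 1 false,
  .stab 252 0 true, .stab 429 1 true, .stab 357 1 false, .stab 441 1 true, .stab 442 1 false, .stab 437 0 true, .stab 435 0 false, .stab 440 2 true,
  .stab 438 0 true, .stab 439 0 false, .stab 402 1 true, .stab 434 1 false, .stab 251 0 true, .stab 396 1 true, .stab 436 1 false, .stab 427 2 true,
  .stab 426 1 true, .stab 424 0 true, .stab 425 0 false, .stab 428 2 true, .stab 281 0 true, .stab 276 0 false, .stab 431 2 true, .stab 430 1 true,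
  .stab 432 2 true, .stab 454 1 false, .stab 452 0 true, .stab 453 0 false, .stab 317 1 false, .stab 254 0 true, .stab 312 1 false, .stab 451 1 false,
  .stab 450 0 true, .stab 449 0 false, .stab 262 1 false, .stab 253 0 true, .stab 263 1 false, .stab 311 2 true, .stab 305 1 false, .stab 309 0 true,
  .stab 310 0 false, .stab 349 2 true, .stab 345 1 false, .stab 369 1 true, .stab 257 1 false, .stab 360 0 true, .stab 361 0 false, .stab 368 2 true,
  .stab 363 0 true, .stab 362 0 false, .stab 293 1 false, .stab 294 1 false, .stab 365 1 true, .stab 364 2 true, .stab 418 1 true, .stab 419 1 false,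
  .stab 417 0 true, .stab 414 0 false, .stab 412 1 true, .stab 413 1 false, .stab 249 0 true, .stab 415 1 true, .stab 416 1 false, .stab 422 1 true,
  .stab 423 1 false, .stab 420 0 true, .stab 421 2 true, .stab 295 0 true, .stab 343 0 false, .stab 250 0 true, .stab 392 2 true, .stab 387 1 true,
  .stab 384 0 true, .stab 383 0 false, .stab 393 2 true, .stab 298 0 true, .stab 301 0 false, .stab 385 2 true, .stab 378 1 true, .stab 386 2 true,
  .stab 408 2 true, .stab 406 0 true, .stab 407 0 false, .stab 411 2 true, .stab 409 0 true, .stab 410 0 false, .stab 404 1 true, .stab 405 1 false,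
  .stab 248 0 true, .stab 400 1 true, .stab 401 1 false, .stab 394 0 true, .stab 395 0 false, .stab 399 2 true, .stab 397 0 true, .stab 398 0 false,
  .stab 403 2 true, .stab 379 1 true, .stab 380 1 false, .stab 375 0 true, .stab 372 0 false, .stab 376 0 true, .stab 377 0 false, .stab 370 1 true,
  .stab 371 1 false, .stab 373 1 true, .stab 374 1 false, .stab 381 1 true, .stab 382 1 false, .stab 274 0 true, .stab 279 0 false, .stab 388 1 true,
  .stab 389 1 false, .stab 390 1 true, .stab 391 1 false, .stab 356 1 true, .stab 267 0 true, .stab 261 0 false, .stab 359 2 true, .stab 358 1 false,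
  .stab 266 0 true, .stab 260 0 false, .stab 367 2 true, .stab 269 1 true, .stab 265 1 true, .stab 476 1 true, .stab 474 0 true, .stab 475 2 true,
  .stab 313 1 true, .stab 256 0 true, .stab 314 1 true, .stab 330 2 true, .stab 329 1 true, .stab 327 0 true, .stab 328 0 false, .stab 352 2 true,
  .stab 351 1 true, .stab 490 1 true, .stab 489 0 false, .stab 494 2 true, .stab 493 1 false, .stab 491 0 true, .stab 492 0 false, .stab 482 1 false,
  .stab 259 0 true, .stab 480 1 false, .stab 487 1 true, .stab 488 1 false, .stab 486 0 true, .stab 484 0 false, .stab 483 1 true, .stab 258 0 true,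
  .stab 485 1 true, .stab 479 2 true, .stab 477 0 true, .stab 478 0 false, .stab 481 2 true, .stab 459 1 false, .stab 458 2 true, .stab 456 0 true,
  .stab 455 0 false, .stab 324 1 true, .stab 325 1 true, .stab 457 2 true, .stab 473 1 true, .stab 472 0 true, .stab 255 0 true, .stab 471 2 true,
  .stab 468 0 true, .stab 467 0 false, .stab 469 2 true, .stab 466 1 false, .stab 465 0 true, .stab 462 0 false, .stab 460 1 true, .stab 461 1 false,
  .stab 463 1 true, .stab 464 1 false, .stab 470 1 false, .stab 347 1 true, .stab 348 1 false, .stab 299 0 true, .stab 302 0 false, .stab 346 2 true,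
  .stab 304 0 true, .stab 303 0 false, .stab 300 1 true, .stab 297 1 true, .stab 264 1 true, .stab 268 1 true, .stab 342 2 true, .stab 291 0 true,
  .stab 290 0 false, .stab 344 2 true, .stab 275 1 true, .stab 280 1 true, .stab 340 1 true, .stab 341 1 false, .stab 284 0 true, .stab 287 0 false,
  .stab 285 1 true, .stab 286 1 false, .stab 282 1 true, .stab 283 1 false, .stab 278 2 true, .stab 277 1 true, .stab 271 0 true, .stab 270 0 false,
  .stab 273 2 true, .stab 272 1 true, .stab 354 1 true, .stab 355 1 false, .stab 332 0 true, .stab 334 0 false, .stab 353 2 true, .stab 336 0 true,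
  .stab 335 0 false, .stab 333 1 false, .stab 331 1 false, .stab 315 1 false, .stab 316 1 false, .stab 350 2 true, .stab 321 1 false, .stab 323 1 false,
  .stab 322 2 true, .stab 319 0 true, .stab 318 0 false, .stab 320 2 true, .stab 307 1 true, .stab 308 1 false, .stab 306 2 true, .stab 292 2 true,
  .stab 296 2 true, .stab 288 1 true, .stab 289 1 false, .stab 338 1 true, .stab 339 1 false, .stab 337 2 true, .stab 326 2 true, .stab 782 1 true,
  .stab 783 1 false, .stab 725 0 true, .stab 724 0 false, .stab 781 2 true, .stab 780 1 true, .stab 778 0 true, .stab 779 0 false, .stab 732 1 true,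
  .stab 776 1 false, .stab 499 0 true, .stab 738 1 true, .stab 777 1 false, .stab 561 0 true, .stab 633 0 false, .stab 694 1 true, .stab 759 1 true,
  .stab 755 0 true, .stab 754 0 false, .stab 500 1 false, .stab 514 0 true, .stab 506 0 false, .stab 756 1 true, .stab 774 2 true, .stab 773 1 true,
  .stab 771 0 true, .stab 772 0 false, .stab 761 2 true, .stab 775 1 false, .stab 736 0 true, .stab 740 0 false, .stab 558 1 true, .stab 765 1 false,
  .stab 498 0 true, .stab 631 1 true, .stab 763 1 false, .stab 770 1 false, .stab 769 0 true, .stab 767 0 false, .stab 766 1 true, .stab 497 0 true,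
  .stab 768 1 true, .stab 720 1 true, .stab 702 0 true, .stab 705 0 false, .stab 762 1 false, .stab 760 0 true, .stab 706 1 true, .stab 764 1 false,
  .stab 753 1 false, .stab 749 0 true, .stab 747 0 false, .stab 752 2 true, .stab 750 0 true, .stab 751 0 false, .stab 663 1 true, .stab 746 1 false,
  .stab 669 1 true, .stab 748 1 false, .stab 507 1 true, .stab 590 1 false, .stab 531 0 true, .stab 536 0 false, .stab 758 1 false, .stab 757 2 true,
  .stab 508 1 true, .stab 589 1 false, .stab 791 2 true, .stab 789 0 true, .stab 790 0 false, .stab 566 1 true, .stab 570 1 true, .stab 596 1 false,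
  .stab 591 1 false, .stab 788 2 true, .stab 786 0 true, .stab 787 0 false, .stab 785 1 false, .stab 784 1 false, .stab 505 1 true, .stab 588 1 false,
  .stab 587 0 true, .stab 586 0 false, .stab 578 2 true, .stab 576 0 true, .stab 577 0 false, .stab 513 1 true, .stab 639 1 false, .stab 634 2 true,
  .stab 660 2 true, .stab 656 0 true, .stab 655 0 false, .stab 658 1 true, .stab 659 1 false, .stab 649 0 true, .stab 652 0 false, .stab 650 1 true,
  .stab 651 1 false, .stab 647 1 true, .stab 648 1 false, .stab 657 2 true, .stab 653 1 true, .stab 654 1 false, .stab 742 2 true, .stab 620 1 true,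
  .stab 743 2 true, .stab 573 1 false, .stab 557 0 true, .stab 630 0 false, .stab 741 1 false, .stab 495 0 true, .stab 737 1 false, .stab 730 0 true,
  .stab 731 0 false, .stab 735 2 true, .stab 733 0 true, .stab 734 0 false, .stab 739 2 true, .stab 744 1 true, .stab 502 0 false, .stab 745 1 false,
  .stab 585 0 true, .stab 549 0 false, .stab 632 0 true, .stab 559 0 false, .stab 496 0 true, .stab 697 1 true, .stab 698 1 false, .stab 684 0 true,
  .stab 687 0 false, .stab 673 0 true, .stab 674 0 false, .stab 685 1 true, .stab 686 1 false, .stab 682 1 true, .stab 683 1 false, .stab 699 1 true,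
  .stab 688 1 true, .stab 689 1 false, .stab 726 1 false, .stab 729 1 true, .stab 640 0 true, .stab 609 0 false, .stab 727 1 true, .stab 728 1 true,
  .stab 722 2 true, .stab 715 0 true, .stab 714 0 false, .stab 723 2 true, .stab 718 0 true, .stab 717 0 false, .stab 716 2 true, .stab 719 2 true,
  .stab 700 1 true, .stab 701 1 false, .stab 703 1 true, .stab 704 1 false, .stab 713 1 false, .stab 712 0 true, .stab 709 0 false, .stab 707 1 true,
  .stab 708 1 false, .stab 710 1 true, .stab 711 1 false, .stab 721 1 false, .stab 677 1 true, .stab 675 0 true, .stab 676 0 false, .stab 679 2 true,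
  .stab 678 1 false, .stab 501 0 false, .stab 671 1 true, .stab 672 1 false, .stab 667 1 true, .stab 668 1 false, .stab 661 0 true, .stab 662 0 false,
  .stab 666 2 true, .stab 664 0 true, .stab 665 0 false, .stab 670 2 true, .stab 680 1 true, .stab 681 1 false, .stab 690 1 true, .stab 692 2 true,
  .stab 691 1 false, .stab 693 1 true, .stab 696 2 true, .stab 695 1 false, .stab 516 1 true, .stab 512 1 true, .stab 825 1 true, .stab 823 1 true,
  .stab 824 1 true, .stab 612 1 true, .stab 610 0 true, .stab 560 0 false, .stab 611 2 true, .stab 534 0 true, .stab 527 0 false, .stab 642 1 true,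
  .stab 641 2 true, .stab 838 1 true, .stab 841 1 true, .stab 839 1 true, .stab 504 0 true, .stab 840 1 true, .stab 831 1 false, .stab 830 0 true,
  .stab 829 0 false, .stab 834 1 true, .stab 837 1 false, .stab 835 0 true, .stab 836 0 false, .stab 503 0 true, .stab 832 1 true, .stab 833 1 true,
  .stab 828 0 true, .stab 826 0 false, .stab 807 1 false, .stab 827 1 true, .stab 810 1 false, .stab 802 2 true, .stab 800 1 true, .stab 801 1 false,
  .stab 794 0 true, .stab 797 0 false, .stab 795 1 true, .stab 796 1 false, .stab 792 1 true, .stab 793 1 false, .stab 798 1 true, .stab 799 1 false,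
  .stab 822 1 true, .stab 625 0 true, .stab 550 0 false, .stab 821 1 false, .stab 816 0 true, .stab 819 0 false, .stab 817 1 true, .stab 818 1 false,
  .stab 815 1 false, .stab 820 1 false, .stab 814 1 false, .stab 812 0 true, .stab 813 0 false, .stab 811 1 false, .stab 808 1 false, .stab 803 0 true,
  .stab 804 0 false, .stab 805 0 true, .stab 806 0 false, .stab 809 2 true, .stab 638 2 true, .stab 637 1 true, .stab 582 0 true, .stab 581 0 false,
  .stab 567 1 true, .stab 571 1 true, .stab 635 1 true, .stab 636 1 false, .stab 575 0 false, .stab 539 1 true, .stab 574 1 false, .stab 545 1 true,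
  .stab 572 1 false, .stab 569 2 true, .stab 568 1 true, .stab 563 0 true, .stab 562 0 false, .stab 565 2 true, .stab 564 1 true, .stab 511 2 true,
  .stab 509 0 true, .stab 510 0 false, .stab 515 2 true, .stab 553 0 true, .stab 556 0 false, .stab 554 1 true, .stab 555 1 false, .stab 551 1 true,
  .stab 552 1 false, .stab 530 2 true, .stab 525 1 true, .stab 528 0 true, .stab 529 0 false, .stab 535 2 true, .stab 532 1 true, .stab 543 1 true,
  .stab 544 1 false, .stab 547 1 true, .stab 548 1 false, .stab 538 0 true, .stab 537 0 false, .stab 546 2 true, .stab 541 0 true, .stab 540 0 false,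
  .stab 542 2 true, .stab 533 1 true, .stab 519 0 true, .stab 522 0 false, .stab 524 0 true, .stab 523 0 false, .stab 520 1 true, .stab 521 1 false,
  .stab 517 1 true, .stab 518 1 false, .stab 526 1 true, .stab 646 2 true, .stab 645 1 false, .stab 627 0 true, .stab 626 0 false, .stab 616 1 false,
  .stab 618 1 false, .stab 643 1 true, .stab 644 1 false, .stab 622 0 false, .stab 621 1 true, .stab 619 1 true, .stab 617 2 true, .stab 614 0 true,
  .stab 613 0 false, .stab 615 2 true, .stab 594 2 true, .stab 592 0 true, .stab 593 0 false, .stab 595 2 true, .stab 606 2 true, .stab 604 0 true,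
  .stab 605 0 false, .stab 608 2 true, .stab 607 1 false, .stab 599 0 true, .stab 602 0 false, .stab 600 1 true, .stab 601 1 false, .stab 597 1 true,
  .stab 598 1 false, .stab 603 1 false, .stab 584 2 true, .stab 583 1 true, .stab 579 1 true, .stab 580 1 false, .stab 629 2 true, .stab 628 1 false,
  .stab 623 1 true, .stab 624 1 false, .stab 1181 1 true, .stab 1169 2 true, .stab 1182 1 false, .stab 1177 0 true, .stab 1176 0 false, .stab 1131 1 false,
  .stab 848 0 true, .stab 1130 1 false, .stab 1166 1 false, .stab 1179 0 true, .stab 1178 0 false, .stab 1180 2 true, .stab 1133 0 true, .stab 1132 0 false,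
  .stab 847 0 true, .stab 1138 1 true, .stab 1137 0 true, .stab 1136 0 false, .stab 1167 0 true, .stab 1144 1 true, .stab 941 1 false, .stab 1034 1 false,
  .stab 1093 1 true, .stab 1067 2 true, .stab 849 1 true, .stab 1143 0 true, .stab 1147 0 false, .stab 1082 1 true, .stab 1085 1 true, .stab 1070 2 true,
  .stab 1173 0 true, .stab 1171 0 false, .stab 1175 2 true, .stab 1174 1 true, .stab 969 0 true, .stab 1036 0 false, .stab 845 0 true, .stab 1172 1 false,
  .stab 1165 1 true, .stab 1142 1 true, .stab 846 0 true, .stab 1146 1 true, .stab 939 2 true, .stab 842 0 true, .stab 1156 0 true, .stab 1157 0 false,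
  .stab 1033 2 true, .stab 1114 2 true, .stab 1170 0 false, .stab 844 0 true, .stab 1168 1 true, .stab 866 2 true, .stab 1124 1 true, .stab 906 0 true,
  .stab 920 0 false, .stab 1100 1 true, .stab 1101 1 false, .stab 1104 1 true, .stab 1105 1 false, .stab 1164 1 true, .stab 862 2 true, .stab 1106 1 true,
  .stab 1155 2 true, .stab 1161 1 false, .stab 851 0 true, .stab 1087 1 true, .stab 1086 1 true, .stab 1160 1 true, .stab 1159 0 true, .stab 1158 0 false,
  .stab 1061 0 true, .stab 1060 0 false, .stab 1154 0 true, .stab 1163 1 false, .stab 1162 1 true, .stab 929 1 true, .stab 1191 1 false, .stab 872 1 true,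
  .stab 871 1 true, .stab 994 2 true, .stab 984 0 true, .stab 983 0 false, .stab 985 2 true, .stab 1190 0 true, .stab 1188 0 false, .stab 1187 1 true,
  .stab 1189 1 true, .stab 1186 2 true, .stab 1185 1 false, .stab 1015 0 true, .stab 940 0 false, .stab 1184 2 true, .stab 1183 1 false, .stab 982 2 true,
  .stab 952 1 false, .stab 980 0 true, .stab 981 0 false, .stab 979 1 false, .stab 978 1 false, .stab 966 1 false, .stab 965 0 true, .stab 963 0 false,
  .stab 962 1 true, .stab 964 1 true, .stab 1019 2 true, .stab 955 1 false, .stab 1035 1 false, .stab 1059 1 true, .stab 927 1 false, .stab 1055 0 true,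
  .stab 1056 0 false, .stab 995 1 false, .stab 996 1 false, .stab 1047 1 true, .stab 1058 2 true, .stab 1053 0 true, .stab 1052 0 false, .stab 1048 1 true,
  .stab 1051 1 true, .stab 908 2 true, .stab 990 0 true, .stab 987 0 false, .stab 1050 2 true, .stab 1049 1 false, .stab 1045 0 true, .stab 1044 0 false,
  .stab 911 2 true, .stab 1046 1 false, .stab 1057 1 true, .stab 926 1 false, .stab 1054 2 true, .stab 1148 1 true, .stab 1134 1 false, .stab 959 1 true,
  .stab 1135 1 true, .stab 1149 1 false, .stab 1032 0 true, .stab 938 0 false, .stab 843 0 true, .stab 852 0 false, .stab 867 1 true, .stab 1099 1 false,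
  .stab 865 1 true, .stab 1103 1 false, .stab 1141 1 false, .stab 1140 0 true, .stab 1139 0 false, .stab 1108 1 true, .stab 1111 1 true, .stab 1145 1 false,
  .stab 1151 2 true, .stab 1150 1 true, .stab 958 2 true, .stab 1152 0 true, .stab 1153 0 false, .stab 974 1 false, .stab 924 1 false, .stab 1095 1 true,
  .stab 1074 2 true, .stab 854 0 true, .stab 1081 0 true, .stab 1080 0 false, .stab 853 2 true, .stab 1084 0 true, .stab 1083 0 false, .stab 1088 1 true,
  .stab 1075 2 true, .stab 1077 0 true, .stab 1090 0 false, .stab 1039 1 true, .stab 1014 1 true, .stab 855 0 false, .stab 1126 1 true, .stab 1127 1 false,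
  .stab 1115 0 true, .stab 1117 0 false, .stab 1116 1 false, .stab 1128 1 true, .stab 1129 1 false, .stab 1121 1 true, .stab 1120 1 true, .stab 1118 1 true,
  .stab 1119 1 false, .stab 1122 1 true, .stab 1123 1 false, .stab 1098 1 false, .stab 1096 0 true, .stab 1097 0 false, .stab 1102 1 false, .stab 992 2 true,
  .stab 1113 1 false, .stab 921 0 true, .stab 913 0 false, .stab 1112 1 true, .stab 1109 1 true, .stab 1107 1 true, .stab 1062 0 true, .stab 1063 0 false,
  .stab 856 2 true, .stab 903 0 true, .stab 900 0 false, .stab 1110 1 true, .stab 859 2 true, .stab 993 2 true, .stab 1125 1 false, .stab 1076 1 true,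
  .stab 1072 1 true, .stab 1073 1 true, .stab 1078 1 false, .stab 850 0 true, .stab 1066 0 true, .stab 1065 0 false, .stab 1071 1 false, .stab 1068 1 false,
  .stab 1064 1 false, .stab 1069 1 false, .stab 1079 1 true, .stab 1089 1 true, .stab 1091 1 false, .stab 1092 1 true, .stab 1094 1 false, .stab 864 0 true,
  .stab 863 0 false, .stab 1209 2 true, .stab 1219 2 true, .stab 1218 1 true, .stab 1220 0 false, .stab 942 2 true, .stab 1017 1 true, .stab 949 0 true,
  .stab 954 0 false, .stab 1016 1 true, .stab 886 0 true, .stab 897 0 false, .stab 896 1 false, .stab 885 1 false, .stab 944 2 true, .stab 1023 1 true,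
  .stab 1040 1 true, .stab 1224 2 true, .stab 1227 1 true, .stab 1226 0 true, .stab 1225 0 false, .stab 1207 2 true, .stab 1212 1 false, .stab 1213 1 false,
  .stab 1222 1 true, .stab 1221 0 true, .stab 1223 2 true, .stab 1029 0 true, .stab 1042 0 false, .stab 1204 0 true, .stab 1203 0 false, .stab 930 1 true,
  .stab 1202 1 false, .stab 1201 2 true, .stab 1199 0 true, .stab 1198 0 false, .stab 1195 1 false, .stab 1197 2 true, .stab 1196 1 true, .stab 1193 0 true,
  .stab 1192 0 false, .stab 1194 1 true, .stab 1200 2 true, .stab 1024 2 true, .stab 1216 0 true, .stab 1217 0 false, .stab 1030 1 true, .stab 925 1 true,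
  .stab 1215 1 false, .stab 1211 0 true, .stab 1210 0 false, .stab 1214 1 false, .stab 1206 0 true, .stab 1205 0 false, .stab 1208 1 true, .stab 1001 1 true,
  .stab 1038 1 false, .stab 1006 2 true, .stab 973 0 true, .stab 972 0 false, .stab 934 1 true, .stab 928 1 true, .stab 950 0 true, .stab 951 0 false,
  .stab 1009 2 true, .stab 968 0 true, .stab 967 0 false, .stab 956 2 true, .stab 1037 1 false, .stab 936 0 true, .stab 932 0 false, .stab 961 1 false,
  .stab 905 0 true, .stab 902 0 false, .stab 960 1 false, .stab 957 0 true, .stab 943 0 true, .stab 945 0 false, .stab 953 2 true, .stab 947 0 true,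
  .stab 946 0 false, .stab 876 1 true, .stab 870 1 true, .stab 948 2 true, .stab 861 0 true, .stab 858 0 false, .stab 857 1 false, .stab 860 1 false,
  .stab 933 1 false, .stab 937 1 false, .stab 935 2 true, .stab 931 2 true, .stab 893 1 true, .stab 894 1 false, .stab 892 0 true, .stab 889 0 false,
  .stab 881 0 true, .stab 880 0 false, .stab 887 1 true, .stab 888 1 false, .stab 890 1 true, .stab 891 1 false, .stab 898 1 true, .stab 899 1 false,
  .stab 916 2 true, .stab 914 0 true, .stab 915 0 false, .stab 919 2 true, .stab 917 0 true, .stab 918 0 false, .stab 922 2 true, .stab 923 2 true,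
  .stab 904 1 false, .stab 901 1 false, .stab 909 0 true, .stab 912 0 false, .stab 910 1 true, .stab 907 1 true, .stab 895 1 true, .stab 883 0 true,
  .stab 882 0 false, .stab 874 1 true, .stab 875 1 false, .stab 878 1 true, .stab 879 1 false, .stab 869 0 true, .stab 868 0 false, .stab 877 2 true,
  .stab 873 2 true, .stab 884 1 true, .stab 1043 1 true, .stab 1021 0 true, .stab 1022 0 false, .stab 1041 1 true, .stab 1028 0 true, .stab 1027 0 false,
  .stab 1025 1 true, .stab 1018 0 true, .stab 1020 0 false, .stab 1002 1 false, .stab 999 1 false, .stab 991 0 true, .stab 988 0 false, .stab 986 1 true,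
  .stab 989 1 true, .stab 1012 1 false, .stab 1011 0 true, .stab 1008 0 false, .stab 970 1 true, .stab 1007 1 false, .stab 1010 1 false, .stab 1013 1 false,
  .stab 975 1 false, .stab 1005 0 true, .stab 1004 0 false, .stab 1000 1 false, .stab 1003 1 false, .stab 998 0 true, .stab 997 0 false, .stab 976 2 true,
  .stab 977 1 false, .stab 971 1 false, .stab 1031 1 true, .stab 1026 1 true, .stab 1380 2 true, .stab 1390 1 true, .stab 1391 0 true, .stab 1392 0 false,
  .stab 1383 1 true, .stab 1298 1 false, .stab 1231 0 true, .stab 1382 1 true, .stab 1343 1 false, .stab 1228 1 true, .stab 1381 0 false, .stab 1363 0 true,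
  .stab 1364 0 false, .stab 1366 1 false, .stab 1367 1 false, .stab 1389 1 false, .stab 1349 0 true, .stab 1316 0 false, .stab 1376 0 true, .stab 1370 0 false,
  .stab 1315 1 true, .stab 1230 0 true, .stab 1348 1 true, .stab 1293 1 true, .stab 1346 1 true, .stab 1356 1 true, .stab 1273 1 true, .stab 1286 1 true,
  .stab 1299 1 true, .stab 1300 1 true, .stab 1269 1 false, .stab 1386 0 true, .stab 1387 0 false, .stab 1271 1 false, .stab 1388 2 true, .stab 1274 1 true,
  .stab 1285 2 true, .stab 1330 0 true, .stab 1327 0 false, .stab 1239 1 true, .stab 1238 1 true, .stab 1393 0 true, .stab 1394 0 false, .stab 1326 0 true,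
  .stab 1324 0 false, .stab 1248 2 true, .stab 1297 0 true, .stab 1295 0 false, .stab 1323 1 true, .stab 1325 1 true, .stab 1322 2 true, .stab 1321 2 true,
  .stab 1278 2 true, .stab 1290 1 false, .stab 1291 1 false, .stab 1311 1 true, .stab 1312 1 true, .stab 1246 2 true, .stab 1280 2 true, .stab 1288 2 true,
  .stab 1240 0 true, .stab 1241 0 false, .stab 1270 1 false, .stab 1355 0 true, .stab 1354 0 false, .stab 1358 1 false, .stab 1255 1 false, .stab 1266 1 false,
  .stab 1282 2 true, .stab 1268 1 false, .stab 1357 1 false, .stab 1302 0 true, .stab 1301 0 false, .stab 1319 1 false, .stab 1229 0 true, .stab 1292 1 false,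
  .stab 1368 1 false, .stab 1369 1 false, .stab 1362 0 true, .stab 1365 0 false, .stab 1371 1 true, .stab 1360 0 true, .stab 1359 0 false, .stab 1372 1 true,
  .stab 1272 0 true, .stab 1384 1 true, .stab 1385 1 true, .stab 1232 1 false, .stab 1233 1 true, .stab 1378 1 true, .stab 1377 1 true, .stab 1379 1 false,
  .stab 1289 0 true, .stab 1374 1 true, .stab 1373 1 true, .stab 1375 1 false, .stab 1287 1 false, .stab 1277 1 false, .stab 1361 1 false, .stab 1250 0 true,
  .stab 1251 0 false, .stab 1397 1 false, .stab 1336 2 true, .stab 1296 0 true, .stab 1294 0 false, .stab 1306 1 false, .stab 1308 1 false, .stab 1283 2 true,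
  .stab 1265 1 false, .stab 1254 1 false, .stab 1335 2 true, .stab 1284 2 true, .stab 1402 0 true, .stab 1403 0 false, .stab 1352 0 true, .stab 1345 0 false,
  .stab 1344 1 false, .stab 1351 1 false, .stab 1275 1 true, .stab 1399 1 true, .stab 1396 0 true, .stab 1395 0 false, .stab 1398 1 true, .stab 1276 0 true,
  .stab 1400 1 false, .stab 1401 1 false, .stab 1350 1 false, .stab 1317 0 true, .stab 1318 0 false, .stab 1261 1 true, .stab 1258 1 true, .stab 1313 0 true,
  .stab 1314 0 false, .stab 1309 1 true, .stab 1310 1 true, .stab 1262 1 true, .stab 1263 1 true, .stab 1307 1 true, .stab 1303 0 true, .stab 1304 0 false,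
  .stab 1242 0 true, .stab 1243 0 false, .stab 1305 1 true, .stab 1237 1 true, .stab 1235 1 true, .stab 1234 1 false, .stab 1236 1 false, .stab 1264 1 true,
  .stab 1253 2 true, .stab 1256 0 true, .stab 1257 0 false, .stab 1259 0 true, .stab 1260 0 false, .stab 1267 1 true, .stab 1252 2 true, .stab 1281 0 true,
  .stab 1279 0 false, .stab 1244 0 true, .stab 1245 0 false, .stab 1247 1 false, .stab 1249 1 false, .stab 1353 1 true, .stab 1340 1 false, .stab 1339 1 false,
  .stab 1331 0 true, .stab 1332 0 false, .stab 1328 1 true, .stab 1329 1 true, .stab 1341 1 false, .stab 1337 0 true, .stab 1338 0 false, .stab 1342 1 false,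
  .stab 1333 0 true, .stab 1334 0 false, .stab 1320 1 false, .stab 1347 1 true, .stab 1404 2 true, .stab 1406 2 true, .stab 1405 2 true, .stab 1407 2 true]

/-- covering of the points at node 1 -/
def cov1 : List Step := [
  .edge 4 4, .edge 2 5, .edge 0 6, .edge 3 7, .edge 1 10, .edge 5 11, .edge 6 16, .edge 9 18,
  .edge 17 220, .edge 27 47, .edge 99 74, .stab 7 8 true, .stab 8 8 false, .stab 24 9 true, .stab 28 9 false, .stab 10 8 true,
  .stab 11 8 false, .stab 15 9 true, .stab 19 9 false, .stab 12 8 true, .stab 13 8 false, .stab 14 9 true, .stab 18 9 false, .stab 22 8 true,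
  .stab 23 8 false, .stab 25 9 true, .stab 29 9 false, .stab 44 8 true, .stab 45 8 false, .stab 170 9 true, .stab 21 9 false, .stab 65 8 true,
  .stab 66 8 false, .stab 262 9 true, .stab 31 9 false, .stab 215 8 true, .stab 216 8 false, .stab 754 9 true, .stab 506 9 false, .stab 16 8 true,
  .stab 57 9 true, .stab 20 8 false, .stab 61 9 true, .stab 69 9 false, .stab 26 8 true, .stab 38 9 true, .stab 30 8 false, .stab 41 9 true,
  .stab 49 9 false, .stab 32 8 true, .stab 36 9 true, .stab 34 8 false, .stab 40 9 true, .stab 48 9 false, .stab 53 8 true, .stab 59 9 true,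
  .stab 55 8 false, .stab 62 9 true, .stab 70 9 false, .stab 98 8 true, .stab 425 9 true, .stab 276 9 false, .stab 100 8 false, .stab 58 9 true,
  .stab 310 9 false, .stab 294 8 false, .stab 362 9 true, .stab 51 8 true, .stab 52 8 false, .stab 221 9 false, .stab 139 8 true, .stab 563 9 true,
  .stab 189 9 false, .stab 141 8 false, .stab 39 9 true, .stab 217 9 false, .stab 201 8 false, .stab 509 9 true, .stab 72 8 true, .stab 73 8 false,
  .stab 313 9 false, .stab 445 8 true, .stab 1136 9 true, .stab 1169 9 false, .stab 448 8 false, .stab 550 9 true, .stab 500 9 false, .stab 1085 8 true,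
  .stab 779 8 false, .stab 1147 9 true, .stab 330 8 true, .stab 332 8 false, .stab 450 9 false, .stab 42 8 true, .stab 179 9 true, .stab 127 9 false,
  .stab 227 9 false, .stab 126 8 true, .stab 132 9 true, .stab 145 8 false, .stab 63 8 true, .stab 271 9 true, .stab 89 9 false, .stab 319 9 false,
  .stab 88 8 true, .stab 92 9 true, .stab 106 8 false, .stab 74 8 true, .stab 270 9 true, .stab 86 9 false, .stab 318 9 false, .stab 85 8 true,
  .stab 91 9 true, .stab 104 8 false, .stab 115 8 true, .stab 178 9 true, .stab 130 9 false, .stab 226 9 false, .stab 129 8 true, .stab 133 9 true,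
  .stab 147 8 false, .stab 213 8 true, .stab 705 9 true, .stab 761 9 false, .stab 669 8 true, .stab 748 8 false, .stab 751 9 true, .stab 128 8 true,
  .stab 146 8 false, .stab 95 9 true, .stab 123 9 false, .stab 67 8 false, .stab 138 9 true, .stab 577 9 false, .stab 203 9 false, .stab 647 8 true,
  .stab 648 8 false, .stab 455 9 true, .stab 109 8 true, .stab 328 9 true, .stab 113 8 false, .stab 478 9 false, .stab 325 8 true, .stab 305 8 true,
  .stab 905 9 true, .stab 957 9 false, .stab 876 8 true, .stab 944 8 false, .stab 947 9 true, .stab 90 8 true, .stab 107 8 false, .stab 136 9 true,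
  .stab 84 9 false, .stab 47 8 false, .stab 96 9 true, .stab 438 9 false, .stab 295 9 false, .stab 856 8 true, .stab 857 8 false, .stab 592 9 true,
  .stab 150 8 true, .stab 235 9 true, .stab 154 8 false, .stab 614 9 false, .stab 232 8 true, .stab 780 8 true, .stab 433 9 true, .stab 819 9 false,
  .stab 979 8 true, .stab 1039 8 false, .stab 1381 9 true, .stab 1132 8 true, .stab 769 8 false, .stab 991 9 false, .stab 338 9 true, .stab 1128 9 false,
  .stab 925 8 true, .stab 354 8 false, .stab 1217 9 true, .stab 366 8 true, .stab 849 8 false, .stab 1015 9 false, .stab 1214 8 true, .stab 1160 9 true,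
  .stab 1215 9 false, .stab 469 8 false, .stab 444 9 false, .stab 741 8 true, .stab 1158 8 false, .stab 786 9 true, .stab 612 8 true, .stab 785 9 true,
  .stab 616 8 false, .stab 344 9 true, .stab 627 9 false, .stab 447 8 true, .stab 395 9 true, .stab 398 9 false, .stab 373 8 true, .stab 374 8 false,
  .stab 377 9 true, .stab 463 8 true, .stab 464 8 false, .stab 272 8 true, .stab 869 9 true, .stab 872 9 false, .stab 282 8 true, .stab 283 8 false,
  .stab 996 9 true, .stab 998 9 false, .stab 538 9 true, .stab 541 9 false, .stab 520 8 true, .stab 521 8 false, .stab 524 9 true, .stab 600 8 true,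
  .stab 601 8 false, .stab 185 8 true, .stab 661 9 true, .stab 664 9 false, .stab 193 8 true, .stab 194 8 false, .stab 803 9 true, .stab 805 9 false,
  .stab 537 9 true, .stab 540 9 false, .stab 517 8 true, .stab 518 8 false, .stab 523 9 true, .stab 597 8 true, .stab 598 8 false, .stab 180 8 true,
  .stab 662 9 true, .stab 665 9 false, .stab 190 8 true, .stab 191 8 false, .stab 804 9 true, .stab 806 9 false, .stab 394 9 true, .stab 397 9 false,
  .stab 370 8 true, .stab 371 8 false, .stab 376 9 true, .stab 460 8 true, .stab 461 8 false, .stab 277 8 true, .stab 868 9 true, .stab 871 9 false,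
  .stab 285 8 true, .stab 286 8 false, .stab 995 9 true, .stab 997 9 false, .stab 666 9 true, .stab 465 9 false, .stab 1104 8 true, .stab 1105 8 false,
  .stab 920 9 true, .stab 1165 8 true, .stab 462 8 false, .stab 1101 9 false, .stab 810 8 true, .stab 815 9 false, .stab 827 8 false, .stab 994 9 false,
  .stab 674 8 true, .stab 275 8 true, .stab 291 9 true, .stab 321 8 false, .stab 43 8 true, .stab 264 8 true, .stab 143 8 false, .stab 153 9 false,
  .stab 300 8 true, .stab 301 8 false, .stab 304 9 true, .stab 964 8 true, .stab 320 8 false, .stab 108 8 false, .stab 718 8 true, .stab 315 9 true,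
  .stab 547 9 false, .stab 1046 8 false, .stab 1175 9 false, .stab 792 8 true, .stab 793 8 false, .stab 237 8 true, .stab 527 9 true, .stab 668 9 true,
  .stab 712 9 false, .stab 873 9 true, .stab 602 9 false, .stab 1271 8 true, .stab 1272 8 false, .stab 706 9 true, .stab 1310 8 true, .stab 599 8 false,
  .stab 1148 9 false, .stab 1002 8 true, .stab 1007 9 false, .stab 1019 8 false, .stab 791 9 false, .stab 881 8 true, .stab 188 8 true, .stab 198 9 true,
  .stab 231 8 false, .stab 64 8 true, .stab 176 8 true, .stab 103 8 false, .stab 111 9 false, .stab 205 8 true, .stab 206 8 false, .stab 211 9 true,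
  .stab 766 8 true, .stab 230 8 false, .stab 149 8 false, .stab 918 8 true, .stab 224 9 true, .stab 400 9 false, .stab 1234 8 false, .stab 1316 9 false,
  .stab 986 8 true, .stab 987 8 false, .stab 329 8 true, .stab 389 9 true, .stab 875 9 true, .stab 912 9 false, .stab 844 9 true, .stab 776 9 false,
  .stab 759 8 true, .stab 210 8 false, .stab 1117 8 true, .stab 687 8 false, .stab 1162 9 false, .stab 587 8 true, .stab 935 9 true, .stab 502 9 false,
  .stab 640 8 false, .stab 1174 9 false, .stab 1400 8 true, .stab 1386 8 false, .stab 801 9 true, .stab 633 9 true, .stab 679 9 true, .stab 834 9 false,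
  .stab 861 8 true, .stab 1281 8 false, .stab 625 8 true, .stab 155 8 false, .stab 352 9 true, .stab 1377 8 true, .stab 723 8 false, .stab 735 9 false,
  .stab 645 8 true, .stab 659 9 true, .stab 611 9 false, .stab 167 8 false, .stab 408 9 false, .stab 916 8 true, .stab 1401 8 false, .stab 934 9 true,
  .stab 610 9 true, .stab 1393 9 true, .stab 828 9 false, .stab 1139 8 true, .stab 820 8 true, .stab 1082 9 true, .stab 752 8 false, .stab 816 9 true,
  .stab 821 8 true, .stab 429 9 false, .stab 716 9 true, .stab 385 9 false, .stab 738 8 true, .stab 777 8 false, .stab 207 9 false, .stab 417 8 true,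
  .stab 770 9 true, .stab 484 9 false, .stab 1146 8 false, .stab 697 9 false, .stab 1187 8 true, .stab 479 8 false, .stab 1017 8 true, .stab 943 9 true,
  .stab 1378 9 false, .stab 1185 8 false, .stab 739 9 true, .stab 1267 9 false, .stab 473 9 true, .stab 894 9 false, .stab 694 8 true, .stab 703 8 true,
  .stab 704 8 false, .stab 710 8 true, .stab 711 8 false, .stab 596 9 false, .stab 516 9 true, .stab 1102 8 true, .stab 789 8 false, .stab 1110 9 false,
  .stab 655 8 true, .stab 903 8 true, .stab 904 8 false, .stab 910 8 true, .stab 911 8 false, .stab 454 9 false, .stab 365 9 true, .stab 1062 8 true,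
  .stab 983 8 false, .stab 1096 9 false, .stab 863 8 true, .stab 900 8 true, .stab 901 8 false, .stab 907 8 true, .stab 908 8 false, .stab 459 9 false,
  .stab 369 9 true, .stab 1063 8 true, .stab 984 8 false, .stab 1097 9 false, .stab 864 8 true, .stab 700 8 true, .stab 701 8 false, .stab 707 8 true,
  .stab 708 8 false, .stab 591 9 false, .stab 512 9 true, .stab 1098 8 true, .stab 790 8 false, .stab 1107 9 false, .stab 656 8 true, .stab 494 8 true,
  .stab 1064 8 false, .stab 1121 9 true, .stab 760 8 true, .stab 811 8 false, .stab 812 9 false, .stab 1300 8 true, .stab 555 9 true, .stab 1330 9 false,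
  .stab 938 8 false, .stab 1196 9 false, .stab 1286 8 true, .stab 545 8 false, .stab 1194 9 true, .stab 1179 8 true, .stab 939 9 true, .stab 808 8 false,
  .stab 497 9 true, .stab 813 9 false, .stab 702 8 true, .stab 1032 8 false, .stab 682 9 true, .stab 467 8 true, .stab 671 9 false, .stab 867 9 true,
  .stab 1068 9 false, .stab 733 8 true, .stab 383 9 false, .stab 525 8 true, .stab 1257 9 true, .stab 1260 9 false, .stab 554 8 true, .stab 1313 9 true,
  .stab 1338 9 false, .stab 94 8 true, .stab 333 8 false, .stab 336 9 false, .stab 568 8 true, .stab 1243 9 true, .stab 1299 9 false, .stab 50 9 false,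
  .stab 539 8 true, .stab 574 8 false, .stab 1312 8 true, .stab 693 9 true, .stab 603 8 false, .stab 572 9 true, .stab 1333 9 false, .stab 248 9 true,
  .stab 715 9 false, .stab 1181 9 true, .stab 548 8 true, .stab 287 8 false, .stab 1254 9 false, .stab 921 9 true, .stab 1109 9 false, .stab 1069 8 true,
  .stab 1389 8 false, .stab 1407 9 false, .stab 1223 9 true, .stab 885 9 false, .stab 375 9 true, .stab 782 9 false, .stab 273 8 true, .stab 372 8 true,
  .stab 1112 8 true, .stab 1056 8 false, .stab 629 8 true, .stab 1044 8 false, .stab 1284 9 true, .stab 956 8 true, .stab 1003 8 false, .stab 1004 9 false,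
  .stab 1154 8 true, .stab 413 9 true, .stab 1191 9 false, .stab 1228 8 false, .stab 1329 9 false, .stab 1106 8 true, .stab 396 8 false, .stab 1328 9 true,
  .stab 1318 8 true, .stab 1229 9 true, .stab 1000 8 false, .stab 345 9 true, .stab 1005 9 false, .stab 902 8 true, .stab 742 8 false, .stab 887 9 true,
  .stab 604 8 true, .stab 878 9 false, .stab 657 9 true, .stab 1247 9 false, .stab 929 8 true, .stab 528 9 false, .stab 387 8 true, .stab 1080 9 true,
  .stab 1083 9 false, .stab 412 8 true, .stab 1173 9 true, .stab 1210 9 false, .stab 135 8 true, .stab 239 8 false, .stab 243 9 false, .stab 426 8 true,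
  .stab 1060 9 true, .stab 1155 9 false, .stab 71 9 false, .stab 402 8 true, .stab 434 8 false, .stab 1166 8 true, .stab 728 9 true, .stab 470 8 false,
  .stab 436 9 true, .stab 1206 9 false, .stab 156 9 true, .stab 915 9 false, .stab 1192 9 true, .stab 401 8 true, .stab 192 8 false, .stab 1089 9 false,
  .stab 713 9 true, .stab 1149 9 false, .stab 1045 8 true, .stab 1353 8 false, .stab 1402 9 false, .stab 1345 9 true, .stab 691 9 false, .stab 522 9 true,
  .stab 976 9 false, .stab 186 8 true, .stab 519 8 true, .stab 1276 8 true, .stab 1239 8 false, .stab 850 8 true, .stab 1221 8 false, .stab 443 8 true,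
  .stab 595 8 false, .stab 487 9 true, .stab 234 9 false, .stab 797 8 true, .stab 1282 9 true, .stab 1051 8 false, .stab 1086 9 true, .stab 493 9 false,
  .stab 826 8 true, .stab 757 8 false, .stab 350 8 true, .stab 367 9 true, .stab 980 9 false, .stab 1047 8 false, .stab 1153 9 true, .stab 851 8 true,
  .stab 246 9 false, .stab 1077 9 true, .stab 489 9 false, .stab 775 8 true, .stab 773 8 false, .stab 1197 9 false, .stab 1216 8 true, .stab 1040 9 true,
  .stab 1230 9 false, .stab 1288 8 false, .stab 458 8 true, .stab 1195 8 false, .stab 1034 8 false, .stab 1078 8 false, .stab 1222 8 true, .stab 853 9 false,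
  .stab 1237 8 true, .stab 658 9 true, .stab 1011 8 false, .stab 1126 9 true, .stab 822 9 false, .stab 1030 8 true, .stab 472 9 false, .stab 339 8 false,
  .stab 1021 9 false, .stab 642 8 true, .stab 514 8 false, .stab 784 9 true, .stab 1354 8 true, .stab 1029 9 true, .stab 1129 8 false, .stab 392 9 true,
  .stab 368 9 false, .stab 491 8 true, .stab 1141 8 false, .stab 355 8 true, .stab 889 9 true, .stab 1016 8 true, .stab 578 8 false, .stab 357 9 true,
  .stab 1022 9 false, .stab 726 8 false, .stab 1122 9 false, .stab 594 9 true, .stab 606 9 false, .stab 1380 8 false, .stab 582 8 false, .stab 949 9 true,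
  .stab 1289 8 true, .stab 1365 8 false, .stab 1157 8 true, .stab 749 9 false, .stab 247 9 true, .stab 481 9 true, .stab 1159 9 false, .stab 755 8 false,
  .stab 1087 8 false, .stab 831 9 false, .stab 1115 8 true, .stab 684 8 false, .stab 847 9 true, .stab 471 8 true, .stab 756 8 true, .stab 1118 8 true,
  .stab 1119 8 false, .stab 457 9 true, .stab 688 8 true, .stab 689 8 false, .stab 719 9 false, .stab 1144 8 true, .stab 823 9 true, .stab 440 9 false,
  .stab 740 8 true, .stab 558 9 true, .stab 557 9 false, .stab 835 8 false, .stab 1373 9 true, .stab 763 8 true, .stab 630 8 false, .stab 836 9 false,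
  .stab 829 9 true, .stab 753 9 false, .stab 1095 8 true, .stab 427 9 false, .stab 1161 8 true, .stab 1145 9 false, .stab 953 9 true, .stab 636 9 false,
  .stab 1262 8 true, .stab 1301 8 false, .stab 1018 9 true, .stab 1395 8 true, .stab 1379 9 false, .stab 1093 8 false, .stab 347 9 false, .stab 492 8 true,
  .stab 1339 8 true, .stab 898 8 false, .stab 1340 9 false, .stab 1255 9 true, .stab 530 8 true, .stab 1266 9 true, .stab 296 9 false, .stab 317 8 true,
  .stab 269 8 false, .stab 452 9 true, .stab 361 9 false, .stab 220 8 true, .stab 173 8 false, .stab 589 9 true, .stab 508 9 false, .stab 225 8 true,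
  .stab 177 8 false, .stab 590 9 true, .stab 507 9 false, .stab 312 8 true, .stab 265 8 false, .stab 453 9 true, .stab 360 9 false, .stab 841 8 true,
  .stab 1073 9 true, .stab 356 9 false, .stab 1361 8 false, .stab 1277 9 false, .stab 1178 9 true, .stab 1164 8 true, .stab 251 9 true, .stab 1209 8 false,
  .stab 675 8 true, .stab 1072 8 false, .stab 1292 8 true, .stab 297 9 true, .stab 1324 9 false, .stab 1369 9 true, .stab 1314 8 false, .stab 774 9 false,
  .stab 1025 9 false, .stab 1114 8 true, .stab 795 8 false, .stab 906 9 false, .stab 958 8 true, .stab 1265 9 true, .stab 1208 9 false, .stab 303 8 false,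
  .stab 960 9 false, .stab 1116 8 true, .stab 1207 8 true, .stab 1120 9 false, .stab 1293 8 true, .stab 667 9 true, .stab 685 9 false, .stab 253 8 true,
  .stab 670 9 true, .stab 676 8 true, .stab 1100 8 true, .stab 1319 8 false, .stab 1071 9 true, .stab 1024 9 false, .stab 1070 8 true, .stab 1241 8 true,
  .stab 730 8 false, .stab 546 9 true, .stab 1075 8 false, .stab 1108 8 true, .stab 249 9 true, .stab 683 8 false, .stab 1332 8 false, .stab 1240 8 false,
  .stab 1372 9 false, .stab 1327 8 true, .stab 1244 8 false, .stab 731 9 true, .stab 734 9 false, .stab 1326 9 true, .stab 621 8 true, .stab 542 8 false,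
  .stab 985 9 true, .stab 322 9 false, .stab 1006 8 true, .stab 1092 8 true, .stab 390 8 false, .stab 1054 9 true, .stab 526 9 true, .stab 1079 9 false,
  .stab 1399 9 false, .stab 358 8 true, .stab 1390 8 true, .stab 1273 9 true, .stab 391 9 true, .stab 884 8 false, .stab 1287 8 false, .stab 1033 8 true,
  .stab 709 8 false, .stab 268 9 true, .stab 1233 8 false, .stab 1388 9 true, .stab 1405 8 true, .stab 695 9 false, .stab 672 8 false, .stab 446 8 false,
  .stab 619 9 false, .stab 501 9 false, .stab 1049 9 true, .stab 1031 8 true, .stab 1251 9 true, .stab 341 9 false, .stab 1349 8 false, .stab 1125 9 false,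
  .stab 1317 9 true, .stab 1309 8 true, .stab 159 9 true, .stab 1336 8 false, .stab 882 8 true, .stab 1250 8 false, .stab 1180 8 true, .stab 208 9 true,
  .stab 1190 9 false, .stab 1359 9 true, .stab 1171 8 false, .stab 970 9 false, .stab 832 9 false, .stab 1278 8 true, .stab 989 8 false, .stab 720 9 false,
  .stab 764 8 true, .stab 1076 9 true, .stab 1193 9 false, .stab 212 8 false, .stab 762 9 false, .stab 1280 8 true, .stab 1335 8 true, .stab 1283 9 false,
  .stab 1224 8 true, .stab 874 9 true, .stab 890 9 false, .stab 161 8 true, .stab 877 9 true, .stab 883 8 true, .stab 1269 8 true, .stab 1134 8 false,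
  .stab 1249 9 true, .stab 833 9 false, .stab 1248 8 true, .stab 1057 8 true, .stab 926 8 false, .stab 399 9 true, .stab 1253 8 false, .stab 1274 8 true,
  .stab 157 9 true, .stab 888 8 false, .stab 1203 8 false, .stab 1059 8 false, .stab 1366 9 false, .stab 1202 8 true, .stab 1066 8 false, .stab 927 9 true,
  .stab 930 9 false, .stab 1188 9 true, .stab 483 8 true, .stab 403 8 false, .stab 802 9 true, .stab 228 9 false, .stab 781 8 true, .stab 1131 8 true,
  .stab 410 8 false, .stab 1226 9 true, .stab 388 9 true, .stab 1130 9 false, .stab 1382 9 false, .stab 340 8 true, .stab 1352 8 true, .stab 1124 9 true,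
  .stab 407 9 true, .stab 690 8 false, .stab 1113 8 false, .stab 743 8 true, .stab 909 8 false, .stab 172 9 true, .stab 1043 8 false, .stab 1350 9 true,
  .stab 1391 8 true, .stab 725 9 false, .stab 879 8 false, .stab 584 8 false, .stab 485 9 false, .stab 351 9 false, .stab 1236 9 true, .stab 1172 8 true,
  .stab 838 9 true, .stab 839 9 false, .stab 737 9 false, .stab 732 8 true, .stab 778 9 true, .stab 993 8 false, .stab 515 9 true, .stab 922 9 false,
  .stab 245 8 false, .stab 495 9 true, .stab 449 8 false, .stab 561 9 false, .stab 652 8 true, .stab 1198 9 true, .stab 992 9 false, .stab 1387 8 true,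
  .stab 1308 9 true, .stab 1285 9 false, .stab 747 8 false, .stab 1212 9 true, .stab 482 9 false, .stab 1156 8 true, .stab 451 9 true, .stab 825 9 false,
  .stab 299 9 true, .stab 423 9 false, .stab 242 8 false, .stab 140 9 true, .stab 1323 8 true, .stab 615 8 false, .stab 1297 9 false, .stab 1356 9 false,
  .stab 1385 8 true, .stab 919 8 false, .stab 549 9 true, .stab 490 8 true, .stab 114 8 false, .stab 474 8 true, .stab 696 8 false, .stab 240 9 false,
  .stab 442 8 true, .stab 845 9 true, .stab 441 8 false, .stab 968 9 false, .stab 799 8 true, .stab 928 8 false, .stab 641 8 false, .stab 932 9 true,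
  .stab 1397 8 true, .stab 967 9 false, .stab 1306 9 true, .stab 800 8 true, .stab 722 9 false, .stab 837 8 true, .stab 1050 9 true, .stab 503 8 true,
  .stab 1232 8 false, .stab 892 8 true, .stab 745 9 true, .stab 583 9 true, .stab 1307 9 false, .stab 1183 8 true, .stab 1315 9 false, .stab 628 8 true,
  .stab 654 9 true, .stab 252 8 true, .stab 219 9 false, .stab 1053 9 true, .stab 1150 9 false, .stab 1296 9 false, .stab 1023 8 true, .stab 945 9 true,
  .stab 1374 9 false, .stab 334 8 false, .stab 1218 9 true, .stab 862 9 false, .stab 624 8 true, .stab 1344 8 false, .stab 698 8 false, .stab 866 8 false,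
  .stab 1189 9 true, .stab 1351 9 false, .stab 1052 9 true, .stab 1008 8 true, .stab 1235 8 false, .stab 1263 9 true, .stab 936 9 true, .stab 966 8 false,
  .stab 924 9 false, .stab 560 9 true, .stab 899 8 true, .stab 1294 9 false, .stab 511 9 true, .stab 973 8 true, .stab 1012 8 false, .stab 1137 9 false,
  .stab 565 8 true, .stab 923 8 true, .stab 1048 9 true, .stab 1384 8 false, .stab 214 9 true, .stab 787 8 true, .stab 431 8 false, .stab 765 9 true,
  .stab 1143 8 true, .stab 1142 8 false, .stab 1213 9 true, .stab 794 8 true, .stab 1014 9 false, .stab 854 9 false, .stab 499 8 false, .stab 852 9 true,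
  .stab 1163 9 true, .stab 1279 9 false, .stab 1370 8 false, .stab 411 9 false, .stab 798 8 true, .stab 364 9 true, .stab 1088 8 true, .stab 1123 8 false,
  .stab 311 9 true, .stab 475 8 true, .stab 435 9 true, .stab 824 9 false, .stab 292 8 true, .stab 437 8 false, .stab 337 9 true, .stab 486 8 true,
  .stab 306 9 false, .stab 771 8 false, .stab 1355 8 true, .stab 1042 9 true, .stab 342 8 false, .stab 414 9 true, .stab 346 9 false, .stab 772 8 false,
  .stab 480 9 true, .stab 952 9 true, .stab 1037 8 false, .stab 353 9 false, .stab 588 9 true, .stab 1376 8 true, .stab 1348 9 false, .stab 637 8 true,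
  .stab 160 8 false, .stab 840 8 true, .stab 1264 9 true, .stab 535 8 false, .stab 1303 9 true, .stab 886 8 false, .stab 893 8 true, .stab 897 8 false,
  .stab 162 8 true, .stab 536 9 true, .stab 165 8 false, .stab 566 8 true, .stab 101 8 true, .stab 386 9 true, .stab 110 8 false, .stab 432 8 true,
  .stab 254 8 true, .stab 393 9 true, .stab 257 8 false, .stab 428 8 true, .stab 142 8 true, .stab 531 9 true, .stab 151 8 false, .stab 570 8 true,
  .stab 1227 8 true, .stab 1219 9 true, .stab 1067 9 false, .stab 168 8 false, .stab 187 9 false, .stab 651 9 true, .stab 1406 9 false, .stab 913 8 true,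
  .stab 746 9 false, .stab 117 8 false, .stab 1231 9 false, .stab 1074 9 true, .stab 848 9 true, .stab 855 9 false, .stab 564 8 true, .stab 137 8 false,
  .stab 1242 9 true, .stab 331 9 false, .stab 1103 8 true, .stab 1371 8 false, .stab 1259 9 true, .stab 323 9 false, .stab 714 8 true, .stab 809 9 true,
  .stab 456 8 false, .stab 896 9 false, .stab 895 8 false, .stab 543 9 true, .stab 316 9 false, .stab 576 9 true, .stab 783 9 false, .stab 717 8 false,
  .stab 818 9 true, .stab 384 8 false, .stab 807 9 false, .stab 118 8 true, .stab 250 9 true, .stab 125 9 false, .stab 552 9 true, .stab 975 9 true,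
  .stab 788 9 true, .stab 1099 8 false, .stab 335 8 true, .stab 686 9 false, .stab 119 8 true, .stab 116 8 false, .stab 1111 9 true, .stab 865 8 false,
  .stab 1055 9 false, .stab 817 9 false, .stab 1358 9 true, .stab 1346 8 false, .stab 278 9 true, .stab 607 8 false, .stab 1334 9 false, .stab 533 9 false,
  .stab 175 9 false, .stab 1184 8 true, .stab 1357 8 false, .stab 681 8 true, .stab 680 8 false, .stab 1201 8 false, .stab 169 8 true, .stab 1182 8 true,
  .stab 1404 9 true, .stab 174 9 true, .stab 1311 9 false, .stab 258 9 true, .stab 796 9 true, .stab 1151 9 true, .stab 1200 9 true, .stab 256 8 false,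
  .stab 1347 8 true, .stab 1343 9 true, .stab 1246 9 false, .stab 260 8 false, .stab 279 9 false, .stab 860 9 true, .stab 1403 9 false, .stab 721 8 true,
  .stab 942 9 false, .stab 76 8 false, .stab 1038 9 false, .stab 1252 9 true, .stab 638 9 true, .stab 646 9 false, .stab 430 8 true, .stab 97 8 false,
  .stab 1061 9 true, .stab 241 9 false, .stab 1270 8 true, .stab 1367 8 false, .stab 1084 9 true, .stab 229 9 false, .stab 914 8 true, .stab 1001 9 true,
  .stab 593 8 false, .stab 678 9 false, .stab 677 8 false, .stab 404 9 true, .stab 223 9 false, .stab 439 9 true, .stab 977 9 false, .stab 917 8 false,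
  .stab 1010 9 true, .stab 529 8 false, .stab 999 9 false, .stab 77 8 true, .stab 158 9 true, .stab 82 9 false, .stab 416 9 true, .stab 814 9 true,
  .stab 982 9 true, .stab 1268 8 false, .stab 244 8 true, .stab 891 9 false, .stab 78 8 true, .stab 75 8 false, .stab 1275 9 true, .stab 660 8 false,
  .stab 1238 9 false, .stab 1009 9 false, .stab 1364 9 true, .stab 1135 8 false, .stab 181 9 true, .stab 466 8 false, .stab 1205 9 false, .stab 379 9 false,
  .stab 267 9 false, .stab 1321 8 true, .stab 1363 8 false, .stab 724 8 true, .stab 727 8 false, .stab 1176 8 false, .stab 261 8 true, .stab 1320 8 true,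
  .stab 1392 9 true, .stab 266 9 true, .stab 1168 9 false, .stab 166 9 true, .stab 990 9 true, .stab 1298 9 true, .stab 1177 9 true, .stab 164 8 false,
  .stab 736 9 true, .stab 1138 8 true, .stab 744 9 true, .stab 1127 9 false, .stab 1133 9 true, .stab 1396 9 false, .stab 608 9 false, .stab 488 8 false,
  .stab 419 9 false, .stab 842 8 true, .stab 843 8 false, .stab 941 8 false, .stab 1291 8 true, .stab 963 8 false, .stab 476 9 true, .stab 1394 9 false,
  .stab 954 8 true, .stab 1325 8 false, .stab 830 8 true, .stab 498 9 true, .stab 846 9 false, .stab 567 8 true, .stab 505 8 false, .stab 204 8 true,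
  .stab 1290 9 false, .stab 307 8 true, .stab 308 8 false, .stab 950 9 true, .stab 959 9 true, .stab 1013 9 false, .stab 937 8 true, .stab 1170 8 false,
  .stab 1362 8 true, .stab 348 8 true, .stab 1094 8 false, .stab 326 9 true, .stab 359 8 true, .stab 1220 9 false, .stab 1028 8 true, .stab 573 9 false,
  .stab 988 9 true, .stab 581 8 false, .stab 940 9 true, .stab 634 8 false, .stab 553 8 false, .stab 575 9 true, .stab 1027 8 true, .stab 931 8 true,
  .stab 653 8 false, .stab 974 8 true, .stab 571 9 true, .stab 1258 9 false, .stab 971 8 true, .stab 969 8 false, .stab 618 9 false, .stab 626 8 false,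
  .stab 649 9 true, .stab 948 9 true, .stab 580 9 false, .stab 1302 8 false, .stab 1020 9 true, .stab 1375 9 false, .stab 1041 9 true, .stab 579 9 false,
  .stab 1026 8 false, .stab 1090 9 false, .stab 1305 9 false, .stab 858 8 false, .stab 556 8 false, .stab 1304 8 true, .stab 1341 8 false, .stab 617 9 true,
  .stab 978 8 true, .stab 1152 8 true, .stab 1035 9 false, .stab 418 9 true, .stab 758 8 false, .stab 1199 9 true, .stab 609 8 false, .stab 504 8 true,
  .stab 729 8 false, .stab 1167 9 false, .stab 200 9 true, .stab 1036 9 false, .stab 420 8 false, .stab 631 8 true, .stab 643 9 false, .stab 623 8 true,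
  .stab 644 8 true, .stab 635 8 true, .stab 951 9 true, .stab 965 9 false, .stab 569 9 false, .stab 632 8 true, .stab 421 8 true, .stab 699 8 true,
  .stab 559 8 true, .stab 1186 8 false, .stab 81 8 false, .stab 83 9 true, .stab 382 9 false, .stab 363 8 true, .stab 962 9 true, .stab 1058 9 false,
  .stab 424 8 true, .stab 54 8 false, .stab 281 9 false, .stab 196 9 true, .stab 197 9 false, .stab 532 9 true, .stab 298 8 false, .stab 60 9 false,
  .stab 1331 8 true, .stab 1337 8 false, .stab 152 8 true, .stab 551 9 true, .stab 1368 8 true, .stab 280 9 true, .stab 148 8 true, .stab 93 9 false,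
  .stab 222 9 true, .stab 534 8 true, .stab 544 8 true, .stab 284 8 false, .stab 650 9 true, .stab 144 8 true, .stab 309 9 true, .stab 468 8 true,
  .stab 663 9 true, .stab 673 9 true, .stab 477 8 true, .stab 496 8 false, .stab 290 8 true, .stab 1398 9 true, .stab 255 8 true, .stab 1245 9 true,
  .stab 1256 8 false, .stab 381 8 false, .stab 121 8 true, .stab 120 8 false, .stab 1322 8 false, .stab 122 8 false, .stab 124 9 true, .stab 406 9 false,
  .stab 510 8 true, .stab 768 9 true, .stab 1225 9 false, .stab 562 8 true, .stab 33 8 false, .stab 184 9 false, .stab 288 9 true, .stab 289 9 false,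
  .stab 378 9 true, .stab 209 8 false, .stab 37 9 false, .stab 1204 8 true, .stab 1211 8 false, .stab 112 8 true, .stab 415 9 true, .stab 1360 8 true,
  .stab 183 9 true, .stab 105 8 true, .stab 134 9 false, .stab 314 9 true, .stab 380 8 true, .stab 405 8 true, .stab 195 8 false, .stab 859 9 true,
  .stab 102 8 true, .stab 218 9 true, .stab 605 8 true, .stab 870 9 true, .stab 880 9 true, .stab 613 8 true, .stab 343 8 false, .stab 199 8 true,
  .stab 1383 9 true, .stab 163 8 true, .stab 1065 9 true, .stab 1081 8 false, .stab 409 8 false, .stab 80 8 true, .stab 79 8 false, .stab 422 8 false,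
  .stab 349 9 true, .stab 767 8 true, .stab 972 8 true, .stab 622 8 true, .stab 1140 8 false, .stab 238 8 false, .stab 981 8 false, .stab 259 9 true,
  .stab 1342 9 true, .stab 585 8 false, .stab 1261 8 true, .stab 620 8 false, .stab 586 8 false, .stab 302 9 true, .stab 692 9 false, .stab 933 8 false,
  .stab 961 8 false, .stab 955 8 true, .stab 639 9 true, .stab 1091 8 true, .stab 1295 8 true, .stab 182 8 true, .stab 171 9 false, .stab 750 9 true,
  .stab 56 9 false, .stab 131 8 true, .stab 68 8 false, .stab 324 9 true, .stab 327 8 false, .stab 293 8 true, .stab 274 8 true, .stab 263 9 false,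
  .stab 946 9 true, .stab 35 9 false, .stab 87 8 true, .stab 46 8 false, .stab 233 9 true, .stab 236 8 false, .stab 202 8 true, .stab 513 9 false]

/-- covering of the points at node 2 -/
def cov2 : List Step := [
  .edge 0 14, .edge 1 22, .edge 7 50, .edge 10 102, .stab 4 13 true, .stab 9 15 true, .stab 796 43 true, .stab 182 43 false,
  .stab 2 13 true, .stab 6 15 true, .stab 990 43 true, .stab 274 43 false, .stab 22 13 true, .stab 54 15 true, .stab 282 34 true, .stab 20 35 true,
  .stab 61 36 true, .stab 789 36 false, .stab 719 43 true, .stab 1255 43 false, .stab 12 13 true, .stab 33 15 true, .stab 193 34 true, .stab 30 35 true,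
  .stab 41 36 true, .stab 983 36 false, .stab 919 43 true, .stab 1090 43 false, .stab 3 15 true, .stab 793 43 true, .stab 187 43 false, .stab 903 43 true,
  .stab 89 43 false, .stab 81 35 false, .stab 120 36 true, .stab 118 36 false, .stab 496 36 false, .stab 5 15 true, .stab 987 43 true, .stab 279 43 false,
  .stab 700 43 true, .stab 130 43 false, .stab 122 35 false, .stab 79 36 true, .stab 77 36 false, .stab 343 36 false, .stab 17 15 true, .stab 285 34 true,
  .stab 55 35 true, .stab 62 36 true, .stab 790 36 false, .stab 723 43 true, .stab 1266 43 false, .stab 545 34 true, .stab 119 35 true, .stab 131 36 true,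
  .stab 1104 36 false, .stab 405 43 true, .stab 1249 43 false, .stab 869 36 true, .stab 42 36 false, .stab 1042 43 true, .stab 787 43 false, .stab 566 36 true,
  .stab 24 36 false, .stab 1183 43 true, .stab 1290 43 false, .stab 377 34 true, .stab 596 35 true, .stab 1110 35 false, .stab 374 36 true, .stab 481 43 true,
  .stab 726 43 false, .stab 395 34 true, .stab 996 35 true, .stab 361 35 false, .stab 373 36 false, .stab 892 43 true, .stab 460 43 false, .stab 1354 35 true,
  .stab 437 35 false, .stab 1035 36 true, .stab 493 36 false, .stab 353 34 true, .stab 1301 35 true, .stab 862 35 false, .stab 765 36 true, .stab 1021 36 false,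
  .stab 27 15 true, .stab 190 34 true, .stab 34 35 true, .stab 40 36 true, .stab 984 36 false, .stab 923 43 true, .stab 1077 43 false, .stab 396 34 true,
  .stab 78 35 true, .stab 87 36 true, .stab 1271 36 false, .stab 548 43 true, .stab 1068 43 false, .stab 661 36 true, .stab 63 36 false, .stab 837 43 true,
  .stab 981 43 false, .stab 432 36 true, .stab 15 36 false, .stab 1137 43 true, .stab 1133 43 false, .stab 524 34 true, .stab 454 35 true, .stab 1096 35 false,
  .stab 521 36 true, .stab 617 43 true, .stab 924 43 false, .stab 538 34 true, .stab 803 35 true, .stab 508 35 false, .stab 520 36 false, .stab 684 43 true,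
  .stab 597 43 false, .stab 1365 35 true, .stab 575 35 false, .stab 770 36 true, .stab 628 36 false, .stab 245 34 true, .stab 1157 35 true, .stab 658 35 false,
  .stab 961 36 true, .stab 830 36 false, .stab 900 43 true, .stab 86 43 false, .stab 83 35 false, .stab 51 36 true, .stab 45 36 false, .stab 203 36 false,
  .stab 38 35 false, .stab 110 36 true, .stab 101 36 false, .stab 421 36 false, .stab 650 36 true, .stab 703 43 true, .stab 127 43 false, .stab 124 35 false,
  .stab 72 36 true, .stab 66 36 false, .stab 295 36 false, .stab 59 35 false, .stab 151 36 true, .stab 142 36 false, .stab 559 36 false, .stab 859 36 true,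
  .stab 539 34 true, .stab 50 35 true, .stab 128 36 true, .stab 1100 36 false, .stab 401 43 true, .stab 1247 43 false, .stab 868 36 true, .stab 115 36 false,
  .stab 1029 43 true, .stab 786 43 false, .stab 570 36 true, .stab 25 36 false, .stab 1185 43 true, .stab 1291 43 false, .stab 376 34 true, .stab 591 35 true,
  .stab 1107 35 false, .stab 371 36 true, .stab 479 43 true, .stab 780 43 false, .stab 394 34 true, .stab 995 35 true, .stab 360 35 false, .stab 370 36 false,
  .stab 889 43 true, .stab 463 43 false, .stab 1355 35 true, .stab 435 35 false, .stab 966 36 true, .stab 854 36 false, .stab 337 34 true, .stab 1302 35 true,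
  .stab 866 35 false, .stab 763 36 true, .stab 1022 36 false, .stab 1242 36 true, .stab 248 36 false, .stab 1345 43 true, .stab 1188 43 false, .stab 301 36 true,
  .stab 60 36 false, .stab 927 43 true, .stab 1309 43 false, .stab 673 34 true, .stab 985 35 true, .stab 1371 35 false, .stab 666 36 true, .stab 239 43 true,
  .stab 1180 43 false, .stab 702 34 true, .stab 885 35 true, .stab 170 35 false, .stab 663 36 false, .stab 528 43 true, .stab 809 43 false, .stab 1045 35 true,
  .stab 211 35 false, .stab 1278 36 true, .stab 677 36 false, .stab 154 34 true, .stab 1251 35 true, .stab 720 35 false, .stab 1131 36 true, .stab 882 36 false,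
  .stab 1102 34 true, .stab 710 35 true, .stab 516 36 true, .stab 767 43 true, .stab 835 43 false, .stab 179 35 true, .stab 1014 43 true, .stab 752 43 false,
  .stab 1143 35 true, .stab 978 36 true, .stab 450 36 false, .stab 1088 34 true, .stab 422 35 true, .stab 1370 36 true, .stab 160 36 false, .stab 452 34 true,
  .stab 317 36 true, .stab 512 43 true, .stab 758 43 false, .stab 126 34 true, .stab 69 35 true, .stab 655 35 false, .stab 145 36 false, .stab 1087 43 true,
  .stab 296 43 false, .stab 753 34 true, .stab 471 35 true, .stab 836 35 false, .stab 898 36 true, .stab 1315 35 true, .stab 839 35 false, .stab 735 36 true,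
  .stab 679 36 false, .stab 398 35 true, .stab 704 35 false, .stab 739 43 true, .stab 326 43 false, .stab 28 36 true, .stab 969 43 true, .stab 580 43 false,
  .stab 1153 43 true, .stab 952 43 false, .stab 132 34 true, .stab 147 43 true, .stab 740 43 false, .stab 469 34 true, .stab 772 35 false, .stab 457 36 true,
  .stab 350 36 false, .stab 1214 34 true, .stab 480 36 false, .stab 536 35 true, .stab 464 36 true, .stab 16 36 false, .stab 1012 43 true, .stab 1395 43 false,
  .stab 8 34 true, .stab 433 43 true, .stab 635 43 false, .stab 644 35 true, .stab 346 35 false, .stab 1095 36 true, .stab 549 36 false, .stab 133 35 true,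
  .stab 286 35 false, .stab 342 36 true, .stab 1393 36 false, .stab 368 43 false, .stab 1217 36 true, .stab 771 36 false, .stab 861 43 true, .stab 578 34 true,
  .stab 950 35 true, .stab 1237 35 false, .stab 757 36 true, .stab 1377 43 true, .stab 1215 35 false, .stab 858 36 false, .stab 1303 43 true, .stab 453 43 false,
  .stab 973 35 true, .stab 716 36 true, .stab 1216 43 true, .stab 347 43 false, .stab 636 36 true, .stab 729 36 false, .stab 1348 43 true, .stab 1386 43 false,
  .stab 842 36 true, .stab 1376 36 false, .stab 741 43 true, .stab 737 36 true, .stab 585 43 false, .stab 355 34 true, .stab 419 36 false, .stab 23 43 false,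
  .stab 402 34 true, .stab 71 35 true, .stab 90 36 true, .stab 1269 36 false, .stab 544 43 true, .stab 1071 43 false, .stab 662 36 true, .stab 74 36 false,
  .stab 1232 43 true, .stab 980 43 false, .stab 428 36 true, .stab 14 36 false, .stab 1136 43 true, .stab 1132 43 false, .stab 523 34 true, .stab 459 35 true,
  .stab 1097 35 false, .stab 518 36 true, .stab 615 43 true, .stab 974 43 false, .stab 537 34 true, .stab 804 35 true, .stab 507 35 false, .stab 517 36 false,
  .stab 687 43 true, .stab 600 43 false, .stab 1362 35 true, .stab 573 35 false, .stab 1221 36 true, .stab 645 36 false, .stab 503 34 true, .stab 1156 35 true,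
  .stab 653 35 false, .stab 959 36 true, .stab 829 36 false, .stab 1061 36 true, .stab 156 36 false, .stab 1390 43 true, .stab 1324 43 false, .stab 206 36 true,
  .stab 37 36 false, .stab 730 43 true, .stab 1165 43 false, .stab 880 34 true, .stab 802 35 true, .stab 1367 35 false, .stab 873 36 true, .stab 331 43 true,
  .stab 1319 43 false, .stab 902 34 true, .stab 691 35 true, .stab 262 35 false, .stab 870 36 false, .stab 384 43 true, .stab 1001 43 false, .stab 1064 35 true,
  .stab 303 35 false, .stab 1116 36 true, .stab 884 36 false, .stab 258 34 true, .stab 1072 35 true, .stab 920 35 false, .stab 1079 36 true, .stab 676 36 false,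
  .stab 1062 34 true, .stab 910 35 true, .stab 365 36 true, .stab 963 43 true, .stab 1027 43 false, .stab 271 35 true, .stab 1093 43 true, .stab 948 43 false,
  .stab 1295 35 true, .stab 785 36 true, .stab 587 36 false, .stab 1264 34 true, .stab 560 35 true, .stab 1401 36 true, .stab 99 36 false, .stab 589 34 true,
  .stab 220 36 true, .stab 369 43 true, .stab 954 43 false, .stab 88 34 true, .stab 49 35 true, .stab 863 35 false, .stab 106 36 false, .stab 1263 43 true,
  .stab 489 43 false, .stab 949 34 true, .stab 608 35 true, .stab 1028 35 false, .stab 688 36 true, .stab 1397 35 true, .stab 654 35 false, .stab 931 36 true,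
  .stab 886 36 false, .stab 541 35 true, .stab 904 35 false, .stab 935 43 true, .stab 447 43 false, .stab 19 36 true, .stab 1230 43 true, .stab 846 43 false,
  .stab 1128 43 true, .stab 759 43 false, .stab 92 34 true, .stab 104 43 true, .stab 936 43 false, .stab 606 34 true, .stab 968 35 false, .stab 594 36 true,
  .stab 234 36 false, .stab 1341 34 true, .stab 616 36 false, .stab 386 35 true, .stab 601 36 true, .stab 26 36 false, .stab 821 43 true, .stab 1381 43 false,
  .stab 11 34 true, .stab 571 43 true, .stab 441 43 false, .stab 488 35 true, .stab 214 35 false, .stab 1267 36 true, .stab 448 36 false, .stab 91 35 true,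
  .stab 191 35 false, .stab 200 36 true, .stab 1375 36 false, .stab 515 43 false, .stab 1127 36 true, .stab 967 36 false, .stab 649 43 true, .stab 844 34 true,
  .stab 755 35 true, .stab 1048 35 false, .stab 953 36 true, .stab 1384 43 true, .stab 1342 35 false, .stab 652 36 false, .stab 1159 43 true, .stab 590 43 false,
  .stab 778 35 true, .stab 916 36 true, .stab 1119 43 true, .stab 215 43 false, .stab 442 36 true, .stab 925 36 false, .stab 1174 43 true, .stab 1374 43 false,
  .stab 630 36 true, .stab 1400 36 false, .stab 937 43 true, .stab 933 36 true, .stab 408 43 false, .stab 247 34 true, .stab 558 36 false, .stab 13 43 false,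
  .stab 36 35 false, .stab 257 36 true, .stab 254 36 false, .stab 699 36 false, .stab 647 36 true, .stab 911 36 true, .stab 57 35 false, .stab 165 36 true,
  .stab 162 36 false, .stab 632 36 false, .stab 856 36 true, .stab 708 36 true, .stab 1243 36 true, .stab 93 36 false, .stab 1352 43 true, .stab 1190 43 false,
  .stab 298 36 true, .stab 58 36 false, .stab 926 43 true, .stab 1310 43 false, .stab 674 34 true, .stab 994 35 true, .stab 1372 35 false, .stab 670 36 true,
  .stab 241 43 true, .stab 1134 43 false, .stab 705 34 true, .stab 896 35 true, .stab 171 35 false, .stab 669 36 false, .stab 529 43 true, .stab 782 43 false,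
  .stab 1044 35 true, .stab 212 35 false, .stab 1280 36 true, .stab 690 36 false, .stab 166 34 true, .stab 1250 35 true, .stab 706 35 false, .stab 1130 36 true,
  .stab 883 36 false, .stab 1098 34 true, .stab 707 35 true, .stab 769 43 true, .stab 178 35 true, .stab 1039 43 true, .stab 1147 35 true, .stab 979 36 true,
  .stab 449 36 false, .stab 474 35 true, .stab 140 36 false, .stab 312 36 true, .stab 129 34 true, .stab 70 35 true, .stab 656 35 false, .stab 1086 43 true,
  .stab 344 43 false, .stab 893 36 true, .stab 840 35 false, .stab 692 36 false, .stab 397 35 true, .stab 701 35 false, .stab 29 36 true, .stab 1036 43 true,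
  .stab 1152 43 true, .stab 955 43 false, .stab 736 43 false, .stab 458 36 true, .stab 482 36 false, .stab 531 35 true, .stab 461 36 true, .stab 53 36 false,
  .stab 1013 43 true, .stab 1396 43 false, .stab 429 43 true, .stab 579 43 false, .stab 624 35 true, .stab 306 35 false, .stab 283 35 false, .stab 292 36 true,
  .stab 1394 36 false, .stab 364 43 false, .stab 634 34 true, .stab 951 35 true, .stab 1235 35 false, .stab 1373 43 true, .stab 1304 43 true, .stab 972 35 true,
  .stab 722 36 true, .stab 307 43 false, .stab 838 36 false, .stab 1387 43 false, .stab 418 36 true, .stab 339 34 true, .stab 843 36 false, .stab 1368 34 true,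
  .stab 1108 35 true, .stab 865 36 true, .stab 439 43 true, .stab 1083 43 false, .stab 372 35 true, .stab 832 43 true, .stab 430 43 false, .stab 1363 35 true,
  .stab 1322 36 true, .stab 217 36 false, .stab 1211 34 true, .stab 236 35 true, .stab 1124 36 true, .stab 65 36 false, .stab 221 34 true, .stab 143 36 true,
  .stab 867 43 true, .stab 1155 43 false, .stab 278 34 true, .stab 148 35 true, .stab 1056 35 false, .stab 322 36 false, .stab 1205 43 true, .stab 158 43 false,
  .stab 1154 34 true, .stab 229 35 true, .stab 1084 35 false, .stab 1003 36 true, .stab 1328 35 true, .stab 1226 35 false, .stab 416 36 true, .stab 389 36 false,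
  .stab 709 35 true, .stab 1099 35 false, .stab 413 43 true, .stab 163 43 false, .stab 68 36 true, .stab 1349 43 true, .stab 956 43 false, .stab 1148 43 true,
  .stab 1246 43 false, .stab 287 34 true, .stab 320 43 true, .stab 436 43 false, .stab 231 34 true, .stab 1171 35 false, .stab 224 36 true, .stab 149 36 false,
  .stab 1081 34 true, .stab 388 36 false, .stab 276 35 true, .stab 807 36 true, .stab 116 36 false, .stab 874 43 true, .stab 1193 43 false, .stab 56 34 true,
  .stab 466 43 true, .stab 970 43 false, .stab 888 35 true, .stab 139 35 false, .stab 1210 36 true, .stab 340 36 false, .stab 284 35 true, .stab 542 35 false,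
  .stab 135 36 true, .stab 1402 36 false, .stab 172 43 false, .stab 1149 36 true, .stab 1173 36 false, .stab 509 43 true, .stab 345 34 true, .stab 1004 35 true,
  .stab 917 35 false, .stab 426 36 true, .stab 1113 43 true, .stab 1080 35 false, .stab 510 36 false, .stab 947 43 true, .stab 222 43 false, .stab 1317 35 true,
  .stab 404 36 true, .stab 1276 43 true, .stab 584 43 false, .stab 957 36 true, .stab 1224 36 false, .stab 1329 43 true, .stab 1391 43 false, .stab 742 36 true,
  .stab 1106 36 false, .stab 485 43 true, .stab 483 36 true, .stab 288 43 false, .stab 629 34 true, .stab 1229 36 false, .stab 21 43 false, .stab 444 43 true,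
  .stab 1020 36 true, .stab 998 36 true, .stab 639 43 true, .stab 871 43 false, .stab 1142 35 true, .stab 240 34 true, .stab 427 35 true, .stab 1308 35 true,
  .stab 1052 35 false, .stab 472 34 true, .stab 642 36 false, .stab 392 35 false, .stab 1325 43 false, .stab 513 43 true, .stab 1040 43 true, .stab 210 43 false,
  .stab 1144 34 true, .stab 1306 43 false, .stab 227 36 true, .stab 1138 43 false, .stab 330 36 true, .stab 272 35 false, .stab 484 43 true, .stab 269 36 false,
  .stab 993 43 true, .stab 1008 43 false, .stab 872 35 true, .stab 1289 34 true, .stab 834 36 true, .stab 732 34 true, .stab 155 35 true, .stab 207 36 true,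
  .stab 352 36 true, .stab 633 36 false, .stab 1018 36 true, .stab 776 34 true, .stab 625 35 true, .stab 1016 36 true, .stab 445 43 true, .stab 992 36 true,
  .stab 414 35 false, .stab 847 36 true, .stab 1282 43 true, .stab 988 43 true, .stab 588 35 true, .stab 417 35 false, .stab 1258 34 true, .stab 311 35 true,
  .stab 1281 35 false, .stab 611 43 true, .stab 1198 34 true, .stab 514 36 true, .stab 349 36 false, .stab 1344 34 true, .stab 1218 35 false, .stab 1323 36 true,
  .stab 265 35 false, .stab 945 34 true, .stab 561 36 false, .stab 1170 35 true, .stab 1261 34 true, .stab 1279 35 false, .stab 1285 36 true, .stab 623 43 false,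
  .stab 943 43 true, .stab 216 43 false, .stab 1017 35 true, .stab 991 36 true, .stab 1053 36 false, .stab 640 36 false, .stab 486 35 true, .stab 941 36 true,
  .stab 1023 43 true, .stab 277 43 false, .stab 385 35 false, .stab 738 36 true, .stab 1162 36 false, .stab 506 35 true, .stab 1034 35 true, .stab 1160 43 false,
  .stab 1351 36 false, .stab 775 36 true, .stab 242 34 true, .stab 431 35 true, .stab 1150 35 true, .stab 505 34 true, .stab 550 35 false, .stab 641 36 false,
  .stab 1146 34 true, .stab 1220 34 true, .stab 443 35 false, .stab 226 36 false, .stab 1060 36 true, .stab 134 36 false, .stab 1223 43 true, .stab 1326 43 false,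
  .stab 209 36 true, .stab 39 36 false, .stab 731 43 true, .stab 1164 43 false, .stab 881 34 true, .stab 791 35 true, .stab 1366 35 false, .stab 877 36 true,
  .stab 333 43 true, .stab 1292 43 false, .stab 905 34 true, .stab 678 35 true, .stab 263 35 false, .stab 876 36 false, .stab 383 43 true, .stab 976 43 false,
  .stab 1069 35 true, .stab 304 35 false, .stab 1114 36 true, .stab 895 36 false, .stab 113 34 true, .stab 1073 35 true, .stab 906 35 false, .stab 1092 36 true,
  .stab 675 36 false, .stab 1063 34 true, .stab 907 35 true, .stab 965 43 true, .stab 270 35 true, .stab 822 43 true, .stab 1297 35 true, .stab 784 36 true,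
  .stab 586 36 false, .stab 610 35 true, .stab 252 36 false, .stab 225 36 true, .stab 85 34 true, .stab 48 35 true, .stab 864 35 false, .stab 1262 43 true,
  .stab 204 43 false, .stab 697 36 true, .stab 659 35 false, .stab 897 36 false, .stab 540 35 true, .stab 901 35 false, .stab 18 36 true, .stab 773 43 true,
  .stab 1122 43 true, .stab 756 43 false, .stab 932 43 false, .stab 595 36 true, .stab 618 36 false, .stab 393 35 true, .stab 598 36 true, .stab 32 36 false,
  .stab 820 43 true, .stab 1380 43 false, .stab 567 43 true, .stab 845 43 false, .stab 853 35 true, .stab 498 35 false, .stab 194 35 false, .stab 495 36 true,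
  .stab 1379 36 false, .stab 511 43 false, .stab 440 34 true, .stab 754 35 true, .stab 1051 35 false, .stab 1385 43 true, .stab 1158 43 true, .stab 779 35 true,
  .stab 922 36 true, .stab 499 43 false, .stab 1030 36 false, .stab 1378 43 false, .stab 557 36 true, .stab 504 34 true, .stab 631 36 false, .stab 1360 34 true,
  .stab 1274 35 true, .stab 660 36 true, .stab 577 43 true, .stab 1259 43 false, .stab 519 35 true, .stab 1024 43 true, .stab 568 43 false, .stab 1358 35 true,
  .stab 1184 36 true, .stab 309 36 false, .stab 1338 34 true, .stab 328 35 true, .stab 1286 36 true, .stab 117 36 false, .stab 313 34 true, .stab 103 36 true,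
  .stab 657 43 true, .stab 1300 43 false, .stab 181 34 true, .stab 105 35 true, .stab 1239 35 false, .stab 228 36 false, .stab 1333 43 true, .stab 95 43 false,
  .stab 1299 34 true, .stab 321 35 true, .stab 1260 35 false, .stab 808 36 true, .stab 1196 35 true, .stab 1058 35 false, .stab 555 36 true, .stab 534 36 false,
  .stab 909 35 true, .stab 1268 35 false, .stab 552 43 true, .stab 108 43 false, .stab 46 36 true, .stab 1175 43 true, .stab 761 43 false, .stab 1105 43 true,
  .stab 1070 43 false, .stab 192 34 true, .stab 230 43 true, .stab 574 43 false, .stab 323 34 true, .stab 1313 35 false, .stab 316 36 true, .stab 255 36 false,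
  .stab 1257 34 true, .stab 533 36 false, .stab 189 35 true, .stab 999 36 true, .stab 75 36 false, .stab 671 43 true, .stab 1181 43 false, .stab 35 34 true,
  .stab 603 43 true, .stab 817 43 false, .stab 686 35 true, .stab 251 35 false, .stab 1337 36 true, .stab 196 36 false, .stab 195 35 true, .stab 403 35 false,
  .stab 249 36 true, .stab 1406 36 false, .stab 264 43 false, .stab 1112 36 true, .stab 1314 36 false, .stab 363 43 true, .stab 213 34 true, .stab 813 35 true,
  .stab 718 35 false, .stab 564 36 true, .stab 1277 43 true, .stab 1256 35 false, .stab 362 36 false, .stab 750 43 true, .stab 314 43 false, .stab 1179 35 true,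
  .stab 547 36 true, .stab 1109 43 true, .stab 848 43 false, .stab 760 36 true, .stab 1346 36 false, .stab 1194 43 true, .stab 1404 43 false, .stab 938 36 true,
  .stab 1273 36 false, .stab 621 43 true, .stab 619 36 true, .stab 358 43 false, .stab 855 34 true, .stab 1033 36 false, .stab 31 43 false, .stab 582 43 true,
  .stab 826 36 true, .stab 805 36 true, .stab 451 43 true, .stab 665 43 false, .stab 1294 35 true, .stab 332 34 true, .stab 565 35 true, .stab 1161 35 true,
  .stab 1078 35 false, .stab 348 34 true, .stab 476 36 false, .stab 535 35 false, .stab 1187 43 false, .stab 357 43 true, .stab 824 43 true, .stab 302 43 false,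
  .stab 1195 34 true, .stab 1163 43 false, .stab 319 36 true, .stab 1197 43 false, .stab 502 36 true, .stab 185 35 false, .stab 620 43 true, .stab 173 36 false,
  .stab 799 43 true, .stab 819 43 false, .stab 664 35 true, .stab 1123 34 true, .stab 1026 36 true, .stab 928 34 true, .stab 259 35 true, .stab 299 36 true,
  .stab 238 36 true, .stab 423 36 false, .stab 828 36 true, .stab 798 34 true, .stab 411 35 true, .stab 1172 36 true, .stab 583 43 true, .stab 801 36 true,
  .stab 553 35 false, .stab 637 36 true, .stab 1126 43 true, .stab 797 43 true, .stab 849 35 true, .stab 556 35 false, .stab 1085 34 true, .stab 500 35 true,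
  .stab 1115 35 false, .stab 850 43 true, .stab 1169 34 true, .stab 359 36 true, .stab 219 36 false, .stab 1356 34 true, .stab 1139 35 false, .stab 1189 36 true,
  .stab 177 35 false, .stab 747 34 true, .stab 696 36 false, .stab 1041 35 true, .stab 1082 34 true, .stab 1117 35 false, .stab 1129 36 true, .stab 852 43 false,
  .stab 749 43 true, .stab 308 43 false, .stab 831 35 true, .stab 794 36 true, .stab 1091 36 false, .stab 473 36 false, .stab 622 35 true, .stab 1094 36 true,
  .stab 825 43 true, .stab 180 43 false, .stab 530 35 false, .stab 934 36 true, .stab 1307 36 false, .stab 367 35 true, .stab 745 35 true, .stab 1305 43 false,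
  .stab 1222 36 false, .stab 971 36 true, .stab 334 34 true, .stab 569 35 true, .stab 1140 35 true, .stab 366 34 true, .stab 490 35 false, .stab 475 36 false,
  .stab 1296 34 true, .stab 1037 34 true, .stab 581 35 false, .stab 318 36 false, .stab 908 36 true, .stab 711 36 true, .stab 1369 34 true, .stab 1111 35 true,
  .stab 438 43 true, .stab 375 35 true, .stab 833 43 true, .stab 1364 35 true, .stab 1321 36 true, .stab 218 36 false, .stab 235 35 true, .stab 76 36 false,
  .stab 144 36 true, .stab 273 34 true, .stab 146 35 true, .stab 1055 35 false, .stab 1206 43 true, .stab 136 43 false, .stab 1000 36 true, .stab 1225 35 false,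
  .stab 380 36 false, .stab 712 35 true, .stab 1103 35 false, .stab 67 36 true, .stab 1316 43 true, .stab 1272 43 true, .stab 1248 43 false, .stab 434 43 false,
  .stab 223 36 true, .stab 379 36 false, .stab 281 35 true, .stab 810 36 true, .stab 43 36 false, .stab 878 43 true, .stab 1192 43 false, .stab 470 43 true,
  .stab 1009 43 false, .stab 891 35 true, .stab 159 35 false, .stab 546 35 false, .stab 157 36 true, .stab 1403 36 false, .stab 176 43 false, .stab 305 34 true,
  .stab 1005 35 true, .stab 918 35 false, .stab 1125 43 true, .stab 946 43 true, .stab 1318 35 true, .stab 400 36 true, .stab 638 43 false, .stab 1135 36 false,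
  .stab 1392 43 false, .stab 1228 36 true, .stab 646 34 true, .stab 743 36 false, .stab 997 36 true, .stab 612 36 false, .stab 1011 43 false, .stab 167 35 true,
  .stab 777 34 true, .stab 1288 43 true, .stab 1199 34 true, .stab 643 43 false, .stab 609 36 false, .stab 724 43 true, .stab 613 36 true, .stab 1331 36 true,
  .stab 982 43 true, .stab 962 43 false, .stab 1383 35 true, .stab 112 34 true, .stab 208 35 true, .stab 1320 35 true, .stab 1031 35 false, .stab 232 34 true,
  .stab 942 36 false, .stab 183 35 false, .stab 1347 43 false, .stab 260 43 true, .stab 1283 43 true, .stab 96 43 false, .stab 986 34 true, .stab 1350 43 false,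
  .stab 462 36 true, .stab 989 43 false, .stab 164 36 true, .stab 532 35 false, .stab 244 43 true, .stab 123 36 false, .stab 713 43 true, .stab 605 43 false,
  .stab 964 35 true, .stab 1191 34 true, .stab 1076 36 true, .stab 415 34 true, .stab 80 35 true, .stab 97 36 true, .stab 150 36 true, .stab 406 36 false,
  .stab 614 36 true, .stab 1177 34 true, .stab 289 35 true, .stab 1284 36 true, .stab 814 43 true, .stab 721 36 true, .stab 199 35 false, .stab 781 36 true,
  .stab 1059 43 true, .stab 593 43 true, .stab 1019 35 true, .stab 198 35 false, .stab 890 34 true, .stab 161 35 true, .stab 914 35 false, .stab 351 43 true,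
  .stab 977 34 true, .stab 261 36 true, .stab 141 36 false, .stab 1234 34 true, .stab 929 35 false, .stab 1353 36 true, .stab 125 35 false, .stab 562 34 true,
  .stab 407 36 false, .stab 1089 35 true, .stab 887 34 true, .stab 915 35 false, .stab 1202 36 true, .stab 879 43 false, .stab 563 43 true, .stab 233 43 false,
  .stab 1335 35 true, .stab 592 36 true, .stab 1043 36 false, .stab 409 36 false, .stab 243 35 true, .stab 762 36 true, .stab 1336 43 true, .stab 525 43 false,
  .stab 188 35 false, .stab 412 36 true, .stab 1066 36 false, .stab 267 35 true, .stab 764 35 true, .stab 1065 43 false, .stab 1236 36 false, .stab 1168 36 true,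
  .stab 111 34 true, .stab 205 35 true, .stab 930 35 true, .stab 266 34 true, .stab 341 35 false, .stab 329 36 false, .stab 1382 34 true, .stab 1166 34 true,
  .stab 725 35 false, .stab 465 36 false, .stab 420 36 true, .stab 246 43 false, .stab 899 43 true, .stab 491 43 false, .stab 492 35 true, .stab 940 35 false,
  .stab 1141 43 false, .stab 1015 36 true, .stab 1339 34 true, .stab 894 35 true, .stab 1145 36 false, .stab 1340 35 false, .stab 1359 34 true, .stab 1275 35 true,
  .stab 576 43 true, .stab 522 35 true, .stab 1025 43 true, .stab 1357 35 true, .stab 1186 36 true, .stab 310 36 false, .stab 327 35 true, .stab 44 36 false,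
  .stab 102 36 true, .stab 186 34 true, .stab 107 35 true, .stab 1238 35 false, .stab 1334 43 true, .stab 250 43 false, .stab 811 36 true, .stab 1054 35 false,
  .stab 527 36 false, .stab 912 35 true, .stab 1270 35 false, .stab 47 36 true, .stab 1361 43 true, .stab 1101 43 true, .stab 1067 43 false, .stab 572 43 false,
  .stab 315 36 true, .stab 526 36 false, .stab 184 35 true, .stab 1002 36 true, .stab 64 36 false, .stab 667 43 true, .stab 1208 43 false, .stab 607 43 true,
  .stab 774 43 false, .stab 683 35 true, .stab 98 35 false, .stab 399 35 false, .stab 94 36 true, .stab 1407 36 false, .stab 268 43 false, .stab 497 34 true,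
  .stab 812 35 true, .stab 717 35 false, .stab 1287 43 true, .stab 751 43 true, .stab 1178 35 true, .stab 543 36 true, .stab 446 43 false, .stab 1293 36 false,
  .stab 1405 43 false, .stab 1032 36 true, .stab 494 34 true, .stab 939 36 false, .stab 806 36 true, .stab 851 36 false, .stab 816 43 false, .stab 114 35 true,
  .stab 800 34 true, .stab 1118 43 true, .stab 1167 34 true, .stab 487 43 false, .stab 694 36 false, .stab 695 43 true, .stab 478 36 true, .stab 1204 36 true,
  .stab 827 43 true, .stab 768 43 false, .stab 1399 35 true, .stab 153 34 true, .stab 300 35 true, .stab 1388 35 true, .stab 1233 35 false, .stab 324 34 true,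
  .stab 748 36 false, .stab 275 35 false, .stab 1389 43 false, .stab 174 43 true, .stab 1121 43 true, .stab 137 43 false, .stab 795 34 true, .stab 1182 43 false,
  .stab 599 36 true, .stab 792 43 false, .stab 109 36 true, .stab 378 35 false, .stab 336 43 true, .stab 84 36 false, .stab 913 43 true, .stab 467 43 false,
  .stab 766 35 true, .stab 1327 34 true, .stab 1254 36 true, .stab 554 34 true, .stab 52 35 true, .stab 138 36 true, .stab 256 36 true, .stab 391 36 false,
  .stab 477 36 true, .stab 1201 34 true, .stab 356 35 true, .stab 1120 36 true, .stab 1006 43 true, .stab 921 36 true, .stab 291 35 false, .stab 975 36 true,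
  .stab 1241 43 true, .stab 455 43 true, .stab 788 35 true, .stab 290 35 false, .stab 682 34 true, .stab 100 35 true, .stab 715 35 false, .stab 237 43 true,
  .stab 1231 34 true, .stab 175 36 true, .stab 253 36 false, .stab 1049 34 true, .stab 734 35 false, .stab 1227 36 true, .stab 82 35 false, .stab 425 34 true,
  .stab 382 36 false, .stab 1265 35 true, .stab 685 34 true, .stab 714 35 false, .stab 1330 36 true, .stab 668 43 false, .stab 424 43 true, .stab 325 43 false,
  .stab 1209 35 true, .stab 456 36 true, .stab 841 36 false, .stab 390 36 false, .stab 335 35 true, .stab 958 36 true, .stab 1207 43 true, .stab 387 43 false,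
  .stab 280 35 false, .stab 551 36 true, .stab 1245 36 false, .stab 169 35 true, .stab 960 35 true, .stab 1244 43 false, .stab 1046 36 false, .stab 1312 36 true,
  .stab 152 34 true, .stab 297 35 true, .stab 733 35 true, .stab 168 34 true, .stab 197 35 false, .stab 501 36 false, .stab 1398 34 true, .stab 1311 34 true,
  .stab 681 35 false, .stab 602 36 false, .stab 354 36 true, .stab 338 43 false, .stab 689 43 true, .stab 626 43 false, .stab 627 35 true, .stab 823 35 false,
  .stab 1050 43 false, .stab 744 36 true, .stab 1213 34 true, .stab 698 35 true, .stab 1047 36 false, .stab 1212 35 false, .stab 1332 36 true, .stab 944 36 false,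
  .stab 604 43 false, .stab 73 35 true, .stab 1176 34 true, .stab 1057 43 true, .stab 1038 34 true, .stab 875 43 false, .stab 410 36 false, .stab 201 36 true,
  .stab 202 43 false, .stab 1253 43 true, .stab 728 43 false, .stab 727 35 true, .stab 1343 35 false, .stab 860 43 false, .stab 1298 36 true, .stab 1010 34 true,
  .stab 1252 35 true, .stab 857 36 false, .stab 1007 35 false, .stab 1203 36 true, .stab 746 36 false, .stab 468 43 false, .stab 121 35 true, .stab 1200 34 true,
  .stab 1240 43 true, .stab 783 34 true, .stab 672 43 false, .stab 381 36 false, .stab 293 36 true, .stab 294 43 false, .stab 1074 43 true, .stab 680 43 false,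
  .stab 693 35 true, .stab 1151 35 false, .stab 648 43 false, .stab 1219 36 true, .stab 815 34 true, .stab 1075 35 true, .stab 651 36 false, .stab 818 35 false]

/-- covering of the points at node 3 -/
def cov3 : List Step := [
  .edge 4 17, .edge 2 25, .edge 0 20, .edge 1 26, .edge 57 221, .edge 12 222, .edge 38 46, .edge 7 54,
  .edge 36 58, .edge 45 68, .edge 65 77, .edge 10 105, .edge 44 135, .edge 22 143, .stab 6 24 true, .stab 3 24 true,
  .stab 5 24 true, .stab 9 24 true, .stab 81 24 true, .stab 127 40 true, .stab 711 40 false, .stab 60 24 true, .stab 13 40 true, .stab 32 40 false,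
  .stab 122 24 true, .stab 89 40 true, .stab 911 40 false, .stab 37 24 true, .stab 8 40 true, .stab 16 40 false, .stab 124 24 true, .stab 86 40 true,
  .stab 908 40 false, .stab 142 24 true, .stab 647 40 true, .stab 51 40 false, .stab 299 24 true, .stab 136 40 true, .stab 1345 40 false, .stab 58 24 true,
  .stab 11 40 true, .stab 26 40 false, .stab 207 24 true, .stab 95 40 true, .stab 1223 40 false, .stab 39 24 true, .stab 23 40 true, .stab 53 40 false,
  .stab 182 40 true, .stab 650 40 false, .stab 703 40 true, .stab 796 24 true, .stab 162 40 false, .stab 68 40 true, .stab 131 40 false, .stab 190 40 true,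
  .stab 270 40 false, .stab 274 40 true, .stab 859 40 false, .stab 903 40 true, .stab 990 24 true, .stab 101 40 false, .stab 46 40 true, .stab 87 40 false,
  .stab 282 40 true, .stab 179 40 false, .stab 279 40 true, .stab 856 40 false, .stab 900 40 true, .stab 987 24 true, .stab 254 40 false, .stab 708 40 true,
  .stab 151 40 false, .stab 700 24 true, .stab 83 40 true, .stab 203 40 false, .stab 338 40 true, .stab 1129 40 false, .stab 915 40 true, .stab 837 24 true,
  .stab 1383 40 false, .stab 67 40 true, .stab 128 40 false, .stab 193 40 true, .stab 271 40 false, .stab 246 40 true, .stab 1285 40 false, .stab 715 40 true,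
  .stab 1042 24 true, .stab 1398 40 false, .stab 47 40 true, .stab 90 40 false, .stab 285 40 true, .stab 178 40 false, .stab 118 40 false, .stab 632 40 true,
  .stab 496 40 true, .stab 165 40 false, .stab 1056 40 true, .stab 865 40 false, .stab 702 24 true, .stab 91 40 true, .stab 278 24 true, .stab 597 40 false,
  .stab 77 40 false, .stab 421 40 true, .stab 343 40 true, .stab 110 40 false, .stab 1239 40 true, .stab 660 40 false, .stab 902 24 true, .stab 132 40 true,
  .stab 181 24 true, .stab 463 40 false, .stab 66 40 false, .stab 699 40 true, .stab 295 40 true, .stab 257 40 false, .stab 793 24 true, .stab 59 40 true,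
  .stab 559 40 false, .stab 130 40 false, .stab 187 40 true, .stab 515 40 true, .stab 1202 24 true, .stab 348 40 false, .stab 916 24 true, .stab 1005 40 true,
  .stab 99 40 true, .stab 1294 40 false, .stab 825 24 true, .stab 1125 40 false, .stab 1055 40 true, .stab 867 40 false, .stab 705 24 true, .stab 92 40 true,
  .stab 273 24 true, .stab 600 40 false, .stab 368 40 true, .stab 1327 24 true, .stab 472 40 false, .stab 716 24 true, .stab 813 40 true, .stab 160 40 true,
  .stab 1142 40 false, .stab 1023 24 true, .stab 1277 40 false, .stab 1238 40 true, .stab 657 40 false, .stab 905 24 true, .stab 133 40 true, .stab 186 24 true,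
  .stab 460 40 false, .stab 120 40 false, .stab 369 24 true, .stab 170 40 true, .stab 864 24 true, .stab 301 40 false, .stab 673 40 true, .stab 276 40 false,
  .stab 248 24 true, .stab 123 40 true, .stab 1242 40 false, .stab 885 24 true, .stab 79 40 false, .stab 516 24 true, .stab 262 40 true, .stab 655 24 true,
  .stab 206 40 false, .stab 880 40 true, .stab 189 40 false, .stab 156 24 true, .stab 84 40 true, .stab 1061 40 false, .stab 691 24 true, .stab 72 40 false,
  .stab 509 24 true, .stab 886 40 true, .stab 97 40 true, .stab 232 40 false, .stab 163 24 true, .stab 610 40 false, .stab 575 40 true, .stab 367 40 false,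
  .stab 567 24 true, .stab 204 40 true, .stab 1336 24 true, .stab 1385 40 false, .stab 773 40 true, .stab 1212 40 false, .stab 1222 24 true, .stab 365 24 true,
  .stab 171 40 true, .stab 863 24 true, .stab 298 40 false, .stab 674 40 true, .stab 281 40 false, .stab 93 24 true, .stab 125 40 true, .stab 1243 40 false,
  .stab 896 24 true, .stab 362 24 true, .stab 679 40 true, .stab 137 40 true, .stab 325 40 false, .stab 255 24 true, .stab 474 40 false, .stab 437 40 true,
  .stab 506 40 false, .stab 429 24 true, .stab 344 40 true, .stab 1209 24 true, .stab 1373 40 false, .stab 1036 40 true, .stab 1340 40 false, .stab 1351 24 true,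
  .stab 512 24 true, .stab 263 40 true, .stab 656 24 true, .stab 209 40 false, .stab 881 40 true, .stab 184 40 false, .stab 134 24 true, .stab 82 40 true,
  .stab 1060 40 false, .stab 678 24 true, .stab 40 40 true, .stab 428 40 false, .stab 177 24 true, .stab 507 40 true, .stab 18 40 false, .stab 393 24 true,
  .stab 180 24 true, .stab 1099 40 true, .stab 666 40 true, .stab 462 40 false, .stab 517 24 true, .stab 322 40 true, .stab 221 40 false, .stab 61 40 true,
  .stab 566 40 false, .stab 269 24 true, .stab 361 40 true, .stab 28 40 false, .stab 536 24 true, .stab 272 24 true, .stab 1268 40 true, .stab 873 40 true,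
  .stab 599 40 false, .stab 373 24 true, .stab 228 40 true, .stab 313 40 false, .stab 412 40 true, .stab 266 40 false, .stab 351 24 true, .stab 202 40 true,
  .stab 447 24 true, .stab 235 40 false, .stab 713 40 true, .stab 164 40 false, .stab 159 24 true, .stab 441 40 true, .stab 694 40 false, .stab 1379 40 true,
  .stab 606 40 false, .stab 1117 40 true, .stab 1316 40 true, .stab 1007 40 false, .stab 1236 24 true, .stab 754 40 false, .stab 961 40 true, .stab 1211 24 true,
  .stab 440 40 false, .stab 1132 40 true, .stab 215 40 false, .stab 41 40 true, .stab 432 40 false, .stab 173 24 true, .stab 508 40 true, .stab 19 40 false,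
  .stab 386 24 true, .stab 185 24 true, .stab 1103 40 true, .stab 670 40 true, .stab 465 40 false, .stab 520 24 true, .stab 320 40 true, .stab 222 40 false,
  .stab 554 40 true, .stab 174 40 false, .stab 501 24 true, .stab 293 40 true, .stab 326 24 true, .stab 328 40 false, .stab 921 40 true, .stab 256 40 false,
  .stab 251 24 true, .stab 635 40 true, .stab 609 40 false, .stab 1394 40 true, .stab 469 40 false, .stab 1279 40 true, .stab 1175 40 true, .stab 815 40 false,
  .stab 1049 24 true, .stab 951 40 false, .stab 765 40 true, .stab 1337 24 true, .stab 634 40 false, .stab 1291 40 true, .stab 347 40 false, .stab 62 40 true,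
  .stab 570 40 false, .stab 265 24 true, .stab 360 40 true, .stab 29 40 false, .stab 531 24 true, .stab 277 24 true, .stab 1270 40 true, .stab 877 40 true,
  .stab 602 40 false, .stab 370 24 true, .stab 230 40 true, .stab 314 40 false, .stab 116 24 true, .stab 14 40 true, .stab 85 40 false, .stab 56 24 true,
  .stab 537 40 true, .stab 806 40 true, .stab 104 40 false, .stab 1097 24 true, .stab 665 24 true, .stab 546 40 true, .stab 663 40 false, .stab 318 40 true,
  .stab 598 40 false, .stab 532 40 true, .stab 225 24 true, .stab 985 40 false, .stab 75 24 true, .stab 24 40 true, .stab 126 40 false, .stab 35 24 true,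
  .stab 395 40 true, .stab 998 40 true, .stab 145 40 false, .stab 1110 24 true, .stab 872 24 true, .stab 399 40 true, .stab 870 40 false, .stab 227 40 true,
  .stab 464 40 false, .stab 378 40 true, .stab 317 24 true, .stab 802 40 false, .stab 1136 24 true, .stab 198 40 true, .stab 289 40 false, .stab 409 40 true,
  .stab 529 40 false, .stab 172 40 true, .stab 799 40 true, .stab 502 40 false, .stab 389 40 false, .stab 1250 40 true, .stab 727 40 false, .stab 1192 40 true,
  .stab 605 40 false, .stab 1171 24 true, .stab 684 40 true, .stab 475 40 false, .stab 1347 24 true, .stab 557 40 true, .stab 967 40 false, .stab 404 24 true,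
  .stab 1131 40 true, .stab 1264 24 true, .stab 305 40 false, .stab 1310 40 true, .stab 584 40 false, .stab 470 24 true, .stab 1295 40 true, .stab 1180 40 true,
  .stab 379 40 false, .stab 439 24 true, .stab 1093 40 false, .stab 653 40 true, .stab 724 24 true, .stab 821 40 false, .stab 43 24 true, .stab 15 40 true,
  .stab 88 40 false, .stab 21 24 true, .stab 538 40 true, .stab 805 40 true, .stab 106 40 false, .stab 1096 24 true, .stab 664 24 true, .stab 542 40 true,
  .stab 669 40 false, .stab 319 40 true, .stab 601 40 false, .stab 525 40 true, .stab 220 24 true, .stab 994 40 false, .stab 1185 24 true, .stab 291 40 true,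
  .stab 197 40 false, .stab 381 40 true, .stab 384 40 false, .stab 268 40 true, .stab 993 40 true, .stab 330 40 false, .stab 527 40 false, .stab 1072 40 true,
  .stab 680 40 false, .stab 1181 40 true, .stab 468 40 false, .stab 1314 24 true, .stab 892 40 true, .stab 641 40 false, .stab 1227 24 true, .stab 418 40 true,
  .stab 771 40 false, .stab 543 24 true, .stab 1092 40 true, .stab 1088 24 true, .stab 213 40 false, .stab 1165 40 true, .stab 446 40 false, .stab 603 24 true,
  .stab 1143 40 true, .stab 1292 40 true, .stab 533 40 false, .stab 576 24 true, .stab 1014 40 false, .stab 866 40 true, .stab 681 24 true, .stab 1012 40 false,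
  .stab 64 24 true, .stab 25 40 true, .stab 129 40 false, .stab 31 24 true, .stab 394 40 true, .stab 997 40 true, .stab 147 40 false, .stab 1107 24 true,
  .stab 871 24 true, .stab 403 40 true, .stab 876 40 false, .stab 226 40 true, .stab 461 40 false, .stab 387 40 true, .stab 312 24 true, .stab 791 40 false,
  .stab 54 40 true, .stab 372 40 false, .stab 662 40 false, .stab 545 40 true, .stab 523 40 true, .stab 807 24 true, .stab 1063 40 true, .stab 804 40 false,
  .stab 907 40 true, .stab 48 40 false, .stab 984 40 true, .stab 540 24 true, .stab 119 40 true, .stab 74 40 true, .stab 1331 24 true, .stab 34 40 false,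
  .stab 1368 40 false, .stab 33 40 true, .stab 519 40 false, .stab 869 40 false, .stab 396 40 true, .stab 377 40 true, .stab 999 24 true, .stab 1102 40 true,
  .stab 996 40 false, .stab 710 40 true, .stab 69 40 false, .stab 789 40 true, .stab 398 24 true, .stab 78 40 true, .stab 42 40 true, .stab 1204 24 true,
  .stab 20 40 false, .stab 1360 40 false, .stab 1158 40 true, .stab 530 40 false, .stab 495 24 true, .stab 1019 40 true, .stab 646 40 false, .stab 490 24 true,
  .stab 261 40 true, .stab 1009 40 false, .stab 649 24 true, .stab 1156 40 true, .stab 627 40 false, .stab 850 24 true, .stab 1247 40 true, .stab 247 24 true,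
  .stab 1225 40 false, .stab 1197 24 true, .stab 401 40 true, .stab 890 40 false, .stab 229 40 true, .stab 205 40 false, .stab 183 24 true, .stab 380 24 true,
  .stab 1322 40 true, .stab 1229 24 true, .stab 1305 40 true, .stab 565 40 false, .stab 211 40 true, .stab 267 40 false, .stab 1363 40 true, .stab 924 40 true,
  .stab 618 40 false, .stab 963 24 true, .stab 832 40 false, .stab 706 40 true, .stab 582 24 true, .stab 874 40 false, .stab 1403 40 true, .stab 231 40 false,
  .stab 1248 24 true, .stab 1059 40 true, .stab 830 24 true, .stab 677 40 false, .stab 1089 40 true, .stab 1155 40 false, .stab 1276 24 true, .stab 259 40 true,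
  .stab 436 40 false, .stab 1066 24 true, .stab 759 40 false, .stab 17 40 true, .stab 375 40 false, .stab 661 40 false, .stab 539 40 true, .stab 524 40 true,
  .stab 810 24 true, .stab 1062 40 true, .stab 803 40 false, .stab 910 40 true, .stab 49 40 false, .stab 983 40 true, .stab 541 24 true, .stab 50 40 true,
  .stab 63 40 true, .stab 1332 24 true, .stab 30 40 false, .stab 1369 40 false, .stab 1304 40 true, .stab 385 40 false, .stab 292 24 true, .stab 827 40 true,
  .stab 855 40 false, .stab 550 24 true, .stab 169 40 true, .stab 817 40 false, .stab 861 24 true, .stab 1302 40 true, .stab 492 40 false, .stab 611 24 true,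
  .stab 1068 40 true, .stab 355 24 true, .stab 1058 40 false, .stab 1138 24 true, .stab 548 40 true, .stab 685 40 false, .stab 323 40 true, .stab 300 40 false,
  .stab 280 24 true, .stab 534 24 true, .stab 1186 40 true, .stab 939 24 true, .stab 1160 40 true, .stab 427 40 false, .stab 304 40 true, .stab 175 40 false,
  .stab 1357 40 true, .stab 726 40 true, .stab 482 40 false, .stab 767 24 true, .stab 1025 40 false, .stab 920 40 true, .stab 444 24 true, .stab 667 40 false,
  .stab 1406 40 true, .stab 321 40 false, .stab 1070 24 true, .stab 1240 40 true, .stab 1021 24 true, .stab 895 40 false, .stab 1254 40 true, .stab 1299 40 false,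
  .stab 1112 24 true, .stab 155 40 true, .stab 572 40 false, .stab 1244 24 true, .stab 952 40 false, .stab 27 40 true, .stab 522 40 false, .stab 868 40 false,
  .stab 402 40 true, .stab 376 40 true, .stab 1002 24 true, .stab 1098 40 true, .stab 995 40 false, .stab 707 40 true, .stab 70 40 false, .stab 790 40 true,
  .stab 397 24 true, .stab 71 40 true, .stab 115 40 true, .stab 1203 24 true, .stab 55 40 false, .stab 1359 40 false, .stab 782 40 false, .stab 901 40 false,
  .stab 287 40 true, .stab 1108 24 true, .stab 459 40 true, .stab 590 40 false, .stab 518 40 true, .stab 148 24 true, .stab 191 40 false, .stab 976 40 false,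
  .stab 704 40 false, .stab 192 40 true, .stab 1274 24 true, .stab 596 40 true, .stab 452 40 false, .stab 374 40 true, .stab 105 24 true, .stab 283 40 false,
  .stab 426 24 true, .stab 1128 40 true, .stab 1342 40 false, .stab 487 40 true, .stab 826 40 false, .stab 980 24 true, .stab 626 24 true, .stab 357 40 true,
  .stab 400 40 true, .stab 212 40 false, .stab 934 40 true, .stab 366 40 false, .stab 1077 40 true, .stab 629 24 true, .stab 659 40 false, .stab 473 40 true,
  .stab 687 40 false, .stab 925 24 true, .stab 451 40 false, .stab 1078 24 true, .stab 797 40 true, .stab 747 40 false, .stab 1048 24 true, .stab 340 40 true,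
  .stab 1000 40 false, .stab 816 24 true, .stab 466 40 true, .stab 927 40 true, .stab 1081 40 false, .stab 236 40 true, .stab 176 40 false, .stab 823 24 true,
  .stab 1253 40 true, .stab 878 24 true, .stab 563 24 true, .stab 498 24 true, .stab 970 40 true, .stab 410 40 false, .stab 756 24 true, .stab 1126 40 true,
  .stab 882 24 true, .stab 628 40 false, .stab 1041 40 true, .stab 954 40 false, .stab 1119 24 true, .stab 80 40 true, .stab 1187 40 true, .stab 936 40 false,
  .stab 1307 24 true, .stab 1246 40 false, .stab 1228 40 true, .stab 819 24 true, .stab 1173 40 false, .stab 73 40 false, .stab 111 40 true, .stab 770 40 true,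
  .stab 698 24 true, .stab 1135 40 false, .stab 476 24 true, .stab 1084 40 false, .stab 930 40 true, .stab 442 24 true, .stab 891 40 false, .stab 742 40 false,
  .stab 1364 24 true, .stab 809 40 false, .stab 904 40 false, .stab 284 40 true, .stab 1111 24 true, .stab 454 40 true, .stab 589 40 false, .stab 521 40 true,
  .stab 146 24 true, .stab 194 40 false, .stab 568 24 true, .stab 1153 40 true, .stab 1215 40 false, .stab 643 40 true, .stab 1020 40 false, .stab 786 24 true,
  .stab 491 24 true, .stab 513 40 true, .stab 547 40 true, .stab 303 40 false, .stab 738 40 true, .stab 505 40 false, .stab 1266 40 true, .stab 494 24 true,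
  .stab 840 40 false, .stab 640 40 true, .stab 889 40 false, .stab 729 24 true, .stab 639 40 false, .stab 1052 24 true, .stab 988 40 true, .stab 945 40 false,
  .stab 1237 24 true, .stab 358 40 true, .stab 808 40 false, .stab 1011 24 true, .stab 607 40 true, .stab 731 40 true, .stab 1256 40 false, .stab 327 40 true,
  .stab 264 40 false, .stab 940 24 true, .stab 1075 40 true, .stab 671 24 true, .stab 425 24 true, .stab 306 24 true, .stab 774 40 true, .stab 390 40 false,
  .stab 955 24 true, .stab 1282 40 true, .stab 675 24 true, .stab 493 40 false, .stab 1170 40 true, .stab 758 40 false, .stab 1216 24 true, .stab 121 40 true,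
  .stab 1325 40 true, .stab 740 40 false, .stab 1162 24 true, .stab 1067 40 false, .stab 938 40 true, .stab 1008 24 true, .stab 1313 40 false, .stab 52 40 false,
  .stab 153 40 true, .stab 1035 40 true, .stab 894 24 true, .stab 1346 40 false, .stab 642 24 true, .stab 1259 40 false, .stab 734 40 true, .stab 636 24 true,
  .stab 686 40 false, .stab 1032 40 false, .stab 1358 24 true, .stab 1001 40 false, .stab 701 40 false, .stab 195 40 true, .stab 1275 24 true, .stab 591 40 true,
  .stab 453 40 false, .stab 371 40 true, .stab 107 24 true, .stab 286 40 false, .stab 1371 24 true, .stab 709 40 true, .stab 1104 24 true, .stab 143 24 true,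
  .stab 964 24 true, .stab 1367 24 true, .stab 909 40 true, .stab 1271 24 true, .stab 103 24 true, .stab 766 24 true, .stab 1206 40 true, .stab 239 40 false,
  .stab 764 24 true, .stab 1374 40 true, .stab 583 40 false, .stab 485 24 true, .stab 615 40 true, .stab 587 40 false, .stab 238 40 true, .stab 654 40 false,
  .stab 652 40 true, .stab 1115 24 true, .stab 214 24 true, .stab 926 24 true, .stab 556 40 true, .stab 411 40 false, .stab 1224 24 true, .stab 341 40 true,
  .stab 982 40 false, .stab 1031 24 true, .stab 359 40 true, .stab 188 24 true, .stab 845 40 false, .stab 645 40 true, .stab 332 40 false, .stab 1188 24 true,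
  .stab 553 40 false, .stab 224 24 true, .stab 423 40 true, .stab 500 40 true, .stab 824 40 false, .stab 1262 24 true, .stab 1082 40 false, .stab 755 24 true,
  .stab 1402 40 true, .stab 928 24 true, .stab 947 40 true, .stab 781 40 false, .stab 233 40 true, .stab 201 40 false, .stab 166 40 true, .stab 638 40 true,
  .stab 986 40 true, .stab 956 40 false, .stab 1380 40 true, .stab 968 24 true, .stab 528 40 true, .stab 329 40 false, .stab 820 40 true, .stab 114 40 false,
  .stab 334 40 true, .stab 1278 40 true, .stab 875 40 false, .stab 1252 24 true, .stab 1030 40 false, .stab 558 40 true, .stab 942 24 true, .stab 1028 40 false,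
  .stab 1140 40 true, .stab 785 40 true, .stab 957 24 true, .stab 853 40 false, .stab 569 40 true, .stab 630 40 false, .stab 1297 24 true, .stab 1065 40 true,
  .stab 1085 40 false, .stab 208 40 false, .stab 720 40 false, .stab 245 40 true, .stab 784 40 false, .stab 1090 24 true, .stab 931 40 true, .stab 1174 40 false,
  .stab 488 24 true, .stab 1400 40 false, .stab 1027 24 true, .stab 631 24 true, .stab 833 40 true, .stab 1130 40 false, .stab 1372 24 true, .stab 712 40 true,
  .stab 1100 24 true, .stab 144 24 true, .stab 962 24 true, .stab 1333 40 true, .stab 333 40 false, .stab 958 24 true, .stab 1386 40 true, .stab 445 40 false,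
  .stab 619 24 true, .stab 479 40 true, .stab 450 40 false, .stab 352 40 true, .stab 839 40 false, .stab 858 40 true, .stab 1281 24 true, .stab 346 24 true,
  .stab 730 24 true, .stab 417 40 true, .stab 625 40 false, .stab 1293 24 true, .stab 356 40 true, .stab 788 40 false, .stab 841 24 true, .stab 514 40 true,
  .stab 275 24 true, .stab 579 40 false, .stab 854 40 true, .stab 240 40 false, .stab 1326 24 true, .stab 414 40 false, .stab 315 24 true, .stab 633 40 true,
  .stab 311 40 true, .stab 1040 40 false, .stab 1086 24 true, .stab 1261 40 false, .stab 950 24 true, .stab 1407 40 true, .stab 732 24 true, .stab 751 40 true,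
  .stab 1006 40 false, .stab 324 40 true, .stab 294 40 false, .stab 258 40 true, .stab 848 40 true, .stab 792 40 true, .stab 760 40 false, .stab 1396 40 true,
  .stab 772 24 true, .stab 383 40 true, .stab 237 40 false, .stab 1013 40 true, .stab 167 40 false, .stab 242 40 true, .stab 1114 40 true, .stab 668 40 false,
  .stab 1074 24 true, .stab 838 40 false, .stab 419 40 true, .stab 746 24 true, .stab 836 40 false, .stab 1150 40 true, .stab 978 40 true, .stab 761 24 true,
  .stab 624 40 false, .stab 431 40 true, .stab 842 40 false, .stab 1147 24 true, .stab 1245 40 true, .stab 1258 40 false, .stab 297 40 false, .stab 906 40 false,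
  .stab 353 40 true, .stab 979 40 false, .stab 1255 24 true, .stab 735 40 true, .stab 1348 40 false, .stab 644 24 true, .stab 1376 40 false, .stab 835 24 true,
  .stab 843 24 true, .stab 1024 40 true, .stab 1079 40 false, .stab 1366 24 true, .stab 912 40 true, .stab 1269 24 true, .stab 102 24 true, .stab 768 24 true,
  .stab 697 24 true, .stab 1168 40 true, .stab 1106 40 true, .stab 406 40 false, .stab 1350 24 true, .stab 1317 24 true, .stab 244 40 true, .stab 161 40 false,
  .stab 614 24 true, .stab 948 40 true, .stab 594 40 false, .stab 234 40 true, .stab 1043 24 true, .stab 489 40 false, .stab 1381 40 true, .stab 946 40 true,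
  .stab 157 24 true, .stab 849 40 true, .stab 504 40 false, .stab 690 40 true, .stab 112 40 false, .stab 260 40 true, .stab 981 24 true, .stab 199 40 false,
  .stab 613 40 true, .stab 1343 40 false, .stab 922 40 true, .stab 1080 40 false, .stab 573 40 false, .stab 616 40 true, .stab 1118 40 false, .stab 218 40 false,
  .stab 135 24 true, .stab 217 40 true, .stab 1166 40 false, .stab 745 40 true, .stab 937 40 true, .stab 779 40 false, .stab 971 40 true, .stab 953 40 false,
  .stab 688 40 false, .stab 1384 40 true, .stab 1189 24 true, .stab 1272 40 true, .stab 1392 40 false, .stab 1191 40 true, .stab 96 40 false, .stab 622 24 true,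
  .stab 581 24 true, .stab 1234 40 true, .stab 592 40 true, .stab 932 24 true, .stab 1124 40 false, .stab 989 24 true, .stab 923 40 true, .stab 608 40 true,
  .stab 535 24 true, .stab 897 24 true, .stab 499 40 true, .stab 658 40 false, .stab 154 40 true, .stab 1321 40 false, .stab 1249 24 true, .stab 416 40 true,
  .stab 1329 40 false, .stab 888 24 true, .stab 689 40 true, .stab 562 40 true, .stab 1083 24 true, .stab 503 40 false, .stab 743 24 true, .stab 1375 40 false,
  .stab 822 40 true, .stab 959 40 false, .stab 749 24 true, .stab 1309 40 false, .stab 1298 24 true, .stab 1157 40 false, .stab 1050 40 true, .stab 800 40 false,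
  .stab 1328 24 true, .stab 949 40 true, .stab 1139 40 false, .stab 1127 40 true, .stab 1026 40 false, .stab 345 40 true, .stab 1349 40 false, .stab 893 24 true,
  .stab 1311 40 true, .stab 1286 40 true, .stab 382 40 false, .stab 1388 24 true, .stab 1178 24 true, .stab 335 40 true, .stab 253 40 false, .stab 478 24 true,
  .stab 752 40 true, .stab 457 40 false, .stab 350 40 true, .stab 1233 24 true, .stab 296 40 false, .stab 1395 40 true, .stab 750 40 true, .stab 249 24 true,
  .stab 588 40 true, .stab 339 40 false, .stab 884 40 true, .stab 152 40 false, .stab 168 40 true, .stab 787 24 true, .stab 290 40 false, .stab 477 40 true,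
  .stab 1219 40 false, .stab 722 40 true, .stab 1257 40 false, .stab 435 40 false, .stab 480 40 true, .stab 1288 40 false, .stab 309 40 false, .stab 94 24 true,
  .stab 310 40 true, .stab 1312 40 false, .stab 1034 40 true, .stab 741 40 true, .stab 972 40 false, .stab 775 40 true, .stab 757 40 false, .stab 898 40 false,
  .stab 1377 40 true, .stab 1323 24 true, .stab 1105 40 true, .stab 1404 40 false, .stab 1330 40 true, .stab 138 40 false, .stab 486 24 true, .stab 443 24 true,
  .stab 1046 40 true, .stab 455 40 true, .stab 736 24 true, .stab 1273 40 false, .stab 795 24 true, .stab 723 40 true, .stab 471 40 true, .stab 392 24 true,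
  .stab 692 24 true, .stab 307 40 true, .stab 862 40 false, .stab 113 40 true, .stab 1184 40 false, .stab 1071 24 true, .stab 552 40 true, .stab 1196 40 false,
  .stab 683 24 true, .stab 899 40 true, .stab 424 40 true, .stab 1260 24 true, .stab 337 40 false, .stab 1033 24 true, .stab 1393 40 false, .stab 1039 40 true,
  .stab 763 40 false, .stab 943 24 true, .stab 1164 40 false, .stab 1151 24 true, .stab 1301 40 false, .stab 1141 40 true, .stab 777 40 false, .stab 1194 24 true,
  .stab 753 40 true, .stab 1218 40 false, .stab 1217 40 true, .stab 834 40 false, .stab 497 40 true, .stab 1361 40 false, .stab 448 40 false, .stab 1172 24 true,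
  .stab 223 40 true, .stab 1397 24 true, .stab 593 40 false, .stab 1177 40 true, .stab 1038 40 false, .stab 1284 40 true, .stab 1045 40 false, .stab 1044 40 true,
  .stab 917 40 false, .stab 1263 40 true, .stab 1037 40 false, .stab 801 40 true, .stab 252 40 false, .stab 919 40 true, .stab 1148 40 true, .stab 1190 24 true,
  .stab 728 24 true, .stab 388 40 true, .stab 1057 40 false, .stab 510 40 true, .stab 617 40 true, .stab 586 40 false, .stab 200 24 true, .stab 415 40 false,
  .stab 914 24 true, .stab 814 40 false, .stab 139 24 true, .stab 883 24 true, .stab 1267 40 true, .stab 974 40 false, .stab 219 24 true, .stab 879 40 true,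
  .stab 1205 40 false, .stab 620 40 true, .stab 1362 40 false, .stab 595 40 true, .stab 408 40 false, .stab 1296 40 true, .stab 1094 24 true, .stab 1161 24 true,
  .stab 1123 24 true, .stab 1365 40 true, .stab 933 40 false, .stab 407 40 true, .stab 762 40 false, .stab 604 24 true, .stab 571 40 true, .stab 1137 40 true,
  .stab 1341 40 false, .stab 560 40 true, .stab 511 40 false, .stab 725 24 true, .stab 1356 40 true, .stab 1133 40 false, .stab 744 24 true, .stab 1353 40 false,
  .stab 1226 40 true, .stab 1251 40 false, .stab 860 40 true, .stab 1401 24 true, .stab 1176 40 false, .stab 434 40 true, .stab 1154 40 true, .stab 929 40 false,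
  .stab 243 24 true, .stab 1149 40 true, .stab 1076 40 false, .stab 844 40 true, .stab 1230 40 false, .stab 1195 40 true, .stab 846 40 false, .stab 1280 40 false,
  .stab 1169 40 true, .stab 977 24 true, .stab 944 40 true, .stab 965 40 true, .stab 413 24 true, .stab 1010 40 true, .stab 1335 40 false, .stab 549 40 false,
  .stab 1016 24 true, .stab 316 40 true, .stab 1315 24 true, .stab 456 40 false, .stab 1200 40 true, .stab 1231 40 false, .stab 1121 40 true, .stab 1069 40 false,
  .stab 1064 40 true, .stab 717 40 false, .stab 1087 40 true, .stab 1220 40 false, .stab 992 40 true, .stab 140 40 false, .stab 719 40 true, .stab 1101 40 true,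
  .stab 1324 24 true, .stab 693 24 true, .stab 526 40 true, .stab 1241 40 false, .stab 363 40 true, .stab 481 40 true, .stab 449 40 false, .stab 342 24 true,
  .stab 551 40 false, .stab 714 24 true, .stab 975 40 false, .stab 98 24 true, .stab 676 24 true, .stab 1095 40 true, .stab 780 40 false, .stab 349 24 true,
  .stab 672 40 true, .stab 1334 40 false, .stab 484 40 true, .stab 1355 40 false, .stab 458 40 true, .stab 585 40 false, .stab 1146 40 true, .stab 941 24 true,
  .stab 1308 24 true, .stab 1289 24 true, .stab 1354 40 true, .stab 737 40 false, .stab 391 40 true, .stab 960 40 false, .stab 467 24 true, .stab 433 40 true,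
  .stab 1183 40 true, .stab 1214 40 false, .stab 422 40 true, .stab 364 40 false, .stab 695 24 true, .stab 1344 40 true, .stab 1290 40 false, .stab 1015 24 true,
  .stab 1389 40 false, .stab 1054 40 true, .stab 1073 40 false, .stab 651 40 true, .stab 1370 24 true, .stab 1201 40 false, .stab 574 40 true, .stab 1300 40 true,
  .stab 733 40 false, .stab 336 24 true, .stab 1109 40 true, .stab 1265 40 false, .stab 578 40 true, .stab 969 40 false, .stab 1144 40 true, .stab 580 40 false,
  .stab 1116 40 false, .stab 1198 40 true, .stab 783 24 true, .stab 748 40 true, .stab 769 40 true, .stab 555 24 true, .stab 818 40 true, .stab 1207 40 false,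
  .stab 1051 40 true, .stab 778 40 false, .stab 794 24 true, .stab 851 40 true, .stab 798 40 false, .stab 1167 24 true, .stab 857 40 false, .stab 918 40 true,
  .stab 1047 24 true, .stab 1318 40 true, .stab 1283 40 false, .stab 1003 24 true, .stab 721 24 true, .stab 1232 40 false, .stab 1391 40 true, .stab 241 40 true,
  .stab 150 40 true, .stab 829 24 true, .stab 1210 40 true, .stab 1134 40 false, .stab 141 24 true, .stab 852 40 true, .stab 828 40 false, .stab 1004 40 true,
  .stab 158 40 false, .stab 1193 40 true, .stab 430 40 false, .stab 696 40 false, .stab 302 40 true, .stab 308 40 false, .stab 1122 24 true, .stab 887 40 false,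
  .stab 1159 40 true, .stab 637 40 false, .stab 354 40 false, .stab 1113 24 true, .stab 1091 40 true, .stab 1221 40 false, .stab 1320 40 false, .stab 438 40 true,
  .stab 935 24 true, .stab 483 40 false, .stab 1213 40 true, .stab 831 40 false, .stab 1235 40 true, .stab 973 40 false, .stab 991 24 true, .stab 612 40 true,
  .stab 776 40 false, .stab 1199 24 true, .stab 648 40 false, .stab 718 40 true, .stab 1145 24 true, .stab 1179 40 true, .stab 1120 40 false, .stab 811 24 true,
  .stab 913 24 true, .stab 1029 40 false, .stab 1405 40 true, .stab 331 40 true, .stab 109 40 true, .stab 1022 24 true, .stab 1338 40 true, .stab 1319 40 false,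
  .stab 100 24 true, .stab 623 40 true, .stab 1018 40 false, .stab 812 40 true, .stab 250 40 false, .stab 1208 40 true, .stab 564 40 false, .stab 561 40 false,
  .stab 210 40 true, .stab 216 40 false, .stab 1152 24 true, .stab 682 40 false, .stab 1303 40 true, .stab 847 40 false, .stab 420 40 false, .stab 1287 24 true,
  .stab 1053 40 true, .stab 966 40 false, .stab 1182 40 false, .stab 577 40 true, .stab 739 24 true, .stab 621 40 false, .stab 1339 40 true, .stab 1017 40 false,
  .stab 405 24 true, .stab 1163 40 false, .stab 288 40 false, .stab 149 40 false, .stab 1352 24 true, .stab 76 40 false, .stab 1378 40 true, .stab 1382 40 true,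
  .stab 544 24 true, .stab 1306 40 false, .stab 196 40 false, .stab 108 40 false, .stab 1390 24 true, .stab 117 40 false, .stab 1387 40 true, .stab 1399 40 true]

/-- covering of the points at node 5 -/
def cov5 : List Step := [
  .edge 4 48, .edge 3 53, .edge 7 66, .edge 2 60, .edge 1 62, .edge 0 69, .edge 15 71, .edge 6 73,
  .edge 16 80, .edge 14 91, .edge 5 108, .edge 43 111, .edge 9 114, .edge 10 129, .edge 25 137, .edge 37 184,
  .stab 162 49 true, .stab 68 52 true, .stab 77 49 true, .stab 373 52 true, .stab 710 52 false, .stab 1102 65 true, .stab 168 49 true, .stab 55 52 true,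
  .stab 452 65 true, .stab 101 49 true, .stab 46 52 true, .stab 254 49 true, .stab 47 52 true, .stab 142 49 true, .stab 67 52 true, .stab 267 49 true,
  .stab 306 52 true, .stab 427 52 false, .stab 118 49 true, .stab 517 52 true, .stab 907 52 false, .stab 1063 65 true, .stab 1120 49 true, .stab 364 52 true,
  .stab 684 52 false, .stab 596 65 true, .stab 261 49 true, .stab 346 52 true, .stab 431 52 false, .stab 45 49 true, .stab 520 52 true, .stab 910 52 false,
  .stab 1062 65 true, .stab 1172 49 true, .stab 1331 52 true, .stab 117 52 false, .stab 258 65 true, .stab 66 49 true, .stab 370 52 true, .stab 707 52 false,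
  .stab 1098 65 true, .stab 260 49 true, .stab 34 52 true, .stab 589 65 true, .stab 169 49 true, .stab 498 52 true, .stab 565 52 false, .stab 514 49 true,
  .stab 781 52 true, .stab 1135 52 false, .stab 405 65 true, .stab 18 52 true, .stab 870 52 true, .stab 1274 52 false, .stab 1360 65 true, .stab 8 52 true,
  .stab 869 52 false, .stab 196 52 true, .stab 310 65 true, .stab 512 65 true, .stab 285 52 true, .stab 570 52 false, .stab 28 52 true, .stab 29 52 true,
  .stab 19 52 true, .stab 555 52 true, .stab 551 52 false, .stab 524 52 true, .stab 357 65 true, .stab 38 52 false, .stab 663 52 true, .stab 1108 52 false,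
  .stab 1368 65 true, .stab 13 52 true, .stab 662 52 false, .stab 657 52 true, .stab 982 52 false, .stab 1244 65 true, .stab 998 52 true, .stab 473 65 true,
  .stab 42 52 false, .stab 475 65 true, .stab 745 52 true, .stab 770 52 false, .stab 552 52 true, .stab 554 52 false, .stab 523 52 true, .stab 366 65 true,
  .stab 36 52 false, .stab 669 52 true, .stab 1111 52 false, .stab 1369 65 true, .stab 11 52 true, .stab 661 52 false, .stab 784 52 true, .stab 1301 52 false,
  .stab 1018 65 true, .stab 1338 52 true, .stab 574 65 true, .stab 113 52 false, .stab 748 65 true, .stab 44 52 true, .stab 94 52 false, .stab 876 52 true,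
  .stab 1275 52 false, .stab 1359 65 true, .stab 23 52 true, .stab 868 52 false, .stab 288 52 true, .stab 217 65 true, .stab 369 65 true, .stab 190 52 true,
  .stab 428 52 false, .stab 413 52 true, .stab 415 52 false, .stab 376 52 true, .stab 505 65 true, .stab 59 52 false, .stab 798 52 true, .stab 1297 52 false,
  .stab 1128 65 true, .stab 946 52 true, .stab 1269 65 true, .stab 82 52 false, .stab 1402 65 true, .stab 1248 52 true, .stab 466 52 false, .stab 35 52 true,
  .stab 1061 52 false, .stab 268 65 true, .stab 543 52 true, .stab 324 52 false, .stab 516 52 true, .stab 566 52 true, .stab 282 52 false, .stab 1392 52 true,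
  .stab 54 65 true, .stab 124 52 false, .stab 624 52 true, .stab 1096 65 true, .stab 803 52 true, .stab 106 52 false, .stab 41 65 true, .stab 56 52 true,
  .stab 1242 52 false, .stab 1184 52 true, .stab 1280 65 true, .stab 1196 52 false, .stab 725 65 true, .stab 918 52 true, .stab 410 52 false, .stab 799 52 true,
  .stab 996 65 true, .stab 269 52 true, .stab 536 52 false, .stab 632 65 true, .stab 165 52 true, .stab 502 65 true, .stab 317 52 false, .stab 450 65 true,
  .stab 1391 52 true, .stab 17 65 true, .stab 122 52 false, .stab 644 52 true, .stab 1097 65 true, .stab 804 52 true, .stab 104 52 false, .stab 40 65 true,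
  .stab 21 52 true, .stab 1243 52 false, .stab 474 52 true, .stab 753 65 true, .stab 1020 52 false, .stab 580 65 true, .stab 1302 52 true, .stab 836 52 false,
  .stab 249 52 true, .stab 1326 65 true, .stab 730 52 true, .stab 281 52 false, .stab 116 65 true, .stab 1371 52 true, .stab 477 52 false, .stab 746 65 true,
  .stab 1337 52 false, .stab 148 65 true, .stab 31 52 true, .stab 1060 52 false, .stab 172 65 true, .stab 404 52 true, .stab 233 52 false, .stab 365 52 true,
  .stab 432 52 true, .stab 193 52 false, .stab 1405 52 true, .stab 33 65 true, .stab 81 52 false, .stab 853 52 true, .stab 1107 65 true, .stab 995 52 true,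
  .stab 147 52 false, .stab 62 65 true, .stab 1365 52 true, .stab 1013 65 true, .stab 1215 52 false, .stab 1187 65 true, .stab 1077 52 true, .stab 963 52 false,
  .stab 1316 52 true, .stab 1089 65 true, .stab 1190 52 true, .stab 228 52 false, .stab 1193 65 true, .stab 289 52 true, .stab 134 52 false, .stab 1251 52 true,
  .stab 912 65 true, .stab 263 52 false, .stab 264 52 true, .stab 325 52 true, .stab 547 52 false, .stab 20 65 true, .stab 453 52 true, .stab 291 52 true,
  .stab 743 65 true, .stab 1336 52 true, .stab 677 52 false, .stab 1168 65 true, .stab 639 65 true, .stab 348 52 true, .stab 352 52 false, .stab 246 52 true,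
  .stab 805 65 true, .stab 1339 52 false, .stab 600 65 true, .stab 951 52 true, .stab 240 52 false, .stab 1191 52 true, .stab 1209 65 true, .stab 1257 52 true,
  .stab 108 52 false, .stab 203 65 true, .stab 51 52 true, .stab 1010 65 true, .stab 100 52 false, .stab 314 65 true, .stab 334 65 true, .stab 354 52 true,
  .stab 513 52 false, .stab 374 65 true, .stab 953 52 false, .stab 69 65 true, .stab 1262 52 true, .stab 283 65 true, .stab 1110 52 true, .stab 227 52 false,
  .stab 655 65 true, .stab 361 52 true, .stab 132 52 false, .stab 290 52 true, .stab 1229 65 true, .stab 1335 52 true, .stab 690 52 false, .stab 1166 65 true,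
  .stab 588 65 true, .stab 308 52 true, .stab 330 52 false, .stab 420 52 true, .stab 806 65 true, .stab 1340 52 false, .stab 597 65 true, .stab 950 52 true,
  .stab 242 52 false, .stab 835 52 true, .stab 392 65 true, .stab 945 52 true, .stab 447 52 false, .stab 824 65 true, .stab 631 52 true, .stab 353 52 false,
  .stab 636 65 true, .stab 422 52 false, .stab 696 65 true, .stab 146 65 true, .stab 534 52 true, .stab 1104 52 false, .stab 1277 52 true, .stab 672 65 true,
  .stab 331 52 false, .stab 446 65 true, .stab 1332 52 true, .stab 525 52 true, .stab 676 65 true, .stab 1260 52 false, .stab 670 65 true, .stab 1372 52 true,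
  .stab 478 52 false, .stab 1324 65 true, .stab 137 52 true, .stab 336 52 false, .stab 176 52 true, .stab 232 52 true, .stab 400 52 false, .stab 30 65 true,
  .stab 590 52 true, .stab 198 52 true, .stab 939 65 true, .stab 1207 52 true, .stab 884 52 false, .stab 1312 65 true, .stab 451 65 true, .stab 216 52 true,
  .stab 238 52 false, .stab 338 52 true, .stab 997 65 true, .stab 1213 52 false, .stab 460 65 true, .stab 754 52 true, .stab 332 52 false, .stab 653 52 true,
  .stab 411 65 true, .stab 530 52 true, .stab 854 52 false, .stab 1197 65 true, .stab 1041 52 true, .stab 1348 52 false, .stab 252 52 true, .stab 1216 65 true,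
  .stab 1261 52 false, .stab 976 65 true, .stab 602 52 true, .stab 1352 52 false, .stab 389 52 true, .stab 1211 65 true, .stab 957 52 false, .stab 1247 65 true,
  .stab 880 52 true, .stab 223 52 false, .stab 156 52 true, .stab 341 52 false, .stab 87 65 true, .stab 873 52 true, .stab 1317 65 true, .stab 691 52 true,
  .stab 1038 52 false, .stab 97 65 true, .stab 358 65 true, .stab 309 52 true, .stab 22 52 true, .stab 383 65 true, .stab 301 52 true, .stab 815 52 false,
  .stab 250 52 true, .stab 1321 65 true, .stab 256 52 false, .stab 1382 65 true, .stab 497 52 true, .stab 121 52 false, .stab 521 52 true, .stab 664 52 false,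
  .stab 88 52 true, .stab 737 65 true, .stab 319 52 false, .stab 941 65 true, .stab 904 52 true, .stab 167 65 true, .stab 992 52 true, .stab 511 52 false,
  .stab 414 65 true, .stab 443 52 true, .stab 735 52 false, .stab 541 52 true, .stab 983 52 false, .stab 73 65 true, .stab 136 52 true, .stab 27 52 false,
  .stab 1165 65 true, .stab 857 52 false, .stab 391 65 true, .stab 592 52 true, .stab 1024 65 true, .stab 1033 52 true, .stab 1075 52 false, .stab 362 65 true,
  .stab 682 52 true, .stab 1286 52 false, .stab 61 52 true, .stab 789 52 false, .stab 704 52 true, .stab 259 65 true, .stab 145 52 false, .stab 214 65 true,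
  .stab 722 52 true, .stab 849 52 false, .stab 797 65 true, .stab 816 52 true, .stab 1050 52 false, .stab 928 65 true, .stab 844 52 true, .stab 489 52 false,
  .stab 472 52 true, .stab 377 65 true, .stab 1129 52 false, .stab 127 65 true, .stab 935 52 true, .stab 179 65 true, .stab 384 65 true, .stab 298 52 true,
  .stab 818 52 false, .stab 95 52 true, .stab 1322 65 true, .stab 109 52 false, .stab 1383 65 true, .stab 213 52 true, .stab 52 52 false, .stab 518 52 true,
  .stab 665 52 false, .stab 85 52 true, .stab 741 65 true, .stab 318 52 false, .stab 1034 65 true, .stab 901 52 true, .stab 155 65 true, .stab 993 52 true,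
  .stab 515 52 false, .stab 417 65 true, .stab 444 52 true, .stab 739 52 false, .stab 540 52 true, .stab 984 52 false, .stab 423 65 true, .stab 307 52 true,
  .stab 820 52 false, .stab 1344 52 true, .stab 471 65 true, .stab 486 52 false, .stab 679 65 true, .stab 785 52 true, .stab 1161 52 true, .stab 339 65 true,
  .stab 292 52 false, .stab 1133 65 true, .stab 558 52 true, .stab 337 52 false, .stab 385 65 true, .stab 765 52 true, .stab 479 52 false, .stab 138 52 true,
  .stab 335 52 false, .stab 1068 52 true, .stab 144 65 true, .stab 320 52 false, .stab 975 65 true, .stab 807 52 true, .stab 375 65 true, .stab 964 52 true,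
  .stab 1389 52 false, .stab 817 65 true, .stab 327 52 false, .stab 572 65 true, .stab 280 52 true, .stab 1079 65 true, .stab 1178 52 true, .stab 1056 65 true,
  .stab 170 52 true, .stab 1072 52 false, .stab 532 52 true, .stab 675 65 true, .stab 1259 52 false, .stab 666 65 true, .stab 527 52 true, .stab 1100 52 false,
  .stab 424 52 true, .stab 171 65 true, .stab 994 52 false, .stab 1223 65 true, .stab 340 65 true, .stab 218 52 true, .stab 12 52 true, .stab 528 65 true,
  .stab 206 52 true, .stab 1007 52 false, .stab 158 52 true, .stab 1186 65 true, .stab 164 52 false, .stab 1398 65 true, .stab 345 52 true, .stab 80 52 false,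
  .stab 371 52 true, .stab 871 52 false, .stab 129 52 true, .stab 933 65 true, .stab 226 52 false, .stab 1094 65 true, .stab 701 52 true, .stab 114 65 true,
  .stab 801 52 true, .stab 368 52 false, .stab 553 65 true, .stab 581 52 true, .stab 931 52 false, .stab 397 52 true, .stab 790 52 false, .stab 1142 65 true,
  .stab 899 52 true, .stab 1118 52 false, .stab 215 52 true, .stab 560 65 true, .stab 476 52 false, .stab 756 65 true, .stab 1386 52 true, .stab 697 52 false,
  .stab 1315 52 true, .stab 1026 52 false, .stab 1220 65 true, .stab 1290 52 true, .stab 1169 65 true, .stab 1017 52 true, .stab 779 52 false, .stab 961 65 true,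
  .stab 1364 52 true, .stab 986 52 false, .stab 1345 52 true, .stab 766 65 true, .stab 599 52 false, .stab 244 65 true, .stab 1249 52 true, .stab 103 65 true,
  .stab 135 52 true, .stab 1203 52 false, .stab 956 52 true, .stab 380 52 false, .stab 388 52 true, .stab 1234 65 true, .stab 1155 52 false, .stab 1403 52 true,
  .stab 90 65 true, .stab 224 65 true, .stab 1173 52 true, .stab 231 52 false, .stab 614 65 true, .stab 195 52 true, .stab 883 52 false, .stab 439 52 true,
  .stab 1177 65 true, .stab 629 52 false, .stab 562 52 true, .stab 105 52 false, .stab 174 52 true, .stab 1310 52 true, .stab 1134 52 false, .stab 1043 52 true,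
  .stab 467 65 true, .stab 1253 52 false, .stab 717 65 true, .stab 1228 52 true, .stab 153 65 true, .stab 1327 52 true, .stab 865 52 false, .stab 683 65 true,
  .stab 237 52 true, .stab 98 52 false, .stab 1276 52 true, .stab 878 52 false, .stab 922 52 true, .stab 173 65 true, .stab 911 65 true, .stab 1289 52 true,
  .stab 601 52 true, .stab 538 52 false, .stab 89 65 true, .stab 421 52 true, .stab 454 52 false, .stab 903 65 true, .stab 185 52 false, .stab 63 52 true,
  .stab 26 52 false, .stab 609 65 true, .stab 271 52 false, .stab 863 52 false, .stab 448 65 true, .stab 1311 52 true, .stab 671 52 false, .stab 938 52 true,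
  .stab 112 65 true, .stab 895 52 false, .stab 416 65 true, .stab 402 52 true, .stab 529 52 false, .stab 1205 65 true, .stab 483 52 true, .stab 430 52 false,
  .stab 208 65 true, .stab 1005 52 true, .stab 202 52 false, .stab 209 52 true, .stab 1404 65 true, .stab 721 52 false, .stab 187 65 true, .stab 159 52 true,
  .stab 1058 65 true, .stab 755 52 true, .stab 57 65 true, .stab 549 52 false, .stab 126 65 true, .stab 1212 52 true, .stab 703 65 true, .stab 872 52 true,
  .stab 272 52 false, .stab 463 65 true, .stab 24 52 false, .stab 488 65 true, .stab 711 52 false, .stab 395 52 true, .stab 1048 65 true, .stab 937 65 true,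
  .stab 556 52 true, .stab 1309 52 true, .stab 1180 52 false, .stab 1031 52 true, .stab 468 65 true, .stab 1252 52 false, .stab 718 65 true, .stab 742 52 true,
  .stab 152 65 true, .stab 1330 52 true, .stab 867 52 false, .stab 686 65 true, .stab 501 52 true, .stab 251 52 false, .stab 1149 52 true, .stab 874 52 false,
  .stab 916 52 true, .stab 177 65 true, .stab 908 65 true, .stab 1285 52 true, .stab 598 52 true, .stab 537 52 false, .stab 86 65 true, .stab 699 52 true,
  .stab 459 52 false, .stab 900 65 true, .stab 180 52 false, .stab 74 52 true, .stab 32 52 false, .stab 640 65 true, .stab 270 52 false, .stab 864 52 false,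
  .stab 408 65 true, .stab 763 52 true, .stab 481 52 false, .stab 955 52 true, .stab 500 65 true, .stab 645 52 false, .stab 777 65 true, .stab 823 52 true,
  .stab 654 65 true, .stab 974 52 true, .stab 1394 52 false, .stab 772 65 true, .stab 1088 52 false, .stab 758 65 true, .stab 787 52 true, .stab 210 65 true,
  .stab 1198 52 true, .stab 649 65 true, .stab 1082 52 true, .stab 160 52 false, .stab 1163 52 true, .stab 355 65 true, .stab 342 52 false, .stab 1132 65 true,
  .stab 347 52 true, .stab 821 52 false, .stab 1185 52 true, .stab 1085 65 true, .stab 1305 52 false, .stab 1282 65 true, .stab 425 52 true, .stab 985 52 false,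
  .stab 1390 65 true, .stab 760 52 true, .stab 322 65 true, .stab 1299 52 true, .stab 526 52 false, .stab 1071 65 true, .stab 751 52 true, .stab 58 52 false,
  .stab 906 65 true, .stab 693 52 true, .stab 1046 52 false, .stab 1227 52 true, .stab 465 65 true, .stab 962 52 false, .stab 533 65 true, .stab 303 52 true,
  .stab 546 52 false, .stab 278 52 false, .stab 731 52 true, .stab 276 52 false, .stab 577 65 true, .stab 808 52 true, .stab 702 52 false, .stab 284 52 true,
  .stab 1073 65 true, .stab 1201 52 true, .stab 603 52 true, .stab 1067 52 false, .stab 1179 65 true, .stab 275 52 true, .stab 1092 65 true, .stab 848 52 false,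
  .stab 1055 65 true, .stab 143 65 true, .stab 1006 65 true, .stab 607 52 true, .stab 792 65 true, .stab 1265 52 true, .stab 266 52 true, .stab 1164 52 true,
  .stab 1292 52 false, .stab 841 52 true, .stab 604 65 true, .stab 1074 52 false, .stab 917 65 true, .stab 1032 52 true, .stab 111 65 true, .stab 1202 52 true,
  .stab 660 52 false, .stab 888 65 true, .stab 329 52 true, .stab 139 52 false, .stab 1109 52 true, .stab 667 52 false, .stab 716 52 true, .stab 265 65 true,
  .stab 708 65 true, .stab 1123 52 true, .stab 461 52 true, .stab 394 52 false, .stab 130 65 true, .stab 559 52 true, .stab 591 52 false, .stab 700 65 true,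
  .stab 277 52 false, .stab 115 52 true, .stab 53 52 false, .stab 694 65 true, .stab 178 52 false, .stab 656 52 false, .stab 585 65 true, .stab 1030 52 true,
  .stab 1380 52 false, .stab 1126 52 true, .stab 726 65 true, .stab 894 52 false, .stab 617 65 true, .stab 759 52 true, .stab 311 65 true, .stab 1028 52 true,
  .stab 979 52 false, .stab 851 52 true, .stab 499 52 false, .stab 626 52 true, .stab 1385 65 true, .stab 936 52 false, .stab 1189 52 true, .stab 775 65 true,
  .stab 688 65 true, .stab 441 52 true, .stab 487 52 false, .stab 503 65 true, .stab 1376 52 true, .stab 504 52 false, .stab 571 52 true, .stab 637 65 true,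
  .stab 830 52 false, .stab 1136 52 true, .stab 633 52 false, .stab 905 52 true, .stab 1003 52 false, .stab 791 65 true, .stab 1076 52 true, .stab 243 65 true,
  .stab 1347 52 true, .stab 879 52 false, .stab 768 65 true, .stab 107 52 true, .stab 802 52 false, .stab 230 65 true, .stab 1154 52 true, .stab 379 52 false,
  .stab 166 52 true, .stab 75 52 false, .stab 436 65 true, .stab 977 65 true, .stab 1188 52 false, .stab 102 65 true, .stab 522 52 true, .stab 1044 52 false,
  .stab 181 65 true, .stab 1224 65 true, .stab 1171 52 true, .stab 229 52 false, .stab 1192 52 true, .stab 929 52 true, .stab 1057 52 false, .stab 1045 65 true,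
  .stab 942 52 true, .stab 1084 52 false, .stab 646 65 true, .stab 584 52 false, .stab 1367 65 true, .stab 1148 52 true, .stab 188 65 true, .stab 1238 52 false,
  .stab 192 65 true, .stab 720 52 true, .stab 212 65 true, .stab 545 52 true, .stab 1080 65 true, .stab 856 65 true, .stab 921 52 true, .stab 1343 52 true,
  .stab 915 52 false, .stab 279 65 true, .stab 295 52 true, .stab 1066 52 false, .stab 987 65 true, .stab 1350 52 false, .stab 1329 52 true, .stab 1283 52 false,
  .stab 1114 65 true, .stab 1225 52 false, .stab 509 52 false, .stab 119 65 true, .stab 1008 65 true, .stab 611 52 true, .stab 1145 52 true, .stab 1235 52 true,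
  .stab 738 52 false, .stab 1087 52 true, .stab 966 52 false, .stab 991 52 true, .stab 889 52 true, .stab 386 52 false, .stab 92 65 true, .stab 220 65 true,
  .stab 305 52 true, .stab 83 65 true, .stab 71 52 false, .stab 1233 65 true, .stab 150 52 true, .stab 793 65 true, .stab 1319 52 true, .stab 1388 52 false,
  .stab 1399 65 true, .stab 175 52 false, .stab 199 65 true, .stab 647 52 false, .stab 715 52 true, .stab 762 65 true, .stab 605 65 true, .stab 891 52 true,
  .stab 398 52 true, .stab 582 65 true, .stab 569 52 true, .stab 464 52 false, .stab 539 52 true, .stab 1081 65 true, .stab 859 65 true, .stab 913 52 true,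
  .stab 1298 52 true, .stab 914 52 false, .stab 274 65 true, .stab 343 52 true, .stab 1065 52 false, .stab 990 65 true, .stab 1320 52 false, .stab 1328 52 true,
  .stab 1284 52 false, .stab 1116 65 true, .stab 1226 52 false, .stab 510 52 false, .stab 50 65 true, .stab 1011 65 true, .stab 641 52 true, .stab 1141 52 true,
  .stab 1237 52 true, .stab 732 52 false, .stab 1086 52 true, .stab 1035 52 false, .stab 988 52 true, .stab 892 52 true, .stab 393 52 false, .stab 91 65 true,
  .stab 225 65 true, .stab 1183 52 true, .stab 1307 52 false, .stab 1288 65 true, .stab 612 52 true, .stab 628 65 true, .stab 740 52 true, .stab 491 52 false,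
  .stab 952 65 true, .stab 1355 52 true, .stab 359 52 false, .stab 969 65 true, .stab 480 52 true, .stab 1373 52 false, .stab 1393 52 true, .stab 698 65 true,
  .stab 924 52 false, .stab 492 65 true, .stab 1150 52 true, .stab 822 52 false, .stab 1091 52 false, .stab 943 52 true, .stab 234 52 false, .stab 429 65 true,
  .stab 458 52 true, .stab 1117 52 false, .stab 1401 52 true, .stab 140 65 true, .stab 445 52 true, .stab 769 52 true, .stab 1255 52 false, .stab 1199 65 true,
  .stab 786 52 true, .stab 207 65 true, .stab 692 52 false, .stab 652 65 true, .stab 219 65 true, .stab 776 65 true, .stab 767 52 true, .stab 1396 65 true,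
  .stab 550 52 true, .stab 920 52 true, .stab 304 65 true, .stab 795 65 true, .stab 1254 52 true, .stab 462 52 false, .stab 783 65 true, .stab 761 52 false,
  .stab 316 52 true, .stab 673 52 false, .stab 1361 52 true, .stab 1293 52 false, .stab 548 65 true, .stab 1241 65 true, .stab 1064 52 false, .stab 668 52 true,
  .stab 674 52 false, .stab 542 52 true, .stab 1103 65 true, .stab 1287 52 true, .stab 333 52 false, .stab 1105 52 true, .stab 896 52 false, .stab 733 65 true,
  .stab 1357 52 false, .stab 855 65 true, .stab 1070 52 false, .stab 709 65 true, .stab 287 52 true, .stab 576 65 true, .stab 811 52 true, .stab 705 52 false,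
  .stab 328 52 false, .stab 1200 52 true, .stab 680 52 false, .stab 1300 52 true, .stab 750 52 true, .stab 60 52 false, .stab 544 52 true, .stab 782 52 true,
  .stab 396 52 true, .stab 1256 65 true, .stab 650 65 true, .stab 713 52 true, .stab 1151 52 true, .stab 714 52 false, .stab 182 65 true, .stab 496 52 true,
  .stab 1245 52 false, .stab 796 65 true, .stab 1182 52 false, .stab 1194 52 true, .stab 1121 52 false, .stab 1278 65 true, .stab 1054 52 false, .stab 363 52 false,
  .stab 78 65 true, .stab 819 65 true, .stab 850 52 true, .stab 1047 52 true, .stab 1051 52 true, .stab 934 52 false, .stab 1263 52 true, .stab 1221 52 false,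
  .stab 794 52 true, .stab 687 52 true, .stab 531 52 false, .stab 133 65 true, .stab 312 65 true, .stab 1279 52 true, .stab 594 52 false, .stab 1162 65 true,
  .stab 490 52 true, .stab 615 65 true, .stab 1375 52 true, .stab 608 52 false, .stab 780 65 true, .stab 561 52 true, .stab 1160 52 false, .stab 493 65 true,
  .stab 932 52 true, .stab 627 52 false, .stab 828 52 true, .stab 1016 52 false, .stab 954 65 true, .stab 778 65 true, .stab 535 52 false, .stab 349 65 true,
  .stab 840 52 true, .stab 1159 52 false, .stab 1052 65 true, .stab 1295 65 true, .stab 845 52 true, .stab 852 52 false, .stab 1195 52 true, .stab 575 52 true,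
  .stab 1232 52 false, .stab 1158 65 true, .stab 442 52 true, .stab 200 52 false, .stab 829 65 true, .stab 886 52 false, .stab 419 65 true, .stab 919 52 true,
  .stab 980 65 true, .stab 861 52 false, .stab 1370 65 true, .stab 1230 52 true, .stab 1140 65 true, .stab 1131 52 true, .stab 930 65 true, .stab 947 65 true,
  .stab 875 52 true, .stab 1353 52 false, .stab 926 65 true, .stab 96 52 true, .stab 157 65 true, .stab 706 52 false, .stab 989 65 true, .stab 1271 52 true,
  .stab 186 65 true, .stab 881 52 false, .stab 65 52 true, .stab 64 65 true, .stab 154 65 true, .stab 927 52 true, .stab 189 52 false, .stab 909 52 true,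
  .stab 1210 65 true, .stab 728 52 true, .stab 1125 65 true, .stab 1176 52 false, .stab 236 52 true, .stab 39 52 true, .stab 84 52 false, .stab 1363 65 true,
  .stab 1059 52 false, .stab 1270 52 true, .stab 1000 65 true, .stab 1236 52 true, .stab 1366 52 true, .stab 1272 52 false, .stab 184 65 true, .stab 387 52 true,
  .stab 944 52 false, .stab 378 52 false, .stab 727 52 false, .stab 1318 52 false, .stab 999 65 true, .stab 403 52 true, .stab 1009 52 false, .stab 619 65 true,
  .stab 681 52 true, .stab 568 52 true, .stab 958 52 true, .stab 300 52 false, .stab 456 52 true, .stab 381 52 false, .stab 1333 52 true, .stab 827 52 true,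
  .stab 149 52 false, .stab 1106 65 true, .stab 141 65 true, .stab 49 52 false, .stab 110 52 true, .stab 634 65 true, .stab 587 65 true, .stab 752 65 true,
  .stab 1112 52 true, .stab 351 65 true, .stab 412 52 true, .stab 1219 52 false, .stab 621 65 true, .stab 695 52 true, .stab 564 52 true, .stab 960 52 true,
  .stab 297 52 false, .stab 455 52 true, .stab 390 52 false, .stab 1334 52 true, .stab 788 52 true, .stab 163 52 false, .stab 1124 65 true, .stab 161 65 true,
  .stab 48 52 false, .stab 257 52 true, .stab 578 65 true, .stab 586 65 true, .stab 757 65 true, .stab 1036 52 true, .stab 1218 65 true, .stab 1395 65 true,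
  .stab 625 52 true, .stab 689 52 false, .stab 973 65 true, .stab 642 52 false, .stab 893 52 true, .stab 1378 52 false, .stab 862 52 true, .stab 1143 52 false,
  .stab 1152 65 true, .stab 1029 65 true, .stab 1303 52 false, .stab 469 52 true, .stab 1374 52 false, .stab 1093 52 true, .stab 630 65 true, .stab 1351 52 true,
  .stab 484 52 false, .stab 723 52 true, .stab 831 52 false, .stab 437 65 true, .stab 729 52 false, .stab 1022 65 true, .stab 1266 52 false, .stab 1119 65 true,
  .stab 1400 52 true, .stab 433 65 true, .stab 457 52 true, .stab 1115 52 false, .stab 1095 52 false, .stab 847 52 true, .stab 482 52 false, .stab 736 52 true,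
  .stab 1354 52 true, .stab 367 52 false, .stab 1153 52 true, .stab 1296 52 true, .stab 810 65 true, .stab 774 52 false, .stab 809 52 true, .stab 1231 65 true,
  .stab 1208 52 true, .stab 197 65 true, .stab 123 52 true, .stab 1406 65 true, .stab 321 52 true, .stab 323 65 true, .stab 1181 52 false, .stab 1049 65 true,
  .stab 1099 65 true, .stab 372 65 true, .stab 1313 52 false, .stab 1314 65 true, .stab 712 65 true, .stab 273 52 true, .stab 494 65 true, .stab 1101 52 true,
  .stab 885 52 false, .stab 734 65 true, .stab 1358 52 false, .stab 1069 52 true, .stab 1240 65 true, .stab 315 52 true, .stab 1175 52 true, .stab 1346 52 false,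
  .stab 485 65 true, .stab 724 52 true, .stab 426 52 true, .stab 764 52 true, .stab 205 52 false, .stab 593 52 true, .stab 409 52 false, .stab 1206 52 true,
  .stab 1019 52 true, .stab 255 52 false, .stab 1273 65 true, .stab 253 65 true, .stab 70 52 false, .stab 151 52 true, .stab 440 65 true, .stab 449 65 true,
  .stab 948 65 true, .stab 299 52 true, .stab 573 65 true, .stab 1362 65 true, .stab 606 52 true, .stab 1379 52 false, .stab 747 65 true, .stab 959 52 true,
  .stab 1027 65 true, .stab 773 52 false, .stab 1381 65 true, .stab 1012 52 true, .stab 1053 65 true, .stab 1387 52 false, .stab 1156 52 true, .stab 1040 65 true,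
  .stab 826 65 true, .stab 749 52 true, .stab 326 52 false, .stab 1217 52 true, .stab 610 65 true, .stab 616 52 true, .stab 1356 65 true, .stab 583 52 false,
  .stab 1264 52 true, .stab 506 52 true, .stab 1214 52 false, .stab 925 65 true, .stab 837 52 false, .stab 418 52 true, .stab 595 65 true, .stab 1384 52 true,
  .stab 843 52 true, .stab 923 52 false, .stab 350 65 true, .stab 1306 52 true, .stab 846 52 false, .stab 1308 52 false, .stab 618 52 false, .stab 1167 52 false,
  .stab 1015 65 true, .stab 1039 52 true, .stab 968 52 false, .stab 1268 52 true, .stab 1349 52 true, .stab 814 52 false, .stab 434 52 false, .stab 563 52 true,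
  .stab 262 65 true, .stab 1002 65 true, .stab 1001 52 true, .stab 235 52 true, .stab 1204 52 true, .stab 76 52 false, .stab 1113 52 true, .stab 239 52 false,
  .stab 638 65 true, .stab 678 52 true, .stab 1246 65 true, .stab 1239 52 true, .stab 401 65 true, .stab 902 52 true, .stab 399 65 true, .stab 1130 52 false,
  .stab 519 52 true, .stab 882 65 true, .stab 438 52 false, .stab 241 52 false, .stab 183 52 true, .stab 613 52 false, .stab 1250 65 true, .stab 970 52 true,
  .stab 407 52 false, .stab 72 52 true, .stab 812 65 true, .stab 221 65 true, .stab 651 65 true, .stab 194 65 true, .stab 508 52 true, .stab 406 52 false,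
  .stab 79 52 true, .stab 813 65 true, .stab 222 65 true, .stab 648 65 true, .stab 191 65 true, .stab 507 52 true, .stab 744 65 true, .stab 771 52 false,
  .stab 1294 52 true, .stab 972 65 true, .stab 1138 52 true, .stab 1170 65 true, .stab 1342 52 true, .stab 1323 65 true, .stab 643 52 true, .stab 623 65 true,
  .stab 1144 52 false, .stab 1377 65 true, .stab 557 65 true, .stab 659 65 true, .stab 635 52 false, .stab 579 65 true, .stab 1127 65 true, .stab 1078 52 true,
  .stab 1021 65 true, .stab 719 52 true, .stab 825 52 false, .stab 435 65 true, .stab 838 52 false, .stab 1304 52 true, .stab 1042 65 true, .stab 898 52 true,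
  .stab 866 52 true, .stab 1147 52 false, .stab 125 65 true, .stab 248 52 true, .stab 1407 52 false, .stab 356 52 true, .stab 131 52 true, .stab 128 52 true,
  .stab 382 52 false, .stab 120 52 true, .stab 1004 65 true, .stab 313 65 true, .stab 860 65 true, .stab 286 65 true, .stab 360 52 true, .stab 842 52 true,
  .stab 658 52 true, .stab 800 52 false, .stab 949 52 false, .stab 1137 52 true, .stab 1258 65 true, .stab 940 65 true, .stab 1146 52 true, .stab 1267 52 true,
  .stab 978 52 true, .stab 1157 52 false, .stab 1222 52 true, .stab 620 52 false, .stab 897 65 true, .stab 1023 52 true, .stab 1090 65 true, .stab 858 52 true,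
  .stab 1122 65 true, .stab 1281 52 true, .stab 1014 65 true, .stab 302 52 false, .stab 839 52 true, .stab 247 65 true, .stab 567 52 false, .stab 622 52 false,
  .stab 981 52 true, .stab 245 52 false, .stab 99 65 true, .stab 967 52 true, .stab 211 65 true, .stab 470 52 true, .stab 877 52 false, .stab 1083 65 true,
  .stab 833 65 true, .stab 887 52 true, .stab 344 52 false, .stab 832 65 true, .stab 890 52 true, .stab 296 52 false, .stab 1341 65 true, .stab 1174 52 true,
  .stab 1325 52 false, .stab 834 52 true, .stab 971 52 true, .stab 1037 52 true, .stab 93 52 false, .stab 1025 65 true, .stab 685 52 true, .stab 204 52 false,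
  .stab 1139 65 true, .stab 965 52 true, .stab 1291 52 false, .stab 495 65 true, .stab 294 52 false, .stab 293 52 false, .stab 1397 52 false, .stab 201 52 false]

/-- covering of the points at node 6 -/
def cov6 : List Step := [
  .edge 4 75, .edge 3 85, .edge 8 88, .edge 2 82, .edge 0 83, .edge 11 93, .edge 43 95, .edge 23 97,
  .edge 6 99, .edge 1 101, .edge 5 145, .edge 17 149, .edge 9 153, .edge 27 157, .edge 13 161, .edge 33 190,
  .stab 259 89 true, .stab 373 84 true, .stab 126 84 false, .stab 57 87 true, .stab 632 87 false, .stab 137 89 true, .stab 1073 89 false, .stab 42 84 true,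
  .stab 398 84 false, .stab 28 87 true, .stab 452 87 false, .stab 721 89 true, .stab 202 89 false, .stab 167 89 true, .stab 114 89 true, .stab 63 84 true,
  .stab 541 84 false, .stab 19 87 true, .stab 589 87 false, .stab 921 89 true, .stab 294 89 false, .stab 1104 84 true, .stab 685 84 false, .stab 120 87 true,
  .stab 1114 87 false, .stab 1160 89 true, .stab 969 89 false, .stab 115 84 true, .stab 397 84 false, .stab 29 87 true, .stab 453 87 false, .stab 713 89 true,
  .stab 201 89 false, .stab 517 84 true, .stab 85 84 false, .stab 36 87 true, .stab 699 87 false, .stab 96 89 true, .stab 1250 89 false, .stab 155 89 true,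
  .stab 520 84 true, .stab 88 84 false, .stab 38 87 true, .stab 421 87 false, .stab 97 89 true, .stab 1251 89 false, .stab 1337 84 true, .stab 1116 84 false,
  .stab 478 87 true, .stab 356 87 false, .stab 1156 89 true, .stab 1199 89 false, .stab 370 84 true, .stab 129 84 false, .stab 59 87 true, .stab 559 87 false,
  .stab 138 89 true, .stab 1072 89 false, .stab 1211 84 true, .stab 1280 84 false, .stab 614 87 true, .stab 341 87 false, .stab 1301 89 true, .stab 1167 89 false,
  .stab 74 84 true, .stab 540 84 false, .stab 18 87 true, .stab 590 87 false, .stab 913 89 true, .stab 293 89 false, .stab 1210 84 true, .stab 1278 84 false,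
  .stab 613 87 true, .stab 289 87 false, .stab 1302 89 true, .stab 1169 89 false, .stab 283 87 true, .stab 227 87 false, .stab 1407 89 true, .stab 885 89 false,
  .stab 24 87 true, .stab 1102 87 false, .stab 1287 89 true, .stab 792 89 false, .stab 536 84 false, .stab 317 87 true, .stab 322 89 true, .stab 1099 89 false,
  .stab 789 84 true, .stab 20 87 false, .stab 375 89 true, .stab 1332 89 false, .stab 712 87 true, .stab 985 87 false, .stab 962 87 true, .stab 7 89 false,
  .stab 179 87 true, .stab 703 87 false, .stab 1382 89 true, .stab 1309 89 false, .stab 145 87 true, .stab 361 87 false, .stab 1019 89 true, .stab 743 89 false,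
  .stab 596 84 false, .stab 69 87 true, .stab 875 89 true, .stab 401 89 false, .stab 711 84 true, .stab 162 87 false, .stab 764 89 true, .stab 604 89 false,
  .stab 1000 87 false, .stab 272 89 true, .stab 593 87 true, .stab 183 87 false, .stab 271 87 true, .stab 903 87 false, .stab 1398 89 true, .stab 1165 89 false,
  .stab 106 87 true, .stab 508 87 false, .stab 788 89 true, .stab 939 89 false, .stab 454 84 false, .stab 49 87 true, .stab 672 89 true, .stab 544 89 false,
  .stab 911 84 true, .stab 101 87 false, .stab 960 89 true, .stab 468 89 false, .stab 811 87 false, .stab 185 89 true, .stab 455 87 true, .stab 275 87 false,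
  .stab 651 84 true, .stab 1194 87 true, .stab 568 87 false, .stab 1281 89 true, .stab 252 89 false, .stab 182 84 false, .stab 920 87 true, .stab 462 87 false,
  .stab 441 89 true, .stab 1050 89 false, .stab 1186 84 true, .stab 975 84 false, .stab 125 87 true, .stab 299 89 true, .stab 689 89 false, .stab 54 84 true,
  .stab 336 84 false, .stab 1260 87 false, .stab 339 89 true, .stab 1380 89 false, .stab 1362 87 true, .stab 797 87 false, .stab 1032 89 true, .stab 1037 87 true,
  .stab 697 87 false, .stab 94 89 false, .stab 178 87 true, .stab 700 87 false, .stab 1383 89 true, .stab 1310 89 false, .stab 147 87 true, .stab 360 87 false,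
  .stab 982 89 true, .stab 1229 89 false, .stab 591 84 false, .stab 70 87 true, .stab 879 89 true, .stab 405 89 false, .stab 708 84 true, .stab 142 87 false,
  .stab 762 89 true, .stab 605 89 false, .stab 1003 87 false, .stab 277 89 true, .stab 592 87 true, .stab 188 87 false, .stab 191 87 true, .stab 318 87 false,
  .stab 1403 89 true, .stab 678 89 false, .stab 14 87 true, .stab 1063 87 false, .stab 1125 89 true, .stab 989 89 false, .stab 393 84 false, .stab 225 87 true,
  .stab 230 89 true, .stab 1270 89 false, .stab 984 84 true, .stab 34 87 false, .stab 519 89 true, .stab 1204 89 false, .stab 909 87 true, .stab 791 87 false,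
  .stab 766 87 true, .stab 12 89 false, .stab 194 87 true, .stab 319 87 false, .stab 1402 89 true, .stab 691 89 false, .stab 15 87 true, .stab 1062 87 false,
  .stab 1113 89 true, .stab 986 89 false, .stab 386 84 false, .stab 220 87 true, .stab 228 89 true, .stab 1268 89 false, .stab 983 84 true, .stab 30 87 false,
  .stab 522 89 true, .stab 1203 89 false, .stab 912 87 true, .stab 802 87 false, .stab 768 87 true, .stab 10 89 false, .stab 750 84 true, .stab 648 87 true,
  .stab 123 87 false, .stab 481 89 true, .stab 1136 89 false, .stab 335 84 false, .stab 116 87 true, .stab 1259 87 false, .stab 355 89 true, .stab 1381 89 false,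
  .stab 1058 84 true, .stab 1231 84 false, .stab 1184 87 true, .stab 928 89 true, .stab 627 89 false, .stab 867 84 true, .stab 774 84 false, .stab 1006 87 false,
  .stab 354 89 true, .stab 777 89 false, .stab 1027 87 true, .stab 1047 87 false, .stab 793 89 true, .stab 850 87 true, .stab 1091 87 false, .stab 1257 89 false,
  .stab 286 87 true, .stab 226 87 false, .stab 1406 89 true, .stab 896 89 false, .stab 25 87 true, .stab 1098 87 false, .stab 1277 89 true, .stab 795 89 false,
  .stab 531 84 false, .stab 312 87 true, .stab 320 89 true, .stab 1103 89 false, .stab 790 84 true, .stab 55 87 false, .stab 372 89 true, .stab 1331 89 false,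
  .stab 709 87 true, .stab 994 87 false, .stab 964 87 true, .stab 22 89 false, .stab 946 84 true, .stab 857 87 true, .stab 84 87 false, .stab 617 89 true,
  .stab 1183 89 false, .stab 244 84 false, .stab 75 87 true, .stab 1084 87 false, .stab 247 89 true, .stab 1396 89 false, .stab 1225 84 true, .stab 1038 84 false,
  .stab 1321 87 true, .stab 738 89 true, .stab 491 89 false, .stab 657 84 true, .stab 970 84 false, .stab 781 87 false, .stab 246 89 true, .stab 800 89 false,
  .stab 836 87 true, .stab 1141 87 false, .stab 987 89 true, .stab 641 87 true, .stab 1052 87 false, .stab 1080 89 false, .stab 270 87 true, .stab 900 87 false,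
  .stab 1399 89 true, .stab 1164 89 false, .stab 104 87 true, .stab 507 87 false, .stab 827 89 true, .stab 1033 89 false, .stab 459 84 false, .stab 48 87 true,
  .stab 668 89 true, .stab 548 89 false, .stab 908 84 true, .stab 254 87 false, .stab 958 89 true, .stab 467 89 false, .stab 808 87 false, .stab 180 89 true,
  .stab 456 87 true, .stab 280 87 false, .stab 947 84 true, .stab 860 87 true, .stab 82 87 false, .stab 615 89 true, .stab 1185 89 false, .stab 243 84 false,
  .stab 64 87 true, .stab 1083 87 false, .stab 504 89 true, .stab 1395 89 false, .stab 1226 84 true, .stab 977 84 false, .stab 1322 87 true, .stab 732 89 true,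
  .stab 492 89 false, .stab 660 84 true, .stab 1009 84 false, .stab 814 87 false, .stab 420 89 true, .stab 798 89 false, .stab 835 87 true, .stab 1145 87 false,
  .stab 990 89 true, .stab 611 87 true, .stab 1053 87 false, .stab 1081 89 false, .stab 655 84 true, .stab 516 84 false, .stab 21 89 true, .stab 869 84 true,
  .stab 464 84 false, .stab 382 89 true, .stab 333 89 false, .stab 1313 87 false, .stab 463 84 false, .stab 152 89 true, .stab 310 89 true, .stab 566 87 true,
  .stab 494 89 true, .stab 1092 87 true, .stab 526 87 false, .stab 117 87 true, .stab 258 87 true, .stab 282 89 false, .stab 68 84 true, .stab 710 89 false,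
  .stab 127 84 true, .stab 269 84 false, .stab 122 89 false, .stab 996 84 true, .stab 16 84 false, .stab 73 89 false, .stab 872 84 false, .stab 832 89 true,
  .stab 295 89 false, .stab 102 89 false, .stab 1298 87 true, .stab 61 87 true, .stab 1191 89 true, .stab 136 87 true, .stab 1031 87 false, .stab 1253 89 false,
  .stab 878 87 true, .stab 78 84 false, .stab 998 89 true, .stab 377 89 true, .stab 89 84 true, .stab 173 84 false, .stab 83 89 false, .stab 803 84 true,
  .stab 26 84 false, .stab 121 89 false, .stab 664 84 false, .stab 1024 89 true, .stab 496 89 false, .stab 143 89 false, .stab 1219 87 true, .stab 41 87 true,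
  .stab 1327 89 true, .stab 250 87 true, .stab 1233 87 false, .stab 1074 89 false, .stab 667 87 true, .stab 50 84 false, .stab 805 89 true, .stab 524 89 true,
  .stab 381 84 true, .stab 674 87 true, .stab 1338 87 false, .stab 1041 89 true, .stab 1161 89 false, .stab 818 84 true, .stab 362 84 false, .stab 1223 87 true,
  .stab 1159 89 true, .stab 445 89 false, .stab 1064 84 true, .stab 1242 84 false, .stab 321 87 false, .stab 889 89 true, .stab 828 89 false, .stab 1093 87 true,
  .stab 1222 87 false, .stab 222 89 true, .stab 1264 87 true, .stab 770 87 false, .stab 807 89 false, .stab 284 87 true, .stab 816 89 true, .stab 487 89 false,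
  .stab 264 84 false, .stab 458 89 true, .stab 744 89 false, .stab 238 89 true, .stab 953 89 false, .stab 858 87 true, .stab 755 87 false, .stab 100 89 true,
  .stab 1157 87 true, .stab 1373 87 false, .stab 304 89 false, .stab 572 87 true, .stab 477 87 false, .stab 197 87 true, .stab 1292 87 false, .stab 1394 89 true,
  .stab 955 89 true, .stab 780 89 false, .stab 1139 87 true, .stab 844 87 false, .stab 546 89 true, .stab 722 87 true, .stab 972 87 false, .stab 256 89 false,
  .stab 1198 89 false, .stab 301 87 false, .stab 1400 89 true, .stab 569 89 false, .stab 353 87 true, .stab 1361 89 true, .stab 573 87 true, .stab 693 89 false,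
  .stab 702 89 false, .stab 801 84 true, .stab 1178 89 false, .stab 1299 87 false, .stab 561 89 true, .stab 326 84 false, .stab 1241 89 true, .stab 383 87 true,
  .stab 130 84 true, .stab 265 84 false, .stab 124 89 false, .stab 995 84 true, .stab 53 84 false, .stab 80 89 false, .stab 871 84 false, .stab 833 89 true,
  .stab 343 89 false, .stab 103 89 false, .stab 1343 87 true, .stab 62 87 true, .stab 1202 89 true, .stab 158 87 true, .stab 1043 87 false, .stab 1252 89 false,
  .stab 874 87 true, .stab 71 84 false, .stab 997 89 true, .stab 376 89 true, .stab 864 84 true, .stab 369 84 false, .stab 35 89 true, .stab 662 84 true,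
  .stab 598 84 false, .stab 407 89 true, .stab 241 89 false, .stab 1171 87 false, .stab 597 84 false, .stab 111 89 true, .stab 218 89 true, .stab 428 87 true,
  .stab 646 89 true, .stab 1130 87 true, .stab 379 87 false, .stab 65 87 true, .stab 154 87 true, .stab 190 89 false, .stab 47 84 true, .stab 907 89 false,
  .stab 863 84 true, .stab 365 84 false, .stab 31 89 true, .stab 661 84 true, .stab 601 84 false, .stab 406 89 true, .stab 239 89 false, .stab 1173 87 false,
  .stab 600 84 false, .stab 112 89 true, .stab 217 89 true, .stab 432 87 true, .stab 629 89 true, .stab 1131 87 true, .stab 388 87 false, .stab 76 87 true,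
  .stab 166 87 true, .stab 193 89 false, .stab 46 84 true, .stab 910 89 false, .stab 287 84 true, .stab 298 87 true, .stab 574 87 false, .stab 1267 89 true,
  .stab 754 89 false, .stab 390 84 true, .stab 1100 84 false, .stab 673 87 true, .stab 1026 89 true, .stab 1163 89 false, .stab 1390 84 true, .stab 323 84 false,
  .stab 51 87 false, .stab 952 89 true, .stab 726 89 false, .stab 440 87 true, .stab 480 87 false, .stab 384 89 true, .stab 973 87 true, .stab 1189 87 false,
  .stab 1209 89 false, .stab 1319 87 true, .stab 1221 89 true, .stab 822 89 false, .stab 682 84 false, .stab 1162 89 true, .stab 1036 89 false, .stab 1401 89 true,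
  .stab 565 89 false, .stab 337 87 true, .stab 1140 87 false, .stab 1175 89 true, .stab 575 87 true, .stab 716 87 false, .stab 680 89 false, .stab 748 87 true,
  .stab 1049 87 false, .stab 607 87 true, .stab 1112 87 false, .stab 821 89 true, .stab 1377 89 true, .stab 861 89 false, .stab 741 87 true, .stab 897 87 false,
  .stab 1372 89 true, .stab 560 87 true, .stab 505 87 false, .stab 213 89 false, .stab 959 89 false, .stab 539 87 false, .stab 1393 89 true, .stab 1356 89 false,
  .stab 1153 87 true, .stab 1101 89 true, .stab 1294 87 true, .stab 248 89 false, .stab 1404 89 false, .stab 819 84 true, .stab 303 89 false, .stab 532 87 false,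
  .stab 530 89 true, .stab 852 84 false, .stab 196 89 true, .stab 45 89 true, .stab 1357 87 true, .stab 622 89 false, .stab 656 84 true, .stab 512 84 false,
  .stab 56 89 true, .stab 868 84 true, .stab 461 84 false, .stab 391 89 true, .stab 331 89 false, .stab 1314 87 false, .stab 460 84 false, .stab 153 89 true,
  .stab 309 89 true, .stab 570 87 true, .stab 855 89 true, .stab 1079 87 true, .stab 533 87 false, .stab 44 87 true, .stab 113 87 true, .stab 285 89 false,
  .stab 67 84 true, .stab 707 89 false, .stab 192 84 true, .stab 209 87 true, .stab 434 87 false, .stab 1088 89 true, .stab 950 89 false, .stab 410 84 true,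
  .stab 1269 84 false, .stab 880 87 true, .stab 1170 89 true, .stab 1308 89 false, .stab 1352 84 true, .stab 229 84 false, .stab 72 87 false, .stab 759 89 true,
  .stab 924 89 false, .stab 578 87 true, .stab 616 87 false, .stab 529 89 true, .stab 778 87 true, .stab 1325 87 false, .stab 1336 89 false, .stab 1134 87 true,
  .stab 1035 89 true, .stab 1014 89 false, .stab 887 84 false, .stab 1307 89 true, .stab 773 89 false, .stab 1376 89 true, .stab 431 89 false, .stab 503 87 true,
  .stab 1218 87 false, .stab 1316 89 true, .stab 435 87 true, .stab 916 87 false, .stab 727 89 false, .stab 944 87 true, .stab 1236 87 false, .stab 466 87 true,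
  .stab 1276 87 false, .stab 1013 89 true, .stab 1384 89 true, .stab 649 89 false, .stab 937 87 true, .stab 679 87 false, .stab 1366 89 true, .stab 474 87 true,
  .stab 366 87 false, .stab 305 89 false, .stab 765 89 false, .stab 402 87 false, .stab 1375 89 true, .stab 1351 89 false, .stab 1128 87 true, .stab 1148 89 true,
  .stab 1146 87 true, .stab 156 89 false, .stab 1392 89 false, .stab 1011 84 true, .stab 212 89 false, .stab 378 87 false, .stab 392 89 true, .stab 643 84 false,
  .stab 288 89 true, .stab 66 89 true, .stab 1363 87 true, .stab 484 89 false, .stab 86 84 true, .stab 177 84 false, .stab 81 89 false, .stab 804 84 true,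
  .stab 32 84 false, .stab 52 89 false, .stab 665 84 false, .stab 1025 89 true, .stab 203 89 false, .stab 144 89 false, .stab 1151 87 true, .stab 40 87 true,
  .stab 1330 89 true, .stab 95 87 true, .stab 841 87 false, .stab 1075 89 false, .stab 671 87 true, .stab 119 84 false, .stab 806 89 true, .stab 523 89 true,
  .stab 195 84 true, .stab 206 87 true, .stab 436 87 false, .stab 1095 89 true, .stab 951 89 false, .stab 409 84 true, .stab 1271 84 false, .stab 881 87 true,
  .stab 834 89 true, .stab 1306 89 false, .stab 1345 84 true, .stab 231 84 false, .stab 79 87 false, .stab 756 89 true, .stab 974 89 false, .stab 634 87 true,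
  .stab 618 87 false, .stab 528 89 true, .stab 779 87 true, .stab 1323 87 false, .stab 1335 89 false, .stab 1180 87 true, .stab 966 89 true, .stab 1039 89 false,
  .stab 890 84 false, .stab 1305 89 true, .stab 1230 89 false, .stab 1370 89 true, .stab 427 89 false, .stab 245 87 true, .stab 1150 87 false, .stab 1349 89 true,
  .stab 437 87 true, .stab 922 87 false, .stab 728 89 false, .stab 942 87 true, .stab 1234 87 false, .stab 470 87 true, .stab 1149 87 false, .stab 1012 89 true,
  .stab 1385 89 true, .stab 652 89 false, .stab 933 87 true, .stab 692 87 false, .stab 1367 89 true, .stab 422 87 true, .stab 357 87 false, .stab 345 89 false,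
  .stab 763 89 false, .stab 396 87 false, .stab 1379 89 true, .stab 1344 89 false, .stab 1122 87 true, .stab 1272 89 true, .stab 1142 87 true, .stab 134 89 false,
  .stab 1391 89 false, .stab 1008 84 true, .stab 211 89 false, .stab 387 87 false, .stab 385 89 true, .stab 623 84 false, .stab 340 89 true, .stab 77 89 true,
  .stab 1364 87 true, .stab 486 89 false, .stab 374 87 false, .stab 1110 87 true, .stab 395 87 false, .stab 132 87 true, .stab 165 87 false, .stab 704 87 false,
  .stab 92 87 true, .stab 110 87 false, .stab 904 87 false, .stab 316 87 false, .stab 1078 89 true, .stab 1028 89 false, .stab 747 89 true, .stab 364 89 false,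
  .stab 751 84 true, .stab 479 89 true, .stab 1137 89 false, .stab 1342 87 true, .stab 854 87 false, .stab 1201 89 true, .stab 935 87 true, .stab 1288 87 false,
  .stab 278 89 false, .stab 715 87 true, .stab 1108 87 false, .stab 547 87 true, .stab 686 87 false, .stab 979 89 true, .stab 475 89 true, .stab 772 89 false,
  .stab 553 87 true, .stab 469 87 false, .stab 1121 89 true, .stab 473 87 true, .stab 1133 87 false, .stab 146 89 false, .stab 1143 89 false, .stab 1254 87 false,
  .stab 642 89 true, .stab 1138 89 false, .stab 1123 87 true, .stab 619 89 true, .stab 514 87 true, .stab 1067 89 false, .stab 582 84 true, .stab 237 89 false,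
  .stab 118 87 false, .stab 580 84 false, .stab 128 89 true, .stab 171 89 true, .stab 730 87 true, .stab 1172 89 false, .stab 675 89 true, .stab 717 89 false,
  .stab 411 87 true, .stab 666 89 true, .stab 740 87 true, .stab 1235 87 true, .stab 1293 89 true, .stab 620 87 true, .stab 358 89 false, .stab 1326 89 false,
  .stab 782 89 false, .stab 796 89 true, .stab 425 89 true, .stab 1266 89 false, .stab 527 84 true, .stab 865 84 false, .stab 787 89 true, .stab 631 89 false,
  .stab 1054 84 true, .stab 783 84 false, .stab 934 89 true, .stab 626 89 false, .stab 817 84 false, .stab 338 89 true, .stab 776 89 false, .stab 567 89 true,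
  .stab 472 89 false, .stab 681 89 true, .stab 60 89 true, .stab 812 89 false, .stab 1087 84 true, .stab 1273 89 false, .stab 1182 87 false, .stab 1152 89 true,
  .stab 495 84 false, .stab 168 89 true, .stab 663 89 true, .stab 842 89 false, .stab 1256 89 false, .stab 291 89 true, .stab 1358 89 false, .stab 498 89 true,
  .stab 297 89 true, .stab 1082 89 false, .stab 98 87 true, .stab 1227 87 false, .stab 332 89 false, .stab 1245 87 true, .stab 449 89 false, .stab 745 89 false,
  .stab 500 87 false, .stab 884 89 true, .stab 1312 87 true, .stab 737 89 true, .stab 133 87 true, .stab 151 87 false, .stab 701 87 false, .stab 518 87 false,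
  .stab 1097 87 true, .stab 537 87 false, .stab 521 87 false, .stab 1096 87 true, .stab 538 87 false, .stab 187 87 false, .stab 581 89 true, .stab 636 89 false,
  .stab 1086 89 true, .stab 200 89 false, .stab 534 84 true, .stab 786 89 true, .stab 558 89 false, .stab 1144 87 true, .stab 99 87 false, .stab 131 89 true,
  .stab 845 87 true, .stab 612 87 false, .stab 809 89 false, .stab 465 87 true, .stab 315 87 false, .stab 1196 87 true, .stab 564 87 false, .stab 1279 89 true,
  .stab 749 89 true, .stab 368 89 false, .stab 1341 87 true, .stab 493 87 false, .stab 1200 89 true, .stab 931 87 true, .stab 1282 87 false, .stab 273 89 false,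
  .stab 771 89 false, .stab 906 87 false, .stab 302 89 true, .stab 698 89 false, .stab 794 87 true, .stab 58 89 true, .stab 688 87 true, .stab 1240 89 false,
  .stab 1286 89 false, .stab 571 84 true, .stab 249 87 false, .stab 216 84 false, .stab 669 89 true, .stab 255 89 true, .stab 676 87 true, .stab 866 89 false,
  .stab 170 89 true, .stab 1070 89 false, .stab 1365 87 true, .stab 938 89 true, .stab 971 87 true, .stab 1147 87 true, .stab 290 89 true, .stab 978 87 true,
  .stab 1388 89 false, .stab 813 89 false, .stab 718 87 false, .stab 214 89 true, .stab 300 89 true, .stab 174 89 true, .stab 1085 89 false, .stab 543 84 true,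
  .stab 1265 84 false, .stab 471 89 false, .stab 683 84 true, .stab 714 84 false, .stab 1132 89 true, .stab 556 89 false, .stab 1111 84 false, .stab 694 89 true,
  .stab 1129 89 false, .stab 506 89 true, .stab 490 89 false, .stab 576 89 true, .stab 424 89 true, .stab 1324 89 false, .stab 736 84 true, .stab 1311 89 false,
  .stab 501 87 false, .stab 1237 84 false, .stab 1244 89 true, .stab 1055 89 true, .stab 499 89 false, .stab 695 89 true, .stab 542 89 false, .stab 251 89 true,
  .stab 1042 89 false, .stab 670 87 true, .stab 1346 87 false, .stab 853 89 false, .stab 621 87 true, .stab 1255 89 false, .stab 1023 89 false, .stab 839 87 false,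
  .stab 555 89 true, .stab 148 87 true, .stab 253 87 false, .stab 948 89 true, .stab 221 87 true, .stab 823 89 true, .stab 350 87 true, .stab 371 87 false,
  .stab 1107 87 true, .stab 394 87 false, .stab 279 87 false, .stab 444 89 true, .stab 442 89 false, .stab 1262 89 true, .stab 292 89 false, .stab 380 84 true,
  .stab 980 89 true, .stab 843 89 false, .stab 1195 87 true, .stab 140 87 false, .stab 87 89 true, .stab 635 87 true, .stab 851 87 false, .stab 1001 89 false,
  .stab 602 87 true, .stab 224 87 false, .stab 1329 87 true, .stab 430 87 false, .stab 1117 89 true, .stab 945 89 true, .stab 515 89 false, .stab 1215 87 true,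
  .stab 628 87 false, .stab 1177 89 true, .stab 739 87 true, .stab 1126 87 false, .stab 186 89 false, .stab 967 89 false, .stab 720 87 false, .stab 207 89 true,
  .stab 899 89 false, .stab 988 87 true, .stab 39 89 true, .stab 893 87 true, .stab 1059 89 false, .stab 1106 89 false, .stab 429 84 true, .stab 157 87 false,
  .stab 308 84 false, .stab 876 89 true, .stab 163 89 true, .stab 883 87 true, .stab 653 89 false, .stab 262 89 true, .stab 1248 89 false, .stab 1355 87 true,
  .stab 1228 89 true, .stab 1220 87 true, .stab 1297 87 true, .stab 199 89 true, .stab 785 87 true, .stab 1350 89 false, .stab 1005 89 false, .stab 918 87 false,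
  .stab 306 89 true, .stab 205 89 true, .stab 266 89 true, .stab 1261 89 false, .stab 404 84 true, .stab 1076 84 false, .stab 608 89 false, .stab 888 84 true,
  .stab 914 84 false, .stab 1290 89 true, .stab 414 89 false, .stab 1275 84 false, .stab 640 89 true, .stab 1289 89 false, .stab 367 89 true, .stab 625 89 false,
  .stab 439 89 true, .stab 562 89 true, .stab 1190 89 false, .stab 932 84 true, .stab 1168 89 false, .stab 351 87 false, .stab 1048 84 false, .stab 1066 89 true,
  .stab 1238 89 true, .stab 347 89 false, .stab 725 89 true, .stab 403 89 false, .stab 159 89 true, .stab 837 89 false, .stab 877 87 true, .stab 1135 87 false,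
  .stab 644 89 false, .stab 483 87 true, .stab 1090 89 false, .stab 825 89 false, .stab 654 87 false, .stab 413 89 true, .stab 105 87 true, .stab 161 87 false,
  .stab 757 89 true, .stab 313 87 true, .stab 1015 89 true, .stab 234 87 true, .stab 91 87 true, .stab 257 87 false, .stab 901 87 false, .stab 274 87 false,
  .stab 443 89 true, .stab 846 89 false, .stab 1263 89 true, .stab 342 89 false, .stab 389 84 true, .stab 981 89 true, .stab 419 89 false, .stab 1197 87 true,
  .stab 160 87 false, .stab 90 89 true, .stab 579 87 true, .stab 476 87 false, .stab 976 89 false, .stab 599 87 true, .stab 223 87 false, .stab 1328 87 true,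
  .stab 426 87 false, .stab 1115 89 true, .stab 943 89 true, .stab 511 89 false, .stab 1214 87 true, .stab 645 87 false, .stab 1176 89 true, .stab 735 87 true,
  .stab 1118 87 false, .stab 181 89 false, .stab 968 89 false, .stab 706 87 false, .stab 210 89 true, .stab 894 89 false, .stab 991 87 true, .stab 37 89 true,
  .stab 898 87 true, .stab 1057 89 false, .stab 1124 89 false, .stab 433 84 true, .stab 135 87 false, .stab 348 84 false, .stab 870 89 true, .stab 149 89 true,
  .stab 882 87 true, .stab 658 89 false, .stab 263 89 true, .stab 1246 89 false, .stab 1354 87 true, .stab 742 89 true, .stab 775 87 true, .stab 1295 87 true,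
  .stab 198 89 true, .stab 784 87 true, .stab 1320 89 false, .stab 1004 89 false, .stab 917 87 false, .stab 346 89 true, .stab 208 89 true, .stab 260 89 true,
  .stab 1258 89 false, .stab 400 84 true, .stab 1089 84 false, .stab 606 89 false, .stab 891 84 true, .stab 915 84 false, .stab 1291 89 true, .stab 417 89 false,
  .stab 1274 84 false, .stab 609 89 true, .stab 1285 89 false, .stab 359 89 true, .stab 550 89 false, .stab 438 89 true, .stab 563 89 true, .stab 1188 89 false,
  .stab 936 84 true, .stab 1166 89 false, .stab 329 87 false, .stab 1051 84 false, .stab 1065 89 true, .stab 1239 89 true, .stab 307 89 false, .stab 724 89 true,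
  .stab 399 89 false, .stab 139 89 true, .stab 1232 89 false, .stab 873 87 true, .stab 1224 87 false, .stab 624 89 false, .stab 485 87 true, .stab 1077 89 false,
  .stab 831 89 false, .stab 659 87 false, .stab 416 89 true, .stab 107 87 true, .stab 141 87 false, .stab 752 89 true, .stab 314 87 true, .stab 940 89 true,
  .stab 447 87 true, .stab 1405 89 false, .stab 482 87 true, .stab 961 87 false, .stab 1187 87 true, .stab 820 87 false, .stab 276 89 false, .stab 1207 89 false,
  .stab 1181 89 false, .stab 551 89 false, .stab 327 87 true, .stab 1046 84 true, .stab 1109 84 false, .stab 830 89 true, .stab 204 89 false, .stab 603 84 true,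
  .stab 545 84 false, .stab 753 89 true, .stab 886 89 false, .stab 746 84 false, .stab 513 89 true, .stab 610 89 true, .stab 1333 89 false, .stab 446 89 false,
  .stab 1296 84 true, .stab 552 89 false, .stab 1068 87 false, .stab 840 89 true, .stab 175 89 false, .stab 1105 87 true, .stab 1371 87 true, .stab 650 87 true,
  .stab 497 87 false, .stab 729 89 true, .stab 734 87 true, .stab 1216 89 true, .stab 1212 87 true, .stab 1368 89 false, .stab 488 89 true, .stab 325 89 false,
  .stab 923 89 true, .stab 93 87 true, .stab 525 87 false, .stab 535 89 true, .stab 1374 87 true, .stab 849 89 true, .stab 1174 89 true, .stab 215 87 true,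
  .stab 448 89 true, .stab 1029 87 true, .stab 1017 87 true, .stab 761 87 false, .stab 328 89 true, .stab 1300 89 false, .stab 489 87 true, .stab 758 87 true,
  .stab 829 87 false, .stab 733 89 false, .stab 647 89 false, .stab 1071 89 false, .stab 810 89 false, .stab 838 89 true, .stab 1243 84 true, .stab 815 84 false,
  .stab 502 89 true, .stab 268 84 true, .stab 1069 84 false, .stab 799 89 true, .stab 363 84 false, .stab 1158 89 true, .stab 847 89 false, .stab 892 89 true,
  .stab 826 89 false, .stab 281 89 false, .stab 1208 89 false, .stab 457 84 true, .stab 554 89 false, .stab 109 87 false, .stab 450 89 true, .stab 1334 89 false,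
  .stab 1179 89 false, .stab 334 89 true, .stab 848 87 false, .stab 1397 89 true, .stab 324 87 true, .stab 219 89 true, .stab 451 87 true, .stab 1217 89 true,
  .stab 705 89 false, .stab 633 89 true, .stab 895 89 false, .stab 408 89 true, .stab 169 87 true, .stab 1369 87 false, .stab 1213 89 true, .stab 418 89 true,
  .stab 1378 89 true, .stab 1094 87 true, .stab 919 89 true, .stab 963 87 true, .stab 1120 89 false, .stab 235 89 true, .stab 1154 89 false, .stab 344 87 true,
  .stab 954 87 true, .stab 1021 87 false, .stab 929 89 false, .stab 856 89 false, .stab 1249 89 false, .stab 1002 89 false, .stab 1030 89 true, .stab 1060 84 true,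
  .stab 1007 84 false, .stab 352 89 true, .stab 172 84 true, .stab 1045 84 false, .stab 992 89 true, .stab 510 84 false, .stab 1303 89 true, .stab 637 89 false,
  .stab 684 89 true, .stab 1018 89 false, .stab 184 89 false, .stab 1193 89 false, .stab 594 84 true, .stab 412 89 false, .stab 150 87 false, .stab 587 89 true,
  .stab 1205 89 false, .stab 1318 89 false, .stab 240 89 true, .stab 638 87 false, .stab 1348 89 true, .stab 233 87 true, .stab 311 89 true, .stab 588 87 true,
  .stab 1127 89 true, .stab 905 89 false, .stab 423 89 true, .stab 677 89 false, .stab 549 89 true, .stab 261 87 true, .stab 1359 87 false, .stab 1340 89 true,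
  .stab 557 89 true, .stab 1386 89 true, .stab 1034 87 true, .stab 723 89 true, .stab 769 87 true, .stab 1283 89 false, .stab 236 89 true, .stab 1155 89 false,
  .stab 296 87 true, .stab 949 87 true, .stab 1022 87 false, .stab 930 89 false, .stab 859 89 false, .stab 1247 89 false, .stab 999 89 false, .stab 925 89 true,
  .stab 1061 84 true, .stab 1010 84 false, .stab 330 89 true, .stab 176 84 true, .stab 1044 84 false, .stab 993 89 true, .stab 509 84 false, .stab 1304 89 true,
  .stab 583 89 false, .stab 687 89 true, .stab 1020 89 false, .stab 189 89 false, .stab 1192 89 false, .stab 595 84 true, .stab 415 89 false, .stab 164 87 false,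
  .stab 586 89 true, .stab 1206 89 false, .stab 1317 89 false, .stab 242 89 true, .stab 584 87 false, .stab 1315 89 true, .stab 232 87 true, .stab 349 89 true,
  .stab 639 87 true, .stab 1119 89 true, .stab 902 89 false, .stab 696 89 true, .stab 690 89 false, .stab 585 89 true, .stab 267 87 true, .stab 1360 87 false,
  .stab 1339 89 true, .stab 630 89 true, .stab 1387 89 true, .stab 941 87 true, .stab 719 89 true, .stab 767 87 true, .stab 1284 89 false, .stab 108 89 true,
  .stab 577 89 true, .stab 965 89 false, .stab 862 89 false, .stab 1056 87 true, .stab 760 89 true, .stab 1389 89 true, .stab 731 87 true, .stab 824 89 false,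
  .stab 956 89 true, .stab 1353 89 true, .stab 927 87 true, .stab 1016 89 false, .stab 957 89 true, .stab 1347 89 true, .stab 926 87 true, .stab 1040 89 false]

/-- covering of the points at node 7 -/
def cov7 : List Step := [
  .edge 4 103, .edge 3 119, .edge 0 109, .edge 16 125, .edge 2 117, .edge 7 121, .edge 8 127, .edge 9 131,
  .edge 10 133, .edge 17 139, .edge 6 141, .edge 12 147, .edge 52 151, .edge 22 155, .edge 39 159, .edge 27 163,
  .edge 5 165, .edge 23 167, .edge 13 169, .edge 1 171, .edge 44 173, .edge 94 175, .edge 14 177, .edge 65 179,
  .edge 76 181, .edge 37 183, .edge 25 193, .edge 15 199, .edge 43 202, .edge 11 208, .stab 254 116 true, .stab 67 116 true,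
  .stab 28 118 true, .stab 101 116 true, .stab 677 116 true, .stab 596 118 true, .stab 996 118 false, .stab 283 124 true, .stab 395 124 false, .stab 464 126 true,
  .stab 162 116 true, .stab 72 116 true, .stab 165 118 true, .stab 20 126 true, .stab 21 116 true, .stab 373 118 true, .stab 869 118 false, .stab 710 124 true,
  .stab 68 116 true, .stab 29 118 true, .stab 120 116 true, .stab 110 118 true, .stab 30 126 true, .stab 513 116 true, .stab 54 118 true, .stab 50 126 true,
  .stab 46 116 true, .stab 18 118 true, .stab 51 116 true, .stab 257 118 true, .stab 34 126 true, .stab 561 116 true, .stab 532 118 true, .stab 673 118 false,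
  .stab 287 124 true, .stab 985 124 false, .stab 455 126 true, .stab 79 116 true, .stab 151 118 true, .stab 55 126 true, .stab 246 116 true, .stab 593 118 true,
  .stab 164 118 false, .stab 917 124 true, .stab 387 126 true, .stab 357 116 true, .stab 33 118 true, .stab 71 126 true, .stab 47 116 true, .stab 19 118 true,
  .stab 56 116 true, .stab 370 118 true, .stab 868 118 false, .stab 707 124 true, .stab 35 116 true, .stab 517 118 true, .stab 662 118 false, .stab 907 124 true,
  .stab 142 116 true, .stab 779 116 true, .stab 316 118 true, .stab 1293 118 false, .stab 544 124 true, .stab 1101 124 false, .stab 1231 126 true, .stab 1122 116 true,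
  .stab 1200 118 true, .stab 1067 118 false, .stab 1178 124 true, .stab 783 124 false, .stab 574 126 true, .stab 108 116 true, .stab 984 118 true, .stab 177 118 false,
  .stab 540 124 true, .stab 180 126 true, .stab 973 116 true, .stab 223 118 true, .stab 1224 118 false, .stab 405 124 true, .stab 1148 124 false, .stab 1038 126 true,
  .stab 972 116 true, .stab 224 118 true, .stab 1135 118 false, .stab 401 124 true, .stab 1272 124 false, .stab 977 126 true, .stab 420 116 true, .stab 592 118 true,
  .stab 150 118 false, .stab 918 124 true, .stab 378 126 true, .stab 163 116 true, .stab 790 118 true, .stab 265 118 false, .stab 397 124 true, .stab 277 126 true,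
  .stab 255 116 true, .stab 983 118 true, .stab 173 118 false, .stab 541 124 true, .stab 185 126 true, .stab 475 116 true, .stab 497 118 true, .stab 651 118 false,
  .stab 555 124 true, .stab 921 124 false, .stab 810 126 true, .stab 31 116 true, .stab 520 118 true, .stab 661 118 false, .stab 910 124 true, .stab 45 118 true,
  .stab 1392 118 true, .stab 1350 118 false, .stab 1329 124 true, .stab 509 124 false, .stab 1080 126 true, .stab 69 118 true, .stab 317 124 true, .stab 227 124 false,
  .stab 398 126 true, .stab 361 124 true, .stab 126 124 false, .stab 536 126 true, .stab 872 118 true, .stab 463 124 true, .stab 42 126 true, .stab 179 118 false,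
  .stab 61 124 false, .stab 260 118 true, .stab 295 126 true, .stab 632 126 true, .stab 57 124 true, .stab 711 124 false, .stab 669 118 true, .stab 1243 118 false,
  .stab 1111 124 true, .stab 1102 124 false, .stab 118 118 true, .stab 174 118 true, .stab 496 126 true, .stab 421 126 true, .stab 38 124 true, .stab 911 124 false,
  .stab 505 118 true, .stab 549 126 true, .stab 119 126 true, .stab 221 124 true, .stab 545 124 false, .stab 77 118 true, .stab 168 118 true, .stab 203 126 true,
  .stab 699 126 true, .stab 36 124 true, .stab 908 124 false, .stab 948 118 true, .stab 754 118 false, .stab 553 124 true, .stab 440 124 false, .stab 979 126 true,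
  .stab 695 118 true, .stab 297 124 true, .stab 554 124 false, .stab 60 126 true, .stab 152 124 true, .stab 621 124 false, .stab 1371 126 true, .stab 384 118 true,
  .stab 468 124 true, .stab 372 126 true, .stab 501 118 false, .stab 709 126 true, .stab 1331 124 true, .stab 266 118 true, .stab 343 126 true, .stab 559 126 true,
  .stab 59 124 true, .stab 708 124 false, .stab 785 118 true, .stab 744 118 false, .stab 558 124 true, .stab 752 126 true, .stab 1366 118 true, .stab 1203 124 true,
  .stab 80 126 true, .stab 1270 124 false, .stab 724 126 true, .stab 1002 118 true, .stab 345 126 true, .stab 205 124 true, .stab 415 124 false, .stab 366 118 true,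
  .stab 448 126 true, .stab 78 126 true, .stab 313 124 true, .stab 396 124 false, .stab 66 118 true, .stab 663 118 true, .stab 1242 118 false, .stab 1108 124 true,
  .stab 1098 124 false, .stab 870 118 true, .stab 1061 118 false, .stab 1274 124 true, .stab 1063 124 false, .stab 1365 118 true, .stab 627 118 false, .stab 1027 124 true,
  .stab 215 124 false, .stab 1156 126 true, .stab 577 118 true, .stab 733 124 true, .stab 478 124 false, .stab 533 126 true, .stab 137 124 true, .stab 275 124 false,
  .stab 750 126 true, .stab 1299 118 true, .stab 760 124 true, .stab 1092 126 true, .stab 855 118 false, .stab 249 124 true, .stab 527 124 false, .stab 932 118 true,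
  .stab 245 118 false, .stab 476 124 true, .stab 1157 124 false, .stab 302 126 true, .stab 906 118 true, .stab 1241 124 true, .stab 336 124 false, .stab 848 126 true,
  .stab 751 124 true, .stab 1208 124 false, .stab 795 126 true, .stab 731 118 true, .stab 534 124 true, .stab 1073 126 true, .stab 526 118 false, .stab 117 126 true,
  .stab 774 124 true, .stab 693 124 false, .stab 1184 118 true, .stab 1219 118 false, .stab 1033 124 true, .stab 1209 126 true, .stab 1097 118 true, .stab 806 124 true,
  .stab 225 126 true, .stab 901 124 false, .stab 104 126 true, .stab 598 118 true, .stab 459 126 true, .stab 85 124 true, .stab 507 124 false, .stab 1355 118 true,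
  .stab 491 118 false, .stab 836 124 true, .stab 307 124 false, .stab 1301 126 true, .stab 438 118 true, .stab 929 124 true, .stab 614 124 false, .stab 379 126 true,
  .stab 97 124 true, .stab 188 124 false, .stab 946 126 true, .stab 1155 118 true, .stab 956 124 true, .stab 1131 126 true, .stab 646 118 false, .stab 157 124 true,
  .stab 389 124 false, .stab 1354 118 true, .stab 492 118 false, .stab 835 124 true, .stab 347 124 false, .stab 1302 126 true, .stab 439 118 true, .stab 930 124 true,
  .stab 613 124 false, .stab 388 126 true, .stab 96 124 true, .stab 183 124 false, .stab 947 126 true, .stab 1154 118 true, .stab 957 124 true, .stab 1130 126 true,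
  .stab 629 118 false, .stab 135 124 true, .stab 380 124 false, .stab 784 118 true, .stab 823 118 false, .stab 631 124 true, .stab 757 126 true, .stab 1367 118 true,
  .stab 1204 124 true, .stab 73 126 true, .stab 1268 124 false, .stab 725 126 true, .stab 999 118 true, .stab 305 126 true, .stab 208 124 true, .stab 412 124 false,
  .stab 1322 118 true, .stab 1298 118 false, .stab 1229 124 true, .stab 1335 126 true, .stab 1107 118 true, .stab 997 124 true, .stab 312 126 true, .stab 701 124 false,
  .stab 147 126 true, .stab 461 118 true, .stab 591 126 true, .stab 129 124 true, .stab 360 124 false, .stab 1186 118 true, .stab 1151 118 false, .stab 939 124 true,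
  .stab 1207 126 true, .stab 1096 118 true, .stab 805 124 true, .stab 220 126 true, .stab 904 124 false, .stab 106 126 true, .stab 601 118 true, .stab 454 126 true,
  .stab 88 124 true, .stab 508 124 false, .stab 1386 118 true, .stab 1308 118 false, .stab 1315 124 true, .stab 858 124 false, .stab 1212 126 true, .stab 146 118 true,
  .stab 144 124 true, .stab 465 124 false, .stab 717 126 true, .stab 171 124 true, .stab 273 124 false, .stab 250 126 true, .stab 962 118 true, .stab 809 124 true,
  .stab 98 126 true, .stab 375 118 false, .stab 551 126 true, .stab 381 124 false, .stab 876 118 true, .stab 1060 118 false, .stab 1275 124 true, .stab 1062 124 false,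
  .stab 141 118 true, .stab 407 124 true, .stab 1134 124 false, .stab 743 126 true, .stab 1043 124 true, .stab 887 124 false, .stab 267 126 true, .stab 1253 118 true,
  .stab 1225 124 true, .stab 833 126 true, .stab 1382 118 false, .stab 1228 124 false, .stab 374 124 true, .stab 377 124 false, .stab 998 126 true, .stab 272 118 true,
  .stab 132 124 true, .stab 789 126 true, .stab 704 124 true, .stab 24 124 false, .stab 655 118 false, .stab 1110 124 true, .stab 145 124 false, .stab 340 126 true,
  .stab 217 124 true, .stab 400 124 false, .stab 452 124 true, .stab 282 124 false, .stab 566 118 true, .stab 703 126 true, .stab 516 118 false, .stab 1369 124 false,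
  .stab 196 126 true, .stab 309 124 true, .stab 543 124 false, .stab 589 124 true, .stab 193 124 false, .stab 432 118 true, .stab 903 126 true, .stab 365 118 false,
  .stab 585 126 true, .stab 449 124 true, .stab 716 124 false, .stab 222 124 true, .stab 539 124 false, .stab 298 118 true, .stab 865 126 true, .stab 867 118 false,
  .stab 358 126 true, .stab 310 124 true, .stab 547 124 false, .stab 590 124 true, .stab 190 124 false, .stab 428 118 true, .stab 900 126 true, .stab 369 118 false,
  .stab 1040 118 true, .stab 1261 124 true, .stab 1053 124 false, .stab 338 126 true, .stab 349 124 true, .stab 899 124 false, .stab 1094 126 true, .stab 1146 118 true,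
  .stab 780 124 true, .stab 687 126 true, .stab 493 118 false, .stab 1051 126 true, .stab 1263 124 true, .stab 248 124 true, .stab 1056 124 false, .stab 109 126 true,
  .stab 666 118 true, .stab 885 124 true, .stab 1330 126 true, .stab 702 118 false, .stab 913 126 true, .stab 718 124 true, .stab 1334 126 true, .stab 546 118 false,
  .stab 390 124 true, .stab 95 124 false, .stab 290 126 true, .stab 251 124 false, .stab 818 126 true, .stab 1116 124 true, .stab 293 124 false, .stab 148 126 true,
  .stab 288 126 true, .stab 218 124 true, .stab 404 124 false, .stab 453 124 true, .stab 285 124 false, .stab 570 118 true, .stab 700 126 true, .stab 512 118 false,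
  .stab 941 118 true, .stab 1087 124 true, .stab 423 126 true, .stab 966 124 false, .stab 1172 126 true, .stab 1339 118 true, .stab 1374 126 true, .stab 1085 124 true,
  .stab 1078 124 false, .stab 409 124 true, .stab 158 124 false, .stab 881 126 true, .stab 107 126 true, .stab 195 124 true, .stab 791 124 false, .stab 90 126 true,
  .stab 134 124 true, .stab 1238 124 false, .stab 64 126 true, .stab 102 124 true, .stab 602 124 false, .stab 877 118 true, .stab 678 124 true, .stab 1202 126 true,
  .stab 905 118 false, .stab 713 126 true, .stab 408 126 true, .stab 586 124 true, .stab 916 124 false, .stab 314 124 true, .stab 402 124 false, .stab 209 118 true,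
  .stab 660 126 true, .stab 657 118 false, .stab 1368 124 false, .stab 1360 124 false, .stab 610 118 true, .stab 490 124 true, .stab 1077 124 false, .stab 1295 126 true,
  .stab 800 124 true, .stab 1267 124 false, .stab 697 126 true, .stab 583 118 true, .stab 1167 124 true, .stab 954 126 true, .stab 756 118 false, .stab 1128 124 true,
  .stab 919 124 false, .stab 1357 124 true, .stab 1407 124 false, .stab 1338 126 true, .stab 1227 118 true, .stab 1277 124 true, .stab 1240 126 true, .stab 1046 118 false,
  .stab 1175 126 true, .stab 975 124 true, .stab 328 124 false, .stab 808 118 false, .stab 1324 126 true, .stab 1265 124 true, .stab 1070 124 false, .stab 1260 126 true,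
  .stab 748 126 true, .stab 1223 124 true, .stab 333 124 false, .stab 1201 118 true, .stab 1179 124 true, .stab 572 126 true, .stab 1068 118 false, .stab 1384 118 true,
  .stab 1189 124 true, .stab 1030 124 false, .stab 200 126 true, .stab 688 124 true, .stab 1222 124 false, .stab 658 126 true, .stab 594 118 true, .stab 923 124 true,
  .stab 442 126 true, .stab 1297 118 false, .stab 778 126 true, .stab 1118 124 true, .stab 622 124 false, .stab 1071 124 true, .stab 197 124 false, .stab 113 126 true,
  .stab 1254 118 true, .stab 1337 124 true, .stab 734 126 true, .stab 327 118 false, .stab 425 126 true, .stab 746 124 true, .stab 1346 126 true, .stab 1006 118 false,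
  .stab 675 124 true, .stab 672 124 false, .stab 331 126 true, .stab 1259 124 false, .stab 315 126 true, .stab 548 124 true, .stab 1105 124 false, .stab 303 118 true,
  .stab 607 124 true, .stab 1326 118 false, .stab 811 126 true, .stab 1112 118 true, .stab 671 124 true, .stab 391 126 true, .stab 1311 124 false, .stab 1120 126 true,
  .stab 1257 118 true, .stab 1404 126 true, .stab 682 124 true, .stab 1233 124 false, .stab 40 124 true, .stab 393 124 false, .stab 523 126 true, .stab 48 126 true,
  .stab 91 124 true, .stab 74 124 true, .stab 864 124 false, .stab 32 126 true, .stab 318 124 false, .stab 518 118 true, .stab 804 124 true, .stab 537 118 false,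
  .stab 422 118 true, .stab 625 124 true, .stab 1255 124 false, .stab 1147 126 true, .stab 776 124 true, .stab 1088 124 false, .stab 898 126 true, .stab 847 118 true,
  .stab 1198 124 true, .stab 753 126 true, .stab 952 118 false, .stab 1152 124 true, .stab 723 124 false, .stab 1363 124 true, .stab 1402 124 false, .stab 1210 126 true,
  .stab 1347 118 true, .stab 1125 124 true, .stab 1059 126 true, .stab 1234 118 false, .stab 1316 126 true, .stab 814 124 true, .stab 235 124 false, .stab 1000 118 false,
  .stab 1190 126 true, .stab 1076 124 true, .stab 1248 124 false, .stab 1083 126 true, .stab 944 126 true, .stab 1345 124 true, .stab 239 124 false, .stab 1176 118 true,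
  .stab 1318 124 true, .stab 436 126 true, .stab 1247 118 false, .stab 474 118 true, .stab 550 124 true, .stab 1266 124 false, .stab 1143 126 true, .stab 777 124 true,
  .stab 1095 124 false, .stab 893 126 true, .stab 445 118 true, .stab 1199 124 true, .stab 758 126 true, .stab 955 118 false, .stab 1153 124 true, .stab 719 124 false,
  .stab 1364 124 true, .stab 1403 124 false, .stab 1211 126 true, .stab 1353 118 true, .stab 1113 124 true, .stab 1057 126 true, .stab 1236 118 false, .stab 1349 126 true,
  .stab 781 124 true, .stab 236 124 false, .stab 1003 118 false, .stab 1188 126 true, .stab 1089 124 true, .stab 1246 124 false, .stab 1084 126 true, .stab 942 126 true,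
  .stab 1352 124 true, .stab 241 124 false, .stab 1177 118 true, .stab 1317 124 true, .stab 434 126 true, .stab 1249 118 false, .stab 1034 118 true, .stab 1086 124 true,
  .stab 696 126 true, .stab 1035 124 false, .stab 824 126 true, .stab 1340 118 true, .stab 1378 126 true, .stab 1082 124 true, .stab 1091 124 false, .stab 410 124 true,
  .stab 136 124 false, .stab 880 126 true, .stab 105 126 true, .stab 192 124 true, .stab 802 124 false, .stab 87 126 true, .stab 156 124 true, .stab 1239 124 false,
  .stab 75 126 true, .stab 103 124 true, .stab 599 124 false, .stab 873 118 true, .stab 691 124 true, .stab 1191 126 true, .stab 902 118 false, .stab 721 126 true,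
  .stab 1149 118 true, .stab 874 124 true, .stab 406 126 true, .stab 1166 124 false, .stab 1284 126 true, .stab 1081 118 true, .stab 1391 126 true, .stab 890 124 true,
  .stab 1031 124 false, .stab 62 124 true, .stab 531 124 false, .stab 376 126 true, .stab 70 126 true, .stab 133 124 true, .stab 115 124 true, .stab 656 124 false,
  .stab 53 126 true, .stab 226 124 false, .stab 371 118 true, .stab 995 124 true, .stab 394 118 false, .stab 1109 118 true, .stab 667 124 true, .stab 382 126 true,
  .stab 1312 124 false, .stab 1121 126 true, .stab 1256 118 true, .stab 1405 126 true, .stab 685 124 true, .stab 841 124 false, .stab 41 124 true, .stab 386 124 false,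
  .stab 524 126 true, .stab 49 126 true, .stab 92 124 true, .stab 63 124 true, .stab 863 124 false, .stab 26 126 true, .stab 319 124 false, .stab 521 118 true,
  .stab 803 124 true, .stab 538 118 false, .stab 334 118 true, .stab 259 124 true, .stab 816 124 false, .stab 419 126 true, .stab 928 124 true, .stab 569 124 false,
  .stab 514 126 true, .stab 937 118 true, .stab 849 124 true, .stab 1014 126 true, .stab 684 118 false, .stab 1052 126 true, .stab 842 124 false, .stab 683 124 true,
  .stab 812 124 false, .stab 1332 126 true, .stab 568 118 true, .stab 291 124 true, .stab 1100 126 true, .stab 1103 124 true, .stab 58 124 false, .stab 705 126 true,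
  .stab 1327 118 false, .stab 1055 126 true, .stab 1372 124 true, .stab 670 126 true, .stab 320 124 false, .stab 284 126 true, .stab 525 124 true, .stab 896 124 false,
  .stab 1114 126 true, .stab 1359 124 false, .stab 1106 124 true, .stab 1066 124 false, .stab 878 126 true, .stab 1336 118 true, .stab 1310 124 true, .stab 1321 126 true,
  .stab 1168 124 true, .stab 149 124 false, .stab 915 118 false, .stab 1276 124 true, .stab 1283 124 false, .stab 269 124 true, .stab 124 124 true, .stab 856 124 false,
  .stab 279 118 true, .stab 176 126 true, .stab 987 118 false, .stab 127 118 true, .stab 81 124 true, .stab 650 124 false, .stab 182 118 true, .stab 268 126 true,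
  .stab 796 118 false, .stab 89 118 true, .stab 450 124 true, .stab 722 124 false, .stab 472 118 true, .stab 368 126 true, .stab 364 118 false, .stab 301 118 true,
  .stab 83 124 true, .stab 647 124 false, .stab 187 118 true, .stab 264 126 true, .stab 793 118 false, .stab 86 118 true, .stab 498 124 true, .stab 1123 124 false,
  .stab 940 126 true, .stab 853 118 true, .stab 1047 124 true, .stab 1279 126 true, .stab 801 118 false, .stab 861 126 true, .stab 843 124 true, .stab 1013 126 true,
  .stab 931 118 false, .stab 418 124 true, .stab 506 124 false, .stab 1291 126 true, .stab 1039 124 false, .stab 1215 126 true, .stab 775 124 true, .stab 350 124 false,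
  .stab 332 126 true, .stab 788 118 false, .stab 278 126 true, .stab 1099 124 false, .stab 782 126 true, .stab 276 126 true, .stab 322 124 true, .stab 170 126 true,
  .stab 116 124 true, .stab 807 118 true, .stab 213 126 true, .stab 1104 124 true, .stab 648 126 true, .stab 462 124 true, .stab 143 124 false, .stab 964 118 false,
  .stab 552 126 true, .stab 131 124 false, .stab 123 124 true, .stab 564 126 true, .stab 686 124 true, .stab 813 124 false, .stab 122 124 true, .stab 859 124 false,
  .stab 274 118 true, .stab 172 126 true, .stab 990 118 false, .stab 130 118 true, .stab 630 124 true, .stab 359 124 false, .stab 951 126 true, .stab 240 126 true,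
  .stab 414 124 true, .stab 634 124 false, .stab 609 126 true, .stab 306 124 true, .stab 1289 124 false, .stab 611 126 true, .stab 167 124 true, .stab 1008 124 false,
  .stab 624 118 true, .stab 1145 124 true, .stab 1115 126 true, .stab 992 118 false, .stab 652 126 true, .stab 1278 126 true, .stab 860 126 true, .stab 111 124 true,
  .stab 485 124 false, .stab 888 124 true, .stab 1004 124 false, .stab 528 118 true, .stab 604 124 true, .stab 522 126 true, .stab 329 118 false, .stab 912 126 true,
  .stab 1007 124 true, .stab 764 124 false, .stab 403 126 true, .stab 1019 118 false, .stab 186 126 true, .stab 413 124 true, .stab 426 118 true, .stab 198 124 true,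
  .stab 1269 126 true, .stab 139 118 false, .stab 1001 126 true, .stab 184 126 true, .stab 230 124 true, .stab 263 126 true, .stab 587 124 true, .stab 922 124 false,
  .stab 348 118 true, .stab 515 126 true, .stab 511 118 false, .stab 206 118 true, .stab 617 124 true, .stab 837 124 false, .stab 567 126 true, .stab 845 118 true,
  .stab 1195 124 true, .stab 1187 126 true, .stab 773 118 false, .stab 1380 126 true, .stab 961 124 true, .stab 980 124 false, .stab 747 118 false, .stab 965 126 true,
  .stab 575 124 true, .stab 503 124 false, .stab 886 126 true, .stab 99 126 true, .stab 968 124 true, .stab 618 124 false, .stab 936 118 true, .stab 851 124 true,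
  .stab 299 126 true, .stab 829 118 false, .stab 1069 126 true, .stab 321 118 false, .stab 335 124 true, .stab 356 126 true, .stab 676 126 true, .stab 258 124 true,
  .stab 304 124 false, .stab 1181 118 true, .stab 1314 124 true, .stab 730 118 false, .stab 603 126 true, .stab 680 126 true, .stab 920 118 false, .stab 792 126 true,
  .stab 1072 124 true, .stab 446 124 false, .stab 668 118 true, .stab 817 124 true, .stab 830 124 true, .stab 852 124 false, .stab 247 126 true, .stab 573 118 true,
  .stab 571 124 true, .stab 411 126 true, .stab 981 118 false, .stab 1159 126 true, .stab 252 124 true, .stab 626 126 true, .stab 959 118 false, .stab 826 124 true,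
  .stab 1140 124 false, .stab 616 126 true, .stab 897 124 false, .stab 1362 126 true, .stab 1028 124 true, .stab 499 124 false, .stab 608 118 true, .stab 535 124 true,
  .stab 963 118 false, .stab 749 126 true, .stab 1313 118 false, .stab 1389 126 true, .stab 1361 124 false, .stab 1406 126 true, .stab 576 126 true, .stab 1287 124 true,
  .stab 1064 118 true, .stab 761 126 true, .stab 138 124 true, .stab 280 124 false, .stab 1049 126 true, .stab 1390 118 false, .stab 1079 124 true, .stab 1300 126 true,
  .stab 477 124 false, .stab 494 118 false, .stab 323 124 true, .stab 938 124 true, .stab 175 124 false, .stab 1244 126 true, .stab 100 126 true, .stab 1165 124 true,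
  .stab 1024 124 true, .stab 715 124 false, .stab 895 126 true, .stab 1319 124 false, .stab 1286 118 true, .stab 1388 124 true, .stab 362 118 false, .stab 665 124 false,
  .stab 270 118 true, .stab 191 126 true, .stab 597 118 false, .stab 479 124 true, .stab 1029 124 false, .stab 433 126 true, .stab 635 118 true, .stab 1138 124 true,
  .stab 1323 126 true, .stab 969 118 false, .stab 1395 126 true, .stab 763 124 true, .stab 787 124 false, .stab 943 118 false, .stab 767 126 true, .stab 435 124 true,
  .stab 353 124 false, .stab 692 126 true, .stab 140 126 true, .stab 771 124 true, .stab 480 124 false, .stab 736 118 true, .stab 642 124 true, .stab 210 126 true,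
  .stab 1021 118 false, .stab 1045 126 true, .stab 231 118 false, .stab 244 124 true, .stab 341 126 true, .stab 883 126 true, .stab 166 124 true, .stab 211 124 false,
  .stab 1192 118 true, .stab 1171 124 true, .stab 926 118 false, .stab 470 126 true, .stab 727 126 true, .stab 706 118 false, .stab 986 126 true, .stab 1250 124 true,
  .stab 584 124 false, .stab 875 118 true, .stab 1009 124 true, .stab 481 124 true, .stab 1042 124 false, .stab 429 126 true, .stab 579 118 true, .stab 1144 124 true,
  .stab 1325 126 true, .stab 1036 118 false, .stab 1396 126 true, .stab 765 124 true, .stab 786 124 false, .stab 945 118 false, .stab 769 126 true, .stab 437 124 true,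
  .stab 337 124 false, .stab 679 126 true, .stab 160 126 true, .stab 772 124 true, .stab 482 124 false, .stab 740 118 true, .stab 612 124 true, .stab 207 126 true,
  .stab 1022 118 false, .stab 1044 126 true, .stab 229 118 false, .stab 243 124 true, .stab 289 126 true, .stab 882 126 true, .stab 154 124 true, .stab 212 124 false,
  .stab 1193 118 true, .stab 1173 124 true, .stab 927 118 false, .stab 466 126 true, .stab 728 126 true, .stab 720 118 false, .stab 989 126 true, .stab 1251 124 true,
  .stab 638 124 false, .stab 879 118 true, .stab 970 124 true, .stab 557 124 true, .stab 367 124 false, .stab 950 126 true, .stab 242 126 true, .stab 417 124 true,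
  .stab 578 124 false, .stab 640 126 true, .stab 346 124 true, .stab 1285 124 false, .stab 641 126 true, .stab 155 124 true, .stab 1011 124 false, .stab 644 118 true,
  .stab 1141 124 true, .stab 1117 126 true, .stab 993 118 false, .stab 649 126 true, .stab 1280 126 true, .stab 857 126 true, .stab 112 124 true, .stab 483 124 false,
  .stab 891 124 true, .stab 1005 124 false, .stab 529 118 true, .stab 605 124 true, .stab 519 126 true, .stab 351 118 false, .stab 909 126 true, .stab 1010 124 true,
  .stab 762 124 false, .stab 399 126 true, .stab 982 118 false, .stab 181 126 true, .stab 416 124 true, .stab 430 118 true, .stab 199 124 true, .stab 1271 126 true,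
  .stab 159 118 false, .stab 976 126 true, .stab 189 126 true, .stab 228 124 true, .stab 262 126 true, .stab 742 124 true, .stab 261 124 false, .stab 1065 126 true,
  .stab 161 126 true, .stab 1309 124 true, .stab 832 124 true, .stab 914 124 false, .stab 690 126 true, .stab 1180 124 false, .stab 1124 118 true, .stab 1320 124 true,
  .stab 510 118 false, .stab 871 124 false, .stab 178 118 true, .stab 286 126 true, .stab 460 118 false, .stab 1032 124 true, .stab 169 124 false, .stab 1245 126 true,
  .stab 253 126 true, .stab 1164 124 true, .stab 1025 124 true, .stab 714 124 false, .stab 884 126 true, .stab 1292 124 false, .stab 1273 118 true, .stab 1182 124 true,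
  .stab 363 118 false, .stab 664 124 false, .stab 271 118 true, .stab 194 126 true, .stab 600 118 false, .stab 1370 124 true, .stab 1160 124 false, .stab 1262 126 true,
  .stab 1017 118 true, .stab 1290 124 true, .stab 797 126 true, .stab 770 124 true, .stab 354 124 false, .stab 799 126 true, .stab 1281 118 false, .stab 1129 126 true,
  .stab 745 124 true, .stab 488 126 true, .stab 582 124 false, .stab 556 126 true, .stab 953 124 true, .stab 1050 124 false, .stab 1220 126 true, .stab 827 126 true,
  .stab 958 126 true, .stab 456 124 true, .stab 294 126 true, .stab 383 126 true, .stab 1333 124 true, .stab 256 124 true, .stab 128 126 true, .stab 237 124 true,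
  .stab 300 126 true, .stab 681 124 true, .stab 674 126 true, .stab 619 124 true, .stab 153 124 false, .stab 125 126 true, .stab 467 124 true, .stab 121 124 false,
  .stab 281 126 true, .stab 712 124 false, .stab 1343 124 true, .stab 232 118 true, .stab 324 118 true, .stab 216 118 true, .stab 325 118 true, .stab 840 118 false,
  .stab 565 126 true, .stab 1221 124 false, .stab 451 126 true, .stab 204 126 true, .stab 581 124 true, .stab 934 126 true, .stab 850 124 true, .stab 1213 118 true,
  .stab 1387 126 true, .stab 794 124 true, .stab 1306 126 true, .stab 819 124 true, .stab 114 124 false, .stab 933 118 false, .stab 1348 126 true, .stab 694 124 false,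
  .stab 238 124 true, .stab 1023 126 true, .stab 1376 124 true, .stab 1162 124 false, .stab 960 124 true, .stab 233 118 true, .stab 1037 126 true, .stab 1161 126 true,
  .stab 500 124 true, .stab 698 124 false, .stab 1401 124 true, .stab 1305 124 false, .stab 1294 118 true, .stab 924 124 true, .stab 889 126 true, .stab 645 118 false,
  .stab 1235 126 true, .stab 1341 124 true, .stab 1127 124 false, .stab 735 126 true, .stab 654 118 false, .stab 427 126 true, .stab 1397 124 true, .stab 831 118 true,
  .stab 1133 124 true, .stab 991 126 true, .stab 1093 118 false, .stab 639 126 true, .stab 344 126 true, .stab 443 124 true, .stab 738 126 true, .stab 82 124 true,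
  .stab 1206 126 true, .stab 768 124 true, .stab 201 124 false, .stab 308 118 true, .stab 1136 126 true, .stab 1026 118 false, .stab 925 124 true, .stab 487 126 true,
  .stab 828 126 true, .stab 504 124 true, .stab 606 124 false, .stab 1356 118 true, .stab 1375 124 true, .stab 595 118 false, .stab 530 126 true, .stab 620 126 true,
  .stab 1385 118 false, .stab 653 126 true, .stab 846 124 true, .stab 495 124 false, .stab 1139 118 true, .stab 1126 124 true, .stab 424 126 true, .stab 1379 118 false,
  .stab 441 126 true, .stab 1381 124 false, .stab 1232 126 true, .stab 560 126 true, .stab 1197 124 true, .stab 1137 118 true, .stab 1169 126 true, .stab 798 124 true,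
  .stab 1264 124 false, .stab 1230 126 true, .stab 967 118 false, .stab 949 124 true, .stab 637 126 true, .stab 1090 124 false, .stab 759 118 false, .stab 1041 124 true,
  .stab 1358 124 true, .stab 1075 124 false, .stab 1399 118 true, .stab 1196 126 true, .stab 1058 118 false, .stab 1183 126 true, .stab 1170 118 false, .stab 838 124 true,
  .stab 623 126 true, .stab 1020 126 true, .stab 355 124 true, .stab 471 124 false, .stab 1351 118 true, .stab 1394 124 true, .stab 457 118 false, .stab 392 126 true,
  .stab 486 126 true, .stab 1377 118 false, .stab 862 126 true, .stab 636 124 true, .stab 342 124 false, .stab 1150 118 true, .stab 1288 124 true, .stab 562 126 true,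
  .stab 1185 126 true, .stab 834 118 false, .stab 729 124 true, .stab 643 126 true, .stab 1018 126 true, .stab 339 124 true, .stab 469 124 false, .stab 1344 118 true,
  .stab 1393 124 true, .stab 458 118 false, .stab 385 126 true, .stab 484 126 true, .stab 1373 118 false, .stab 866 126 true, .stab 580 124 true, .stab 292 124 false,
  .stab 1218 118 true, .stab 1282 124 true, .stab 563 126 true, .stab 971 126 true, .stab 1163 126 true, .stab 219 124 true, .stab 689 124 false, .stab 1400 124 true,
  .stab 1307 124 false, .stab 1296 118 true, .stab 974 124 true, .stab 892 126 true, .stab 628 118 false, .stab 1237 126 true, .stab 1342 124 true, .stab 1119 124 false,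
  .stab 739 126 true, .stab 659 118 false, .stab 431 126 true, .stab 1174 124 true, .stab 825 118 true, .stab 1132 124 true, .stab 988 126 true, .stab 822 118 false,
  .stab 588 126 true, .stab 296 126 true, .stab 444 124 true, .stab 732 126 true, .stab 84 124 true, .stab 1205 126 true, .stab 766 124 true, .stab 202 124 false,
  .stab 1252 124 false, .stab 1383 118 true, .stab 1328 126 true, .stab 1226 118 false, .stab 1074 124 false, .stab 1398 118 true, .stab 1194 126 true, .stab 1054 118 false,
  .stab 839 126 true, .stab 1217 126 true, .stab 978 124 true, .stab 326 126 true, .stab 1142 126 true, .stab 1012 124 true, .stab 1015 124 true, .stab 473 126 true,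
  .stab 854 124 true, .stab 1258 126 true, .stab 1016 124 true, .stab 755 126 true, .stab 894 124 true, .stab 311 124 false, .stab 502 126 true, .stab 726 124 true,
  .stab 633 124 false, .stab 489 126 true, .stab 1048 124 false, .stab 542 124 false, .stab 93 124 false, .stab 815 124 true, .stab 994 118 true, .stab 1216 124 true,
  .stab 352 124 true, .stab 821 126 true, .stab 737 124 true, .stab 447 124 false, .stab 1158 126 true, .stab 615 124 true, .stab 1303 126 true, .stab 1304 126 true,
  .stab 330 124 true, .stab 820 126 true, .stab 741 124 true, .stab 234 124 false, .stab 935 124 false, .stab 214 124 false, .stab 1214 124 true, .stab 844 118 true]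

/-- covering of the points at node 8 -/
def cov8 : List Step := [
  .edge 3 188, .edge 8 206, .edge 2 195, .edge 1 197, .edge 0 200, .edge 7 204, .edge 42 207, .stab 322 186 true,
  .stab 60 186 false, .stab 702 187 true, .stab 885 187 false, .stab 634 205 true, .stab 1325 205 false, .stab 525 186 true, .stab 814 186 false, .stab 977 187 true,
  .stab 674 187 false, .stab 737 205 true, .stab 1301 205 false, .stab 538 186 true, .stab 904 186 false, .stab 106 187 true, .stab 386 187 false, .stab 680 205 true,
  .stab 1114 205 false, .stab 537 186 true, .stab 901 186 false, .stab 104 187 true, .stab 393 187 false, .stab 693 205 true, .stab 1116 205 false, .stab 394 186 true,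
  .stab 701 186 false, .stab 147 187 true, .stab 531 187 false, .stab 727 205 true, .stab 1278 205 false, .stab 1104 186 true, .stab 760 186 false, .stab 239 187 true,
  .stab 1072 187 false, .stab 852 205 true, .stab 1393 205 false, .stab 1068 186 true, .stab 921 186 false, .stab 1349 187 true, .stab 1405 187 false, .stab 925 205 true,
  .stab 1123 205 false, .stab 689 186 true, .stab 371 187 true, .stab 89 187 false, .stab 203 205 true, .stab 766 205 false, .stab 953 186 false, .stab 423 187 true,
  .stab 931 187 false, .stab 555 205 true, .stab 461 186 true, .stab 110 186 false, .stab 755 187 true, .stab 650 205 true, .stab 380 205 false, .stab 448 186 true,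
  .stab 631 187 false, .stab 939 205 true, .stab 313 205 false, .stab 45 186 true, .stab 909 186 false, .stab 564 187 false, .stab 815 186 true, .stab 1065 187 true,
  .stab 560 186 true, .stab 1384 187 true, .stab 786 187 false, .stab 50 205 true, .stab 543 205 false, .stab 319 186 false, .stab 18 187 true, .stab 1195 187 false,
  .stab 795 205 true, .stab 967 186 true, .stab 1153 186 false, .stab 1096 187 true, .stab 224 205 true, .stab 1058 205 false, .stab 114 186 true, .stab 1136 187 false,
  .stab 731 205 true, .stab 100 205 false, .stab 217 186 true, .stab 174 186 false, .stab 599 187 false, .stab 855 186 true, .stab 577 187 true, .stab 603 186 true,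
  .stab 1007 187 true, .stab 274 187 false, .stab 632 205 true, .stab 1267 205 false, .stab 938 186 false, .stab 288 187 true, .stab 186 187 false, .stab 85 205 true,
  .stab 888 186 true, .stab 79 186 false, .stab 895 187 true, .stab 708 205 true, .stab 1012 205 false, .stab 407 186 true, .stab 751 187 false, .stab 1158 205 true,
  .stab 317 205 false, .stab 162 186 true, .stab 749 186 false, .stab 630 187 false, .stab 518 186 true, .stab 611 187 true, .stab 607 186 true, .stab 1010 187 true,
  .stab 279 187 false, .stab 559 205 true, .stab 1264 205 false, .stab 1032 186 false, .stab 340 187 true, .stab 181 187 false, .stab 88 205 true, .stab 891 186 true,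
  .stab 72 186 false, .stab 884 187 true, .stab 711 205 true, .stab 1013 205 false, .stab 406 186 true, .stab 750 187 false, .stab 1159 205 true, .stab 312 205 false,
  .stab 142 186 true, .stab 747 186 false, .stab 557 187 false, .stab 521 186 true, .stab 641 187 true, .stab 470 186 true, .stab 818 187 true, .stab 187 187 false,
  .stab 421 205 true, .stab 1088 205 false, .stab 1228 186 false, .stab 358 187 true, .stab 278 187 false, .stab 126 205 true, .stab 686 186 true, .stab 51 186 false,
  .stab 677 187 true, .stab 908 205 true, .stab 821 205 false, .stab 382 186 true, .stab 947 187 false, .stab 1303 205 true, .stab 220 205 false, .stab 101 186 true,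
  .stab 945 186 false, .stab 418 187 false, .stab 374 186 true, .stab 850 187 true, .stab 1401 186 true, .stab 637 187 true, .stab 566 187 false, .stab 584 205 true,
  .stab 876 205 false, .stab 980 186 false, .stab 292 187 true, .stab 332 187 false, .stab 321 205 true, .stab 932 186 true, .stab 1373 186 false, .stab 26 187 true,
  .stab 1276 205 true, .stab 1334 205 false, .stab 1107 186 true, .stab 608 186 false, .stab 587 187 false, .stab 1105 205 true, .stab 379 205 false, .stab 1225 186 true,
  .stab 316 186 false, .stab 71 187 false, .stab 137 186 true, .stab 544 187 true, .stab 177 186 true, .stab 1016 187 true, .stab 1266 187 false, .stab 1284 205 true,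
  .stab 1312 205 false, .stab 91 186 false, .stab 1037 187 true, .stab 489 187 false, .stab 1182 205 true, .stab 1386 186 true, .stab 1255 186 false, .stab 92 187 true,
  .stab 1191 205 true, .stab 171 205 false, .stab 971 186 true, .stab 1163 186 false, .stab 1126 187 false, .stab 192 205 true, .stab 84 205 false, .stab 1283 186 true,
  .stab 1388 186 false, .stab 1240 187 false, .stab 1311 186 true, .stab 248 187 true, .stab 563 186 true, .stab 390 187 true, .stab 1310 187 false, .stab 842 205 false,
  .stab 1280 186 false, .stab 542 187 true, .stab 1020 205 true, .stab 613 186 true, .stab 305 186 false, .stab 882 187 false, .stab 579 205 true, .stab 1291 205 false,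
  .stab 350 186 true, .stab 1039 186 false, .stab 861 187 false, .stab 1304 186 true, .stab 271 187 true, .stab 1210 186 false, .stab 164 187 true, .stab 810 187 false,
  .stab 1160 205 true, .stab 1056 186 true, .stab 139 187 true, .stab 1145 205 false, .stab 1021 205 false, .stab 433 186 false, .stab 854 187 false, .stab 149 187 false,
  .stab 966 205 true, .stab 550 205 false, .stab 833 186 false, .stab 415 187 true, .stab 509 187 false, .stab 24 205 true, .stab 1398 186 true, .stab 1347 186 false,
  .stab 732 205 true, .stab 330 187 false, .stab 1017 186 true, .stab 243 186 true, .stab 985 187 true, .stab 1009 187 false, .stab 940 205 false, .stab 670 186 false,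
  .stab 1083 187 false, .stab 1095 186 false, .stab 506 187 true, .stab 692 187 false, .stab 835 187 false, .stab 466 205 true, .stab 565 187 true, .stab 395 187 false,
  .stab 273 205 false, .stab 602 186 true, .stab 258 187 true, .stab 879 187 false, .stab 1197 205 false, .stab 333 186 true, .stab 918 186 false, .stab 304 187 true,
  .stab 636 205 true, .stab 784 205 false, .stab 957 186 true, .stab 483 186 false, .stab 97 187 false, .stab 758 205 true, .stab 623 205 false, .stab 710 186 true,
  .stab 719 186 false, .stab 373 187 false, .stab 366 186 true, .stab 1041 187 true, .stab 1001 186 false, .stab 1106 187 true, .stab 94 187 false, .stab 504 205 true,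
  .stab 942 186 true, .stab 887 187 true, .stab 889 205 false, .stab 494 186 false, .stab 264 187 false, .stab 610 205 true, .stab 207 205 false, .stab 916 186 false,
  .stab 618 187 false, .stab 396 187 true, .stab 1108 187 false, .stab 1235 205 true, .stab 308 205 false, .stab 405 186 false, .stab 1329 187 true, .stab 663 187 false,
  .stab 445 205 true, .stab 660 186 true, .stab 1251 186 false, .stab 1348 205 true, .stab 1376 187 false, .stab 1379 186 true, .stab 1317 186 true, .stab 128 187 true,
  .stab 1155 187 false, .stab 898 205 false, .stab 327 186 false, .stab 1366 187 false, .stab 597 186 false, .stab 495 187 false, .stab 869 187 true, .stab 515 187 false,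
  .stab 1097 187 false, .stab 547 205 true, .stab 974 187 true, .stab 1198 187 false, .stab 730 205 false, .stab 397 186 true, .stab 831 187 true, .stab 234 187 false,
  .stab 430 205 false, .stab 1187 186 false, .stab 431 187 true, .stab 554 205 true, .stab 928 186 true, .stab 626 186 false, .stab 581 187 false, .stab 290 205 true,
  .stab 255 205 false, .stab 1164 186 true, .stab 714 186 false, .stab 841 187 false, .stab 1229 186 true, .stab 733 187 true, .stab 871 186 false, .stab 1356 187 true,
  .stab 644 187 false, .stab 351 205 true, .stab 454 186 true, .stab 622 187 true, .stab 1208 205 false, .stab 681 205 false, .stab 1252 186 false, .stab 1005 187 false,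
  .stab 1132 187 false, .stab 1389 205 true, .stab 1383 205 false, .stab 1117 186 false, .stab 826 187 true, .stab 1091 187 false, .stab 1268 205 true, .stab 490 186 true,
  .stab 1221 186 false, .stab 478 205 true, .stab 1049 187 false, .stab 410 186 true, .stab 214 186 true, .stab 863 187 true, .stab 556 187 false, .stab 169 205 false,
  .stab 1340 186 false, .stab 997 187 false, .stab 962 186 false, .stab 1151 187 true, .stab 874 187 false, .stab 1332 187 false, .stab 894 205 true, .stab 403 187 true,
  .stab 228 187 false, .stab 739 205 false, .stab 398 186 true, .stab 825 187 true, .stab 447 187 false, .stab 426 205 false, .stab 1189 186 false, .stab 427 187 true,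
  .stab 551 205 true, .stab 934 186 true, .stab 627 186 false, .stab 582 187 false, .stab 291 205 true, .stab 108 205 false, .stab 1165 186 true, .stab 715 186 false,
  .stab 1233 187 false, .stab 743 186 true, .stab 734 187 true, .stab 872 186 false, .stab 1222 187 true, .stab 624 187 false, .stab 329 205 true, .stab 459 186 true,
  .stab 620 187 true, .stab 1181 205 false, .stab 695 205 false, .stab 1253 186 false, .stab 1004 187 false, .stab 1133 187 false, .stab 1227 205 true, .stab 1382 205 false,
  .stab 1115 186 false, .stab 828 187 true, .stab 1078 187 false, .stab 1270 205 true, .stab 411 186 true, .stab 770 186 false, .stab 477 205 true, .stab 1046 187 false,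
  .stab 409 186 true, .stab 498 186 true, .stab 864 187 true, .stab 553 187 false, .stab 175 205 false, .stab 1339 186 false, .stab 998 187 false, .stab 964 186 false,
  .stab 1219 187 true, .stab 878 187 false, .stab 1331 187 false, .stab 899 205 true, .stab 399 187 true, .stab 230 187 false, .stab 735 205 false, .stab 540 186 true,
  .stab 1023 187 true, .stab 326 187 false, .stab 568 205 false, .stab 1323 186 false, .stab 569 187 true, .stab 412 205 true, .stab 738 186 true, .stab 492 186 false,
  .stab 444 187 false, .stab 199 205 true, .stab 163 205 false, .stab 1309 186 true, .stab 914 186 false, .stab 1031 187 false, .stab 1033 186 true, .stab 929 187 true,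
  .stab 665 186 false, .stab 1351 187 true, .stab 488 187 false, .stab 237 205 true, .stab 591 186 true, .stab 484 187 true, .stab 1193 205 false, .stab 724 205 false,
  .stab 1075 186 false, .stab 812 187 false, .stab 1290 187 false, .stab 1353 205 true, .stab 1399 205 false, .stab 1281 186 false, .stab 1018 187 true, .stab 1052 187 false,
  .stab 1103 205 true, .stab 625 186 true, .stab 1035 186 false, .stab 614 205 true, .stab 1236 187 false, .stab 381 186 true, .stab 306 186 true, .stab 656 187 true,
  .stab 414 187 false, .stab 261 205 false, .stab 1212 186 false, .stab 806 187 false, .stab 768 186 false, .stab 1298 187 true, .stab 671 187 false, .stab 1203 187 false,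
  .stab 698 205 true, .stab 546 187 true, .stab 320 187 false, .stab 935 205 false, .stab 982 186 true, .stab 315 187 true, .stab 232 187 false, .stab 991 205 false,
  .stab 323 186 true, .stab 1402 186 false, .stab 437 205 true, .stab 1122 205 false, .stab 539 186 true, .stab 668 186 false, .stab 1194 187 false, .stab 1169 205 true,
  .stab 1354 205 false, .stab 472 186 true, .stab 1051 186 false, .stab 180 187 false, .stab 1008 186 true, .stab 619 186 false, .stab 387 187 true, .stab 138 187 false,
  .stab 954 205 true, .stab 166 186 true, .stab 1274 186 false, .stab 926 187 true, .stab 726 205 false, .stab 1300 186 false, .stab 1273 187 false, .stab 919 205 true,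
  .stab 910 205 false, .stab 583 186 false, .stab 523 187 false, .stab 67 186 true, .stab 31 187 true, .stab 1322 187 false, .stab 978 205 true, .stab 69 205 false,
  .stab 717 186 false, .stab 211 187 true, .stab 442 205 true, .stab 1045 186 false, .stab 73 187 true, .stab 481 205 true, .stab 30 205 false, .stab 311 186 true,
  .stab 586 187 true, .stab 867 186 true, .stab 462 187 true, .stab 1231 187 false, .stab 1174 205 true, .stab 834 205 false, .stab 64 186 false, .stab 574 187 false,
  .stab 961 205 true, .stab 1079 186 false, .stab 1333 187 false, .stab 1342 205 true, .stab 1062 186 false, .stab 530 187 false, .stab 513 187 true, .stab 1157 187 true,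
  .stab 1400 187 false, .stab 548 205 true, .stab 520 187 false, .stab 1006 205 true, .stab 981 187 true, .stab 789 187 false, .stab 762 205 false, .stab 1350 186 true,
  .stab 262 187 true, .stab 156 187 false, .stab 132 205 false, .stab 134 186 false, .stab 1166 187 true, .stab 824 205 true, .stab 1172 205 false, .stab 1316 186 true,
  .stab 1346 186 false, .stab 799 205 true, .stab 246 205 false, .stab 1129 186 true, .stab 1030 186 false, .stab 507 187 false, .stab 133 186 true, .stab 1378 187 true,
  .stab 136 187 true, .stab 265 205 true, .stab 1057 186 true, .stab 1404 186 false, .stab 296 205 false, .stab 158 186 true, .stab 125 186 false, .stab 202 187 false,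
  .stab 775 205 true, .stab 1282 205 false, .stab 269 186 false, .stab 420 187 false, .stab 1330 187 true, .stab 969 205 false, .stab 1293 186 false, .stab 1071 187 true,
  .stab 263 187 false, .stab 801 205 true, .stab 913 186 true, .stab 1168 186 false, .stab 1374 187 false, .stab 1036 186 true, .stab 1077 187 true, .stab 1059 186 true,
  .stab 508 205 true, .stab 344 205 false, .stab 284 187 true, .stab 287 187 false, .stab 1320 187 false, .stab 1308 205 false, .stab 1288 186 false, .stab 1306 187 false,
  .stab 123 205 true, .stab 1344 186 true, .stab 417 187 true, .stab 1043 205 false, .stab 820 186 false, .stab 1204 205 true, .stab 699 186 false, .stab 903 187 false,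
  .stab 83 205 true, .stab 725 186 true, .stab 728 187 true, .stab 254 186 false, .stab 475 187 true, .stab 911 187 false, .stab 4 205 true, .stab 443 186 true,
  .stab 1279 187 true, .stab 1234 205 false, .stab 120 187 false, .stab 36 187 false, .stab 796 205 true, .stab 690 205 false, .stab 473 186 false, .stab 653 187 true,
  .stab 300 205 true, .stab 837 186 true, .stab 1357 205 false, .stab 519 186 false, .stab 683 187 true, .stab 102 187 true, .stab 541 205 true, .stab 915 187 true,
  .stab 536 205 false, .stab 996 205 false, .stab 346 186 false, .stab 1150 187 true, .stab 267 205 true, .stab 286 186 true, .stab 655 187 false, .stab 341 205 false,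
  .stab 1192 186 false, .stab 1213 186 true, .stab 1074 205 false, .stab 805 187 true, .stab 501 186 true, .stab 1335 187 true, .stab 596 205 true, .stab 857 187 false,
  .stab 1396 205 true, .stab 182 205 true, .stab 276 186 true, .stab 198 187 true, .stab 1296 186 false, .stab 1070 205 false, .stab 1099 187 true, .stab 1053 205 false,
  .stab 664 186 true, .stab 853 187 true, .stab 486 187 false, .stab 930 187 true, .stab 667 187 true, .stab 1343 187 false, .stab 704 187 true, .stab 210 186 true,
  .stab 741 187 true, .stab 1124 205 false, .stab 1086 186 true, .stab 200 186 false, .stab 1098 187 true, .stab 268 205 true, .stab 1177 205 false, .stab 428 186 true,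
  .stab 55 186 false, .stab 471 187 false, .stab 112 205 true, .stab 673 186 true, .stab 781 187 true, .stab 736 186 true, .stab 16 187 true, .stab 12 187 false,
  .stab 1112 205 true, .stab 1206 205 false, .stab 450 186 false, .stab 600 187 true, .stab 457 187 false, .stab 56 205 true, .stab 377 186 true, .stab 753 187 true,
  .stab 96 205 false, .stab 1148 187 false, .stab 183 186 true, .stab 1369 187 true, .stab 240 187 false, .stab 229 205 true, .stab 446 205 false, .stab 983 186 false,
  .stab 819 187 true, .stab 348 187 false, .stab 1406 205 true, .stab 794 186 true, .stab 1375 186 false, .stab 303 205 true, .stab 958 205 false, .stab 324 186 false,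
  .stab 533 187 true, .stab 105 187 true, .stab 357 205 true, .stab 1154 187 true, .stab 370 205 false, .stab 116 187 true, .stab 392 205 false, .stab 892 186 false,
  .stab 369 187 true, .stab 1258 187 false, .stab 1318 205 true, .stab 503 186 true, .stab 972 186 false, .stab 868 187 false, .stab 1000 205 true, .stab 1319 205 false,
  .stab 944 186 false, .stab 65 187 false, .stab 247 186 true, .stab 1127 187 true, .stab 328 205 false, .stab 654 186 true, .stab 511 187 true, .stab 27 205 false,
  .stab 976 186 true, .stab 1277 187 true, .stab 1302 186 false, .stab 924 187 true, .stab 1199 187 false, .stab 1328 205 true, .stab 1026 186 true, .stab 1315 186 false,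
  .stab 1237 187 false, .stab 1111 205 true, .stab 113 205 false, .stab 532 186 false, .stab 875 187 false, .stab 1254 187 true, .stab 1243 187 false, .stab 893 205 true,
  .stab 131 187 false, .stab 612 205 true, .stab 776 186 true, .stab 1214 187 true, .stab 1190 205 true, .stab 669 186 true, .stab 485 187 true, .stab 575 186 false,
  .stab 1271 205 true, .stab 827 205 false, .stab 763 187 true, .stab 434 205 false, .stab 401 187 true, .stab 1370 205 false, .stab 922 186 true, .stab 963 187 true,
  .stab 499 186 true, .stab 616 187 true, .stab 1314 205 false, .stab 209 187 true, .stab 61 187 false, .stab 160 187 false, .stab 528 205 true, .stab 657 187 true,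
  .stab 917 187 false, .stab 707 205 true, .stab 956 187 false, .stab 272 205 true, .stab 249 187 true, .stab 890 187 false, .stab 1250 186 false, .stab 1038 187 false,
  .stab 580 187 false, .stab 1081 187 true, .stab 723 187 true, .stab 109 186 true, .stab 774 187 true, .stab 649 205 false, .stab 527 186 false, .stab 1027 205 true,
  .stab 295 186 false, .stab 990 187 false, .stab 57 205 true, .stab 830 186 true, .stab 440 187 true, .stab 66 186 false, .stab 1244 187 true, .stab 859 187 false,
  .stab 5 205 true, .stab 676 186 true, .stab 1025 187 true, .stab 502 205 false, .stab 151 187 false, .stab 124 187 false, .stab 700 205 true, .stab 951 205 false,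
  .stab 1209 186 false, .stab 1352 187 true, .stab 191 205 true, .stab 720 186 true, .stab 955 205 false, .stab 1140 186 false, .stab 598 187 true, .stab 453 187 true,
  .stab 424 205 true, .stab 822 187 true, .stab 691 205 false, .stab 189 205 false, .stab 335 186 false, .stab 375 187 true, .stab 823 205 true, .stab 205 186 true,
  .stab 802 187 false, .stab 1142 205 false, .stab 1047 186 false, .stab 877 186 true, .stab 571 205 false, .stab 1259 187 true, .stab 1305 186 true, .stab 609 187 true,
  .stab 1239 205 true, .stab 1380 187 false, .stab 651 205 true, .stab 130 205 true, .stab 803 186 true, .stab 845 187 true, .stab 197 186 false, .stab 1143 205 false,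
  .stab 15 187 true, .stab 363 205 false, .stab 1337 186 true, .stab 1002 187 true, .stab 251 187 false, .stab 178 187 true, .stab 897 187 true, .stab 367 187 false,
  .stab 37 187 true, .stab 256 186 true, .stab 817 187 true, .stab 652 205 false, .stab 534 186 false, .stab 1028 205 true, .stab 343 186 false, .stab 987 187 false,
  .stab 59 205 true, .stab 829 186 true, .stab 844 187 true, .stab 77 186 false, .stab 1245 187 true, .stab 856 187 false, .stab 6 205 true, .stab 675 186 true,
  .stab 1024 187 true, .stab 238 205 false, .stab 165 187 false, .stab 122 187 false, .stab 703 205 true, .stab 950 205 false, .stab 1207 186 false, .stab 1345 187 true,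
  .stab 194 205 true, .stab 706 186 true, .stab 952 205 false, .stab 1139 186 false, .stab 601 187 true, .stab 452 187 true, .stab 425 205 true, .stab 1093 187 true,
  .stab 678 205 false, .stab 184 205 false, .stab 336 186 false, .stab 372 187 true, .stab 744 205 true, .stab 208 186 true, .stab 791 187 false, .stab 1146 205 false,
  .stab 1050 186 false, .stab 873 186 true, .stab 567 205 false, .stab 1260 187 true, .stab 1307 186 true, .stab 640 187 true, .stab 1238 205 true, .stab 1381 187 false,
  .stab 648 205 true, .stab 127 205 true, .stab 804 186 true, .stab 441 187 true, .stab 356 186 false, .stab 1147 205 false, .stab 14 187 true, .stab 362 205 false,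
  .stab 1338 186 true, .stab 999 187 true, .stab 98 187 false, .stab 179 187 true, .stab 886 187 true, .stab 359 187 false, .stab 39 187 true, .stab 150 186 true,
  .stab 970 187 true, .stab 858 205 false, .stab 389 186 false, .stab 836 205 true, .stab 496 186 false, .stab 793 187 false, .stab 38 205 true, .stab 1022 186 true,
  .stab 578 187 true, .stab 118 186 false, .stab 1066 187 true, .stab 647 187 false, .stab 9 205 true, .stab 883 186 true, .stab 832 187 true, .stab 352 205 false,
  .stab 257 187 false, .stab 81 187 false, .stab 900 205 true, .stab 754 205 false, .stab 1336 186 false, .stab 1223 187 true, .stab 283 205 true, .stab 920 186 true,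
  .stab 756 205 false, .stab 1218 186 false, .stab 464 187 true, .stab 590 187 true, .stab 562 205 true, .stab 1014 187 true, .stab 896 205 false, .stab 281 205 false,
  .stab 244 186 false, .stab 522 187 true, .stab 1015 205 true, .stab 297 186 true, .stab 994 187 false, .stab 1294 205 false, .stab 1141 186 false, .stab 666 186 true,
  .stab 429 205 false, .stab 1084 187 true, .stab 1162 186 true, .stab 694 187 true, .stab 1055 205 true, .stab 1395 187 false, .stab 860 205 true, .stab 86 205 true,
  .stab 995 186 true, .stab 635 187 true, .stab 289 186 false, .stab 1295 205 false, .stab 25 187 true, .stab 510 205 false, .stab 1211 186 true, .stab 807 187 true,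
  .stab 159 187 false, .stab 270 187 true, .stab 679 187 true, .stab 514 187 false, .stab 58 187 true, .stab 662 186 true, .stab 697 187 true, .stab 87 205 false,
  .stab 487 186 true, .stab 949 186 false, .stab 1156 187 true, .stab 783 205 false, .stab 347 186 false, .stab 769 187 false, .stab 1171 205 true, .stab 682 186 true,
  .stab 1178 187 true, .stab 1048 186 true, .stab 907 187 true, .stab 524 187 false, .stab 621 205 true, .stab 761 205 false, .stab 840 186 false, .stab 1216 187 false,
  .stab 54 205 true, .stab 1125 187 false, .stab 1196 187 true, .stab 798 186 true, .stab 1341 187 true, .stab 772 187 false, .stab 438 205 true, .stab 275 205 false,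
  .stab 34 186 false, .stab 474 187 true, .stab 153 205 true, .stab 460 186 true, .stab 1128 187 false, .stab 309 205 true, .stab 646 205 false, .stab 35 186 false,
  .stab 1326 187 false, .stab 1092 187 true, .stab 172 187 true, .stab 594 205 true, .stab 746 187 true, .stab 99 205 false, .stab 790 186 false, .stab 1011 187 true,
  .stab 216 187 false, .stab 1403 205 true, .stab 11 186 false, .stab 404 205 false, .stab 988 186 true, .stab 1394 186 false, .stab 212 205 true, .stab 764 205 false,
  .stab 233 186 false, .stab 1262 186 true, .stab 1063 187 true, .stab 1201 205 false, .stab 517 186 true, .stab 923 187 true, .stab 880 205 false, .stab 572 186 true,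
  .stab 1257 187 true, .stab 1183 186 false, .stab 155 187 true, .stab 505 187 false, .stab 266 205 true, .stab 28 186 true, .stab 226 187 false, .stab 465 205 true,
  .stab 146 205 false, .stab 989 186 false, .stab 927 187 false, .stab 1019 187 true, .stab 1100 187 false, .stab 435 205 true, .stab 1085 186 true, .stab 851 187 true,
  .stab 1060 205 false, .stab 1167 186 true, .stab 185 187 true, .stab 718 205 false, .stab 301 205 true, .stab 1359 205 false, .stab 117 186 true, .stab 811 187 true,
  .stab 41 186 true, .stab 779 187 true, .stab 672 186 true, .stab 1275 187 true, .stab 384 187 true, .stab 1073 187 true, .stab 846 205 false, .stab 535 186 true,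
  .stab 959 187 true, .stab 302 186 true, .stab 937 187 true, .stab 1286 205 false, .stab 75 187 true, .stab 353 186 false, .stab 1034 187 true, .stab 1170 187 false,
  .stab 1134 205 true, .stab 588 186 true, .stab 780 186 false, .stab 865 205 true, .stab 593 205 false, .stab 1089 186 false, .stab 282 186 false, .stab 70 187 true,
  .stab 1355 187 false, .stab 1044 205 true, .stab 349 186 true, .stab 479 187 false, .stab 241 205 true, .stab 68 205 false, .stab 1321 186 false, .stab 545 187 false,
  .stab 604 187 true, .stab 154 187 false, .stab 516 205 true, .stab 1299 187 true, .stab 141 186 true, .stab 1138 187 false, .stab 378 187 true, .stab 684 187 true,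
  .stab 838 186 true, .stab 1118 187 true, .stab 338 187 false, .stab 721 205 false, .stab 1230 186 true, .stab 354 186 false, .stab 1361 205 true, .stab 293 205 false,
  .stab 1040 186 true, .stab 1285 187 false, .stab 93 205 true, .stab 713 186 true, .stab 250 187 true, .stab 173 187 true, .stab 1289 187 false, .stab 1247 205 true,
  .stab 1249 187 false, .stab 1387 186 true, .stab 115 187 false, .stab 1202 205 true, .stab 170 205 false, .stab 773 187 true, .stab 294 186 false, .stab 82 187 true,
  .stab 1241 187 false, .stab 1161 205 true, .stab 95 187 true, .stab 1175 187 false, .stab 729 205 false, .stab 204 186 false, .stab 360 187 true, .stab 195 205 false,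
  .stab 361 187 true, .stab 992 187 true, .stab 1391 205 true, .stab 993 186 true, .stab 1135 205 false, .stab 1392 186 false, .stab 1224 186 true, .stab 196 186 true,
  .stab 742 187 false, .stab 589 205 false, .stab 946 186 false, .stab 391 187 true, .stab 943 205 true, .stab 225 186 true, .stab 145 205 true, .stab 491 205 true,
  .stab 129 187 false, .stab 906 186 true, .stab 759 205 false, .stab 1297 186 true, .stab 813 205 true, .stab 1390 186 false, .stab 107 186 true, .stab 218 187 true,
  .stab 792 187 false, .stab 259 205 false, .stab 168 186 false, .stab 253 187 true, .stab 318 205 true, .stab 23 205 false, .stab 19 186 true, .stab 242 187 true,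
  .stab 468 186 true, .stab 1188 187 true, .stab 1265 187 false, .stab 849 205 false, .stab 277 205 true, .stab 1272 186 true, .stab 1292 186 false, .stab 365 205 true,
  .stab 458 205 false, .stab 745 186 true, .stab 1269 187 true, .stab 1362 205 false, .stab 1368 186 false, .stab 188 187 false, .stab 53 205 true, .stab 43 186 false,
  .stab 436 187 false, .stab 765 205 true, .stab 1215 186 false, .stab 777 187 false, .stab 1137 187 false, .stab 119 205 false, .stab 46 186 true, .stab 21 187 true,
  .stab 1186 187 false, .stab 48 205 false, .stab 1069 186 false, .stab 52 187 true, .stab 615 205 true, .stab 20 205 false, .stab 219 186 true, .stab 449 187 true,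
  .stab 1131 186 false, .stab 1205 187 false, .stab 1080 186 false, .stab 1176 187 false, .stab 1102 205 true, .stab 740 187 false, .stab 960 186 true, .stab 231 187 true,
  .stab 1407 187 false, .stab 816 205 false, .stab 223 186 true, .stab 325 186 false, .stab 984 205 true, .stab 787 205 false, .stab 797 186 true, .stab 385 187 false,
  .stab 193 187 false, .stab 111 205 false, .stab 376 187 false, .stab 33 186 false, .stab 206 187 false, .stab 215 205 true, .stab 140 205 false, .stab 848 186 false,
  .stab 576 187 false, .stab 968 205 true, .stab 659 186 false, .stab 1119 187 false, .stab 1054 186 false, .stab 1109 187 false, .stab 10 205 true, .stab 1385 187 false,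
  .stab 965 187 false, .stab 1313 205 true, .stab 526 187 false, .stab 469 186 true, .stab 245 186 false, .stab 455 186 true, .stab 1287 187 true, .stab 788 186 false,
  .stab 76 187 false, .stab 1242 186 false, .stab 62 205 true, .stab 1003 187 false, .stab 573 205 false, .stab 529 186 false, .stab 973 205 true, .stab 1261 187 false,
  .stab 1087 205 false, .stab 432 205 false, .stab 1152 187 false, .stab 642 205 true, .stab 561 186 true, .stab 752 187 false, .stab 143 205 false, .stab 419 186 false,
  .stab 585 187 true, .stab 712 205 true, .stab 222 186 true, .stab 902 205 true, .stab 497 205 true, .stab 413 187 false, .stab 1029 186 true, .stab 1363 205 false,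
  .stab 1248 186 true, .stab 645 205 true, .stab 862 186 false, .stab 633 186 true, .stab 757 187 false, .stab 144 205 false, .stab 843 186 false, .stab 549 187 true,
  .stab 709 205 true, .stab 221 186 true, .stab 905 205 true, .stab 213 205 true, .stab 416 187 false, .stab 1042 186 true, .stab 1364 205 false, .stab 1246 186 true,
  .stab 628 205 true, .stab 866 186 false, .stab 696 186 true, .stab 948 187 false, .stab 103 205 false, .stab 558 186 false, .stab 408 187 true, .stab 912 205 true,
  .stab 314 186 true, .stab 705 205 true, .stab 345 205 true, .stab 552 187 false, .stab 1232 186 true, .stab 1358 205 false, .stab 1067 186 true, .stab 493 205 true,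
  .stab 658 186 false, .stab 1173 186 true, .stab 135 187 true, .stab 161 187 false, .stab 839 205 false, .stab 236 186 true, .stab 148 186 false, .stab 298 187 true,
  .stab 167 205 true, .stab 722 205 false, .stab 307 186 true, .stab 480 187 true, .stab 1226 186 true, .stab 388 187 true, .stab 78 187 false, .stab 22 205 false,
  .stab 629 186 true, .stab 310 186 false, .stab 439 187 true, .stab 13 205 true, .stab 422 205 false, .stab 771 186 true, .stab 1110 187 true, .stab 90 186 false,
  .stab 383 187 false, .stab 252 205 true, .stab 44 186 false, .stab 1179 187 false, .stab 1082 205 true, .stab 661 186 false, .stab 476 187 false, .stab 364 187 true,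
  .stab 29 187 false, .stab 17 205 false, .stab 767 187 true, .stab 782 205 false, .stab 638 186 true, .stab 176 187 true, .stab 400 186 true, .stab 1149 187 true,
  .stab 334 205 true, .stab 463 205 false, .stab 342 187 true, .stab 685 186 false, .stab 808 187 false, .stab 1061 186 false, .stab 748 187 false, .stab 40 205 true,
  .stab 285 205 false, .stab 778 187 false, .stab 687 187 false, .stab 570 187 true, .stab 152 187 true, .stab 1360 186 false, .stab 280 187 false, .stab 32 205 true,
  .stab 1144 205 false, .stab 800 187 false, .stab 870 187 false, .stab 933 186 false, .stab 299 187 false, .stab 936 187 false, .stab 1263 187 false, .stab 1256 205 true,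
  .stab 1200 187 false, .stab 355 186 true, .stab 1217 187 true, .stab 1371 187 true, .stab 881 187 false, .stab 1377 187 false, .stab 605 186 true, .stab 1324 187 true,
  .stab 1076 187 false, .stab 639 205 false, .stab 1101 186 true, .stab 1180 186 false, .stab 512 205 true, .stab 595 205 false, .stab 941 186 true, .stab 260 187 false,
  .stab 986 186 false, .stab 1185 205 true, .stab 606 187 true, .stab 337 187 false, .stab 592 205 false, .stab 688 205 false, .stab 1113 187 false, .stab 227 205 true,
  .stab 1121 186 true, .stab 63 205 false, .stab 1327 186 false, .stab 1120 187 false, .stab 74 186 true, .stab 1220 187 true, .stab 1090 205 true, .stab 201 186 true,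
  .stab 1367 205 true, .stab 847 187 true, .stab 1130 187 true, .stab 617 186 false, .stab 500 187 true, .stab 785 187 false, .stab 1184 205 true, .stab 49 186 true,
  .stab 190 187 false, .stab 402 205 true, .stab 121 205 false, .stab 1064 186 false, .stab 331 187 false, .stab 1094 187 true, .stab 451 186 true, .stab 456 205 false,
  .stab 47 187 true, .stab 1365 205 true, .stab 643 187 true, .stab 467 205 false, .stab 979 187 true, .stab 1397 187 false, .stab 975 205 true, .stab 482 187 true,
  .stab 368 186 true, .stab 1372 205 false, .stab 339 187 true, .stab 80 205 true, .stab 716 186 true, .stab 809 205 false, .stab 157 187 true, .stab 235 205 false]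

/-- covering of the points at node 9 -/
def cov9 : List Step := [
  .edge 0 211, .edge 85 219, .stab 4 210 true, .stab 708 212 true, .stab 397 213 true, .stab 226 214 true, .stab 9 215 true, .stab 700 216 true,
  .stab 151 216 false, .stab 453 217 true, .stab 701 217 false, .stab 863 210 true, .stab 193 210 false, .stab 985 212 true, .stab 1056 212 false, .stab 186 213 true,
  .stab 915 216 true, .stab 236 216 false, .stab 818 217 true, .stab 1287 217 false, .stab 711 212 true, .stab 398 213 true, .stab 227 214 true, .stab 3 215 true,
  .stab 703 216 true, .stab 165 216 false, .stab 452 217 true, .stab 704 217 false, .stab 909 213 true, .stab 599 214 true, .stab 859 215 true, .stab 118 216 true,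
  .stab 81 216 false, .stab 808 217 true, .stab 303 217 false, .stab 912 212 true, .stab 647 214 true, .stab 712 215 true, .stab 1024 216 true, .stab 256 216 false,
  .stab 391 217 true, .stab 1312 217 false, .stab 602 212 true, .stab 465 215 true, .stab 895 216 true, .stab 1337 216 false, .stab 572 217 true, .stab 788 217 false,
  .stab 856 212 true, .stab 987 216 true, .stab 72 216 false, .stab 284 217 true, .stab 810 217 false, .stab 127 210 true, .stab 57 210 false, .stab 182 212 true,
  .stab 120 212 false, .stab 1069 214 true, .stab 990 215 true, .stab 496 216 true, .stab 324 217 true, .stab 1292 217 false, .stab 162 210 true, .stab 632 210 false,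
  .stab 796 212 true, .stab 564 213 true, .stab 79 215 true, .stab 313 217 true, .stab 297 217 false, .stab 516 210 true, .stab 872 210 false, .stab 1244 212 true,
  .stab 527 212 false, .stab 552 213 true, .stab 323 214 true, .stab 222 215 true, .stab 1327 216 true, .stab 381 216 false, .stab 807 217 true, .stab 8 210 true,
  .stab 377 210 false, .stab 1240 212 true, .stab 1326 212 false, .stab 425 213 true, .stab 383 214 true, .stab 1103 215 true, .stab 905 216 true, .stab 1071 216 false,
  .stab 287 217 false, .stab 190 210 true, .stab 273 212 true, .stab 994 212 false, .stab 396 213 true, .stab 1239 214 true, .stab 172 216 true, .stab 1007 216 false,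
  .stab 864 210 false, .stab 539 212 true, .stab 802 214 true, .stab 874 216 true, .stab 1113 216 false, .stab 176 217 true, .stab 914 217 false, .stab 596 213 true,
  .stab 282 214 true, .stab 654 216 true, .stab 1222 216 false, .stab 820 217 true, .stab 459 212 false, .stab 655 214 true, .stab 515 216 true, .stab 1212 216 false,
  .stab 1373 217 true, .stab 1340 217 false, .stab 591 212 true, .stab 656 212 false, .stab 1281 216 true, .stab 474 216 false, .stab 946 210 true, .stab 1125 210 false,
  .stab 1159 212 true, .stab 560 212 false, .stab 1396 214 true, .stab 1279 215 true, .stab 1381 216 true, .stab 1012 217 false, .stab 1225 210 true, .stab 857 210 false,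
  .stab 1117 212 true, .stab 1195 212 false, .stab 422 215 true, .stab 1380 216 false, .stab 1115 217 false, .stab 264 210 true, .stab 792 210 false, .stab 1013 212 true,
  .stab 1145 212 false, .stab 1197 213 true, .stab 1385 214 true, .stab 1303 216 false, .stab 714 210 true, .stab 750 210 false, .stab 839 212 true, .stab 1395 212 false,
  .stab 1141 216 false, .stab 45 216 true, .stab 83 216 false, .stab 811 217 true, .stab 304 217 false, .stab 650 214 true, .stab 709 215 true, .stab 1025 216 true,
  .stab 109 216 false, .stab 382 217 true, .stab 1311 217 false, .stab 462 215 true, .stab 884 216 true, .stab 1338 216 false, .stab 574 217 true, .stab 827 217 false,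
  .stab 130 210 true, .stab 59 210 false, .stab 187 212 true, .stab 51 212 false, .stab 1064 214 true, .stab 203 216 true, .stab 325 217 true, .stab 1319 217 false,
  .stab 142 210 true, .stab 559 210 false, .stab 793 212 true, .stab 568 213 true, .stab 314 217 true, .stab 300 217 false, .stab 512 210 true, .stab 871 210 false,
  .stab 1245 212 true, .stab 534 212 false, .stab 555 213 true, .stab 321 214 true, .stab 221 215 true, .stab 1330 216 true, .stab 390 216 false, .stab 23 210 true,
  .stab 376 210 false, .stab 1241 212 true, .stab 1324 212 false, .stab 424 213 true, .stab 384 214 true, .stab 1099 215 true, .stab 902 216 true, .stab 1068 216 false,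
  .stab 5 214 true, .stab 541 215 true, .stab 1039 216 true, .stab 330 216 false, .stab 889 217 true, .stab 469 217 false, .stab 319 215 true, .stab 493 216 true,
  .stab 1088 216 false, .stab 1040 217 true, .stab 1308 217 false, .stab 254 216 true, .stab 36 216 false, .stab 583 217 true, .stab 565 217 false, .stab 1354 214 true,
  .stab 101 215 true, .stab 767 217 true, .stab 444 217 false, .stab 752 213 true, .stab 38 215 true, .stab 893 217 true, .stab 464 217 false, .stab 547 210 true,
  .stab 693 210 false, .stab 179 212 true, .stab 374 212 false, .stab 843 213 true, .stab 775 214 true, .stab 688 215 true, .stab 29 216 true, .stab 836 216 false,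
  .stab 569 217 true, .stab 921 210 true, .stab 280 210 false, .stab 373 212 true, .stab 20 212 false, .stab 505 213 true, .stab 633 214 true, .stab 575 215 true,
  .stab 861 216 true, .stab 765 216 false, .stab 637 217 false, .stab 6 214 true, .stab 540 215 true, .stab 1014 216 true, .stab 352 216 false, .stab 892 217 true,
  .stab 471 217 false, .stab 908 215 true, .stab 847 217 true, .stab 431 217 false, .stab 822 216 true, .stab 502 216 false, .stab 687 217 true, .stab 606 217 false,
  .stab 757 212 true, .stab 1093 215 true, .stab 24 217 true, .stab 115 217 false, .stab 238 215 true, .stab 1355 216 false, .stab 561 217 true, .stab 588 217 false,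
  .stab 1406 210 true, .stab 938 210 false, .stab 242 212 true, .stab 1214 212 false, .stab 737 213 true, .stab 461 214 true, .stab 423 215 true, .stab 835 216 true,
  .stab 992 216 false, .stab 608 217 true, .stab 1254 210 true, .stab 1186 210 false, .stab 140 212 true, .stab 1348 212 false, .stab 951 213 true, .stab 133 214 true,
  .stab 971 215 true, .stab 772 216 true, .stab 1282 216 false, .stab 684 217 false, .stab 318 215 true, .stab 854 216 true, .stab 1095 216 false, .stab 1016 217 true,
  .stab 1306 217 false, .stab 628 216 true, .stab 1264 216 false, .stab 824 217 true, .stab 1161 217 false, .stab 645 215 true, .stab 353 217 true, .stab 458 217 false,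
  .stab 1267 215 true, .stab 740 217 true, .stab 774 210 true, .stab 344 212 true, .stab 719 212 false, .stab 435 214 true, .stab 932 215 true, .stab 834 216 true,
  .stab 1163 217 true, .stab 1259 210 true, .stab 1255 212 true, .stab 991 212 false, .stab 849 215 true, .stab 1325 216 true, .stab 869 216 false, .stab 1172 217 false,
  .stab 274 210 true, .stab 122 210 false, .stab 89 212 true, .stab 110 212 false, .stab 948 214 true, .stab 421 216 true, .stab 1133 217 true, .stab 1294 217 false,
  .stab 77 210 true, .stab 343 210 false, .stab 903 212 true, .stab 1365 213 true, .stab 91 217 true, .stab 702 210 true, .stab 276 210 false, .stab 1091 212 true,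
  .stab 440 212 false, .stab 1136 213 true, .stab 801 216 true, .stab 1041 216 false, .stab 68 210 true, .stab 116 210 false, .stab 837 212 true, .stab 851 212 false,
  .stab 617 213 true, .stab 365 216 true, .stab 1295 216 false, .stab 279 215 true, .stab 577 217 true, .stab 695 217 false, .stab 124 215 true, .stab 1006 217 true,
  .stab 1270 217 false, .stab 1021 217 true, .stab 429 217 false, .stab 132 217 true, .stab 1362 215 true, .stab 1110 217 true, .stab 360 217 false, .stab 86 212 true,
  .stab 257 212 false, .stab 953 214 true, .stab 699 216 true, .stab 1132 217 true, .stab 1296 217 false, .stab 216 217 true, .stab 726 217 false, .stab 44 210 true,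
  .stab 1231 210 false, .stab 1183 212 false, .stab 679 213 true, .stab 42 214 true, .stab 348 215 true, .stab 420 216 true, .stab 1162 216 false, .stab 581 217 true,
  .stab 153 210 true, .stab 1333 210 false, .stab 1394 212 true, .stab 481 212 false, .stab 786 213 true, .stab 25 214 true, .stab 974 215 true, .stab 1266 216 true,
  .stab 722 216 false, .stab 965 217 false, .stab 66 215 true, .stab 676 217 true, .stab 607 217 false, .stab 295 215 true, .stab 1164 217 true, .stab 1398 217 false,
  .stab 1291 217 true, .stab 1146 217 false, .stab 732 217 true, .stab 941 217 false, .stab 900 212 true, .stab 92 217 true, .stab 573 217 false, .stab 657 210 true,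
  .stab 768 210 false, .stab 978 213 true, .stab 589 215 true, .stab 1285 216 true, .stab 640 216 false, .stab 621 210 false, .stab 868 212 true, .stab 62 212 false,
  .stab 943 213 true, .stab 716 216 true, .stab 160 216 false, .stab 275 212 true, .stab 316 212 false, .stab 865 215 true, .stab 681 216 true, .stab 999 216 false,
  .stab 446 217 true, .stab 960 212 true, .stab 913 212 false, .stab 293 214 true, .stab 964 215 true, .stab 1334 216 true, .stab 939 216 false, .stab 542 217 true,
  .stab 497 210 true, .stab 479 214 true, .stab 1305 215 true, .stab 738 216 false, .stab 635 217 true, .stab 214 217 false, .stab 841 210 false, .stab 771 214 true,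
  .stab 897 215 true, .stab 1315 216 true, .stab 945 217 true, .stab 550 217 false, .stab 1029 214 true, .stab 935 215 true, .stab 492 216 true, .stab 1063 217 false,
  .stab 290 210 true, .stab 730 210 false, .stab 1147 212 true, .stab 1198 212 false, .stab 370 216 false, .stab 1307 212 true, .stab 886 212 false, .stab 785 213 true,
  .stab 1129 216 true, .stab 473 216 false, .stab 619 210 true, .stab 536 212 true, .stab 1123 215 true, .stab 973 217 false, .stab 1033 210 true, .stab 1182 210 false,
  .stab 394 213 true, .stab 694 215 true, .stab 1042 217 true, .stab 1082 217 false, .stab 67 210 true, .stab 43 210 false, .stab 1232 212 true, .stab 476 212 false,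
  .stab 615 213 true, .stab 936 214 true, .stab 369 216 true, .stab 1297 216 false, .stab 680 212 true, .stab 258 212 false, .stab 783 214 true, .stab 56 215 true,
  .stab 975 216 false, .stab 760 217 false, .stab 554 212 true, .stab 543 212 false, .stab 1358 214 true, .stab 673 215 true, .stab 333 216 true, .stab 455 216 false,
  .stab 1369 217 false, .stab 746 210 true, .stab 995 212 true, .stab 167 213 true, .stab 1118 215 true, .stab 1220 216 true, .stab 359 217 true, .stab 1170 217 false,
  .stab 1390 210 false, .stab 790 212 false, .stab 433 213 true, .stab 417 214 true, .stab 980 215 true, .stab 1215 216 false, .stab 342 217 true, .stab 1142 212 true,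
  .stab 609 212 false, .stab 1052 214 true, .stab 747 215 true, .stab 634 216 true, .stab 16 216 false, .stab 698 217 true, .stab 1185 217 false, .stab 1314 210 true,
  .stab 246 212 true, .stab 1086 212 false, .stab 385 213 true, .stab 1126 212 true, .stab 981 212 false, .stab 557 213 true, .stab 538 216 true, .stab 1090 216 false,
  .stab 189 210 true, .stab 192 210 false, .stab 723 214 true, .stab 537 215 true, .stab 432 217 true, .stab 1289 217 false, .stab 100 210 true, .stab 675 210 false,
  .stab 639 212 false, .stab 392 214 true, .stab 1077 215 true, .stab 780 216 false, .stab 49 217 true, .stab 705 210 true, .stab 281 210 false, .stab 1078 212 true,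
  .stab 844 212 false, .stab 1137 213 true, .stab 451 214 true, .stab 799 216 true, .stab 1026 216 false, .stab 88 210 true, .stab 545 212 true, .stab 1238 213 true,
  .stab 791 214 true, .stab 402 215 true, .stab 878 216 true, .stab 454 212 true, .stab 129 213 true, .stab 285 214 true, .stab 659 216 true, .stab 1356 216 false,
  .stab 821 217 true, .stab 1138 217 false, .stab 126 212 true, .stab 364 216 true, .stab 1339 216 false, .stab 986 210 true, .stab 368 215 true, .stab 840 217 true,
  .stab 989 210 false, .stab 1050 212 false, .stab 1158 216 false, .stab 278 212 true, .stab 1010 216 false, .stab 181 217 true, .stab 1344 216 false, .stab 1192 210 true,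
  .stab 1236 210 false, .stab 1047 216 true, .stab 1304 213 true, .stab 1377 215 true, .stab 947 210 true, .stab 610 212 false, .stab 1054 216 true, .stab 1049 216 false,
  .stab 1208 217 true, .stab 648 217 false, .stab 667 216 true, .stab 860 212 true, .stab 751 214 true, .stab 1058 215 true, .stab 268 217 false, .stab 1046 215 true,
  .stab 795 214 true, .stab 715 217 true, .stab 1234 216 false, .stab 815 216 false, .stab 1181 212 false, .stab 651 212 false, .stab 1055 214 true, .stab 328 212 false,
  .stab 1193 214 true, .stab 327 217 true, .stab 235 215 true, .stab 671 217 true, .stab 511 216 false, .stab 1277 212 true, .stab 1226 217 true, .stab 1351 210 false,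
  .stab 1213 212 true, .stab 1384 210 false, .stab 1144 212 true, .stab 769 217 true, .stab 443 217 false, .stab 898 217 true, .stab 178 212 true, .stab 371 212 false,
  .stab 419 213 true, .stab 697 215 true, .stab 28 216 true, .stab 55 212 false, .stab 513 213 true, .stab 858 216 true, .stab 763 216 false, .stab 911 215 true,
  .stab 445 217 true, .stab 427 217 false, .stab 1407 210 true, .stab 1032 210 false, .stab 240 212 true, .stab 741 213 true, .stab 696 215 true, .stab 993 216 false,
  .stab 1265 210 true, .stab 1184 210 false, .stab 950 213 true, .stab 1037 215 true, .stab 1288 216 false, .stab 337 217 true, .stab 457 217 false, .stab 736 217 true,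
  .stab 817 210 true, .stab 296 212 true, .stab 437 214 true, .stab 1260 210 true, .stab 988 212 false, .stab 1323 216 true, .stab 576 217 true, .stab 1268 217 false,
  .stab 1022 217 true, .stab 1107 217 true, .stab 361 217 false, .stab 472 217 true, .stab 117 210 true, .stab 692 213 true, .stab 308 215 true, .stab 1160 216 false,
  .stab 582 217 true, .stab 152 210 true, .stab 1393 212 true, .stab 787 213 true, .stab 924 215 true, .stab 963 217 false, .stab 603 217 false, .stab 1165 217 true,
  .stab 1399 217 false, .stab 1290 217 true, .stab 1034 217 false, .stab 660 210 true, .stab 766 210 false, .stab 979 213 true, .stab 590 215 true, .stab 61 212 false,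
  .stab 315 212 false, .stab 867 215 true, .stab 1002 216 false, .stab 848 217 true, .stab 958 212 true, .stab 294 214 true, .stab 962 215 true, .stab 546 217 true,
  .stab 213 210 true, .stab 579 217 true, .stab 498 217 false, .stab 1233 210 false, .stab 625 217 false, .stab 931 215 true, .stab 491 216 true, .stab 1062 217 false,
  .stab 291 210 true, .stab 731 210 false, .stab 1143 212 true, .stab 1199 212 false, .stab 784 213 true, .stab 531 212 true, .stab 972 217 false, .stab 1388 210 false,
  .stab 395 213 true, .stab 1085 217 false, .stab 113 212 false, .stab 21 215 true, .stab 761 217 false, .stab 551 212 true, .stab 1357 214 true, .stab 674 215 true,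
  .stab 331 216 true, .stab 456 216 false, .stab 1368 217 false, .stab 748 210 true, .stab 996 212 true, .stab 155 213 true, .stab 367 217 true, .stab 1223 210 false,
  .stab 789 212 false, .stab 414 214 true, .stab 292 217 true, .stab 1053 214 true, .stab 749 215 true, .stab 578 216 true, .stab 53 216 false, .stab 689 217 true,
  .stab 1313 210 true, .stab 1087 212 false, .stab 630 213 true, .stab 184 210 true, .stab 195 210 false, .stab 428 217 true, .stab 253 210 true, .stab 48 217 true,
  .stab 2 215 true, .stab 832 216 true, .stab 150 216 false, .stab 406 217 true, .stab 1168 217 false, .stab 833 215 true, .stab 164 215 true, .stab 75 213 true,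
  .stab 529 215 true, .stab 35 216 false, .stab 1166 217 true, .stab 231 215 true, .stab 876 216 false, .stab 407 217 false, .stab 690 216 true, .stab 1210 216 false,
  .stab 434 217 true, .stab 1019 217 false, .stab 677 215 true, .stab 1366 217 true, .stab 262 217 false, .stab 1211 215 true, .stab 1120 217 true, .stab 52 212 true,
  .stab 1273 212 false, .stab 1283 215 true, .stab 982 217 true, .stab 1092 212 true, .stab 1320 215 true, .stab 436 217 false, .stab 426 214 true, .stab 882 217 true,
  .stab 470 217 false, .stab 1044 213 true, .stab 814 217 true, .stab 652 210 true, .stab 754 210 false, .stab 1100 212 true, .stab 896 212 false, .stab 1322 213 true,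
  .stab 199 216 false, .stab 933 210 false, .stab 1243 212 true, .stab 128 212 false, .stab 1228 213 true, .stab 404 216 true, .stab 65 216 false, .stab 1045 215 true,
  .stab 430 214 true, .stab 883 217 true, .stab 466 217 false, .stab 877 213 true, .stab 439 215 true, .stab 522 216 false, .stab 1180 217 true, .stab 78 213 true,
  .stab 724 215 true, .stab 1079 216 true, .stab 233 217 false, .stab 39 217 true, .stab 156 217 false, .stab 781 217 true, .stab 1000 215 true, .stab 46 216 true,
  .stab 174 213 true, .stab 916 215 true, .stab 616 217 true, .stab 627 215 true, .stab 739 216 false, .stab 147 217 true, .stab 372 215 true, .stab 37 216 false,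
  .stab 1389 217 true, .stab 336 217 false, .stab 666 215 true, .stab 168 217 true, .stab 1278 217 false, .stab 1061 214 true, .stab 743 215 true, .stab 1274 217 false,
  .stab 1194 212 false, .stab 375 212 true, .stab 670 212 false, .stab 926 213 true, .stab 1083 216 false, .stab 812 212 true, .stab 1148 217 false, .stab 735 210 true,
  .stab 363 213 true, .stab 1084 215 true, .stab 1060 217 true, .stab 310 217 false, .stab 937 210 false, .stab 1242 212 true, .stab 131 212 false, .stab 742 213 true,
  .stab 1284 214 true, .stab 400 216 true, .stab 76 216 false, .stab 819 217 false, .stab 530 215 true, .stab 842 216 true, .stab 349 216 false, .stab 707 217 false,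
  .stab 95 213 true, .stab 663 215 true, .stab 1151 217 true, .stab 119 215 true, .stab 891 217 true, .stab 1271 214 true, .stab 266 215 true, .stab 678 216 true,
  .stab 1109 217 true, .stab 1257 212 false, .stab 880 213 true, .stab 669 212 true, .stab 50 212 false, .stab 239 213 true, .stab 510 216 true, .stab 1130 216 false,
  .stab 1286 214 true, .stab 509 215 true, .stab 1001 217 true, .stab 47 217 false, .stab 881 214 true, .stab 1131 215 true, .stab 387 217 true, .stab 649 210 true,
  .stab 755 210 false, .stab 1104 212 true, .stab 885 212 false, .stab 1321 213 true, .stab 1350 214 true, .stab 198 216 false, .stab 1 215 true, .stab 64 213 true,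
  .stab 528 215 true, .stab 31 216 false, .stab 229 215 true, .stab 870 216 false, .stab 212 217 false, .stab 1269 212 true, .stab 211 217 true, .stab 90 212 false,
  .stab 1121 214 true, .stab 205 215 true, .stab 1003 217 false, .stab 415 217 true, .stab 762 217 false, .stab 967 210 true, .stab 201 212 true, .stab 1205 212 false,
  .stab 410 216 true, .stab 556 210 true, .stab 1363 212 true, .stab 1038 212 false, .stab 1402 216 true, .stab 134 217 false, .stab 412 217 true, .stab 764 217 false,
  .stab 544 213 true, .stab 60 215 true, .stab 519 216 true, .stab 170 217 true, .stab 362 212 true, .stab 93 215 true, .stab 1227 216 false, .stab 1372 217 false,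
  .stab 418 210 false, .stab 1256 212 false, .stab 813 213 true, .stab 1375 215 true, .stab 347 217 true, .stab 194 217 true, .stab 111 215 true, .stab 1298 217 false,
  .stab 1081 215 true, .stab 683 217 false, .stab 483 215 true, .stab 720 217 false, .stab 112 212 true, .stab 1080 212 false, .stab 713 216 false, .stab 71 214 true,
  .stab 309 217 false, .stab 721 215 true, .stab 890 217 false, .stab 553 210 true, .stab 1364 212 true, .stab 977 212 false, .stab 1403 216 true, .stab 69 217 false,
  .stab 658 217 false, .stab 267 217 true, .stab 1329 215 true, .stab 94 217 true, .stab 263 212 true, .stab 1005 215 true, .stab 1253 217 true, .stab 1328 212 false,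
  .stab 1173 216 true, .stab 1057 216 false, .stab 1171 215 true, .stab 379 217 true, .stab 642 210 true, .stab 691 212 true, .stab 1059 215 true, .stab 957 217 true,
  .stab 968 210 true, .stab 202 212 true, .stab 1206 212 false, .stab 208 214 true, .stab 409 216 true, .stab 1367 217 true, .stab 121 212 true, .stab 1371 217 true,
  .stab 171 217 false, .stab 1189 210 true, .stab 357 210 false, .stab 73 212 true, .stab 1124 212 false, .stab 188 213 true, .stab 1202 216 false, .stab 558 210 false,
  .stab 141 212 false, .stab 727 213 true, .stab 1009 216 true, .stab 1345 216 false, .stab 154 215 true, .stab 223 215 true, .stab 845 215 true, .stab 463 217 true,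
  .stab 1370 210 true, .stab 136 215 true, .stab 159 217 false, .stab 405 215 true, .stab 87 216 true, .stab 356 217 false, .stab 158 212 true, .stab 401 212 false,
  .stab 1089 216 true, .stab 1076 215 true, .stab 1178 217 false, .stab 631 210 false, .stab 161 212 false, .stab 728 213 true, .stab 970 216 true, .stab 1352 216 false,
  .stab 612 214 true, .stab 1027 215 true, .stab 580 217 false, .stab 548 212 true, .stab 1249 215 true, .stab 243 217 true, .stab 250 212 false, .stab 592 215 true,
  .stab 1116 217 true, .stab 1247 212 true, .stab 593 212 false, .stab 1353 216 true, .stab 1347 215 true, .stab 298 217 true, .stab 146 217 true, .stab 1187 210 true,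
  .stab 366 210 false, .stab 80 212 true, .stab 1106 212 false, .stab 183 213 true, .stab 1191 216 false, .stab 830 217 true, .stab 567 217 false, .stab 601 217 false,
  .stab 438 217 true, .stab 725 217 false, .stab 1309 217 true, .stab 1383 217 false, .stab 959 210 true, .stab 794 210 false, .stab 413 212 false, .stab 305 213 true,
  .stab 1043 216 false, .stab 114 210 true, .stab 923 210 false, .stab 563 212 false, .stab 942 213 true, .stab 232 217 true, .stab 1134 217 false, .stab 386 210 false,
  .stab 1229 213 true, .stab 1094 212 false, .stab 571 216 true, .stab 901 216 false, .stab 570 217 true, .stab 595 212 true, .stab 489 214 true, .stab 919 216 true,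
  .stab 1127 217 true, .stab 562 214 true, .stab 166 216 false, .stab 241 217 true, .stab 1316 217 false, .stab 535 210 true, .stab 682 217 false, .stab 1318 217 false,
  .stab 934 212 false, .stab 797 214 true, .stab 277 217 false, .stab 503 212 true, .stab 1167 216 false, .stab 773 217 false, .stab 1065 214 true, .stab 389 216 true,
  .stab 320 217 true, .stab 416 217 false, .stab 665 210 true, .stab 584 217 true, .stab 1174 210 true, .stab 485 214 true, .stab 1382 216 false, .stab 605 217 true,
  .stab 829 217 true, .stab 598 217 false, .stab 311 210 false, .stab 1310 217 false, .stab 224 217 false, .stab 248 217 true, .stab 58 217 false, .stab 961 210 true,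
  .stab 345 213 true, .stab 1031 216 false, .stab 259 210 true, .stab 944 213 true, .stab 252 215 true, .stab 442 217 true, .stab 1169 215 true, .stab 853 217 true,
  .stab 927 215 true, .stab 1361 217 false, .stab 403 217 false, .stab 209 217 false, .stab 1066 215 true, .stab 638 217 false, .stab 338 210 true, .stab 1341 210 false,
  .stab 332 215 true, .stab 600 217 false, .stab 1263 215 true, .stab 200 217 false, .stab 1101 217 true, .stab 228 217 true, .stab 1190 215 true, .stab 1360 217 true,
  .stab 873 217 false, .stab 244 217 true, .stab 1317 217 true, .stab 1397 210 false, .stab 393 210 false, .stab 1153 217 true, .stab 1156 217 true, .stab 96 217 false,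
  .stab 380 212 false, .stab 105 217 false, .stab 302 217 false, .stab 148 217 true, .stab 920 217 true, .stab 1135 217 true, .stab 261 217 true, .stab 710 217 false,
  .stab 594 215 true, .stab 928 217 false, .stab 1401 214 true, .stab 1128 217 true, .stab 334 217 false, .stab 1200 210 true, .stab 1074 210 false, .stab 265 212 true,
  .stab 1098 212 false, .stab 1139 213 true, .stab 106 214 true, .stab 499 215 true, .stab 1258 216 true, .stab 306 216 false, .stab 745 215 true, .stab 245 217 false,
  .stab 816 217 false, .stab 354 215 true, .stab 506 217 false, .stab 1301 217 true, .stab 1262 215 true, .stab 495 217 false, .stab 838 217 false, .stab 782 210 true,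
  .stab 143 210 false, .stab 846 212 true, .stab 1051 212 false, .stab 1102 213 true, .stab 480 214 true, .stab 286 215 true, .stab 247 216 true, .stab 10 216 false,
  .stab 230 217 true, .stab 260 214 true, .stab 685 217 true, .stab 954 210 true, .stab 1336 212 true, .stab 1280 212 false, .stab 668 213 true, .stab 1070 214 true,
  .stab 251 215 true, .stab 525 216 false, .stab 566 217 false, .stab 388 217 true, .stab 249 217 true, .stab 1224 217 true, .stab 1015 210 true, .stab 549 210 false,
  .stab 335 212 true, .stab 1207 212 false, .stab 217 214 true, .stab 341 215 true, .stab 102 216 true, .stab 1299 216 false, .stab 98 217 true, .stab 1067 217 false,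
  .stab 137 217 true, .stab 805 210 false, .stab 613 212 false, .stab 399 213 true, .stab 467 214 true, .stab 1359 215 true, .stab 879 216 true, .stab 917 216 false,
  .stab 1111 217 true, .stab 1219 217 true, .stab 1188 216 false, .stab 299 217 false, .stab 1023 210 true, .stab 210 210 false, .stab 1346 212 false, .stab 163 213 true,
  .stab 289 214 true, .stab 729 217 false, .stab 468 217 false, .stab 504 210 true, .stab 925 210 false, .stab 1391 212 true, .stab 97 212 false, .stab 272 217 false,
  .stab 1230 217 false, .stab 139 217 true, .stab 197 217 true, .stab 322 217 true, .stab 441 210 true, .stab 664 210 true, .stab 604 217 true, .stab 626 215 true,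
  .stab 145 217 true, .stab 488 217 true, .stab 219 214 true, .stab 587 217 false, .stab 734 210 true, .stab 22 212 true, .stab 220 213 true, .stab 514 216 true,
  .stab 450 216 false, .stab 1376 213 true, .stab 922 215 true, .stab 618 217 true, .stab 955 217 false, .stab 862 217 true, .stab 1331 210 false, .stab 215 212 true,
  .stab 826 212 false, .stab 899 213 true, .stab 852 216 true, .stab 1048 216 false, .stab 526 217 false, .stab 1196 212 false, .stab 1374 210 true, .stab 770 210 false,
  .stab 646 212 true, .stab 888 212 false, .stab 1293 214 true, .stab 175 215 true, .stab 301 216 true, .stab 956 216 false, .stab 1179 217 false, .stab 532 217 false,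
  .stab 686 217 false, .stab 486 210 true, .stab 643 210 false, .stab 494 212 false, .stab 135 215 true, .stab 717 216 true, .stab 1405 216 false, .stab 169 217 false,
  .stab 157 217 false, .stab 1073 217 false, .stab 800 210 false, .stab 123 212 false, .stab 533 214 true, .stab 1075 215 true, .stab 149 216 true, .stab 1175 217 false,
  .stab 779 217 true, .stab 206 217 false, .stab 1149 217 false, .stab 1072 217 true, .stab 1216 217 true, .stab 177 210 true, .stab 104 210 false, .stab 1177 212 true,
  .stab 27 213 true, .stab 107 217 false, .stab 500 215 true, .stab 411 217 true, .stab 806 210 true, .stab 614 212 true, .stab 1252 212 false, .stab 904 216 false,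
  .stab 204 214 true, .stab 1119 217 true, .stab 1004 216 true, .stab 1349 217 false, .stab 1028 210 true, .stab 1275 217 false, .stab 1272 217 false, .stab 1112 217 true,
  .stab 976 217 true, .stab 378 217 true, .stab 1379 215 true, .stab 307 217 true, .stab 191 217 true, .stab 1343 217 false, .stab 706 217 false, .stab 887 217 false,
  .stab 70 217 false, .stab 653 217 false, .stab 460 217 true, .stab 636 217 false, .stab 1114 217 true, .stab 99 215 true, .stab 1342 210 false, .stab 597 217 false,
  .stab 1105 217 true, .stab 1152 217 true, .stab 1157 217 true, .stab 906 217 true, .stab 1400 214 true, .stab 1122 217 true, .stab 1201 210 true, .stab 269 212 true,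
  .stab 1140 213 true, .stab 1261 216 true, .stab 346 216 false, .stab 1302 217 true, .stab 809 210 true, .stab 144 210 false, .stab 482 214 true, .stab 283 215 true,
  .stab 12 216 false, .stab 949 210 true, .stab 1335 212 true, .stab 672 213 true, .stab 940 210 true, .stab 585 210 false, .stab 1209 212 false, .stab 218 214 true,
  .stab 103 216 true, .stab 1300 216 false, .stab 138 217 true, .stab 875 216 true, .stab 918 216 false, .stab 1108 217 true, .stab 1017 210 true, .stab 207 210 false,
  .stab 1030 210 false, .stab 1392 212 true, .stab 586 217 false, .stab 733 210 true, .stab 7 212 true, .stab 225 213 true, .stab 449 216 false, .stab 952 217 false,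
  .stab 866 217 true, .stab 1332 210 false, .stab 828 212 false, .stab 894 213 true, .stab 487 216 true, .stab 1378 210 true, .stab 1221 210 false, .stab 629 212 true,
  .stab 484 210 true, .stab 623 210 false, .stab 855 212 false, .stab 718 216 true, .stab 1404 216 false, .stab 798 210 false, .stab 125 212 false, .stab 778 217 true,
  .stab 1276 217 false, .stab 1217 217 true, .stab 173 210 true, .stab 1176 212 true, .stab 33 213 true, .stab 490 217 true, .stab 14 217 true, .stab 63 217 false,
  .stab 15 217 true, .stab 74 217 false, .stab 26 215 true, .stab 969 217 false, .stab 13 216 false, .stab 11 215 true, .stab 520 216 false, .stab 517 215 true,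
  .stab 1011 217 true, .stab 524 213 true, .stab 19 216 false, .stab 662 216 false, .stab 1097 215 true, .stab 508 215 true, .stab 661 216 false, .stab 523 213 true,
  .stab 18 216 false, .stab 804 213 true, .stab 984 216 false, .stab 41 213 true, .stab 1096 216 false, .stab 271 214 true, .stab 518 216 true, .stab 32 214 true,
  .stab 507 217 false, .stab 803 213 true, .stab 983 216 false, .stab 40 213 true, .stab 270 215 true, .stab 30 215 true, .stab 907 217 true, .stab 521 212 false,
  .stab 180 217 false, .stab 477 213 true, .stab 1248 217 false, .stab 237 216 true, .stab 1203 216 false, .stab 350 212 true, .stab 620 215 true, .stab 447 212 false,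
  .stab 1035 215 true, .stab 622 217 true, .stab 1218 212 false, .stab 910 215 true, .stab 758 216 true, .stab 776 216 false, .stab 34 216 false, .stab 1250 210 false,
  .stab 756 212 false, .stab 966 214 true, .stab 1246 217 false, .stab 501 210 true, .stab 82 213 true, .stab 196 210 true, .stab 611 212 true, .stab 759 214 true,
  .stab 823 215 true, .stab 1008 216 false, .stab 1154 210 false, .stab 475 212 false, .stab 624 215 true, .stab 408 216 false, .stab 744 217 false, .stab 644 217 false,
  .stab 317 212 false, .stab 1237 212 true, .stab 185 217 false, .stab 1150 212 true, .stab 1036 217 false, .stab 1251 217 true, .stab 84 212 true, .stab 17 216 false,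
  .stab 288 210 true, .stab 850 212 true, .stab 777 216 true, .stab 930 210 false, .stab 234 213 true, .stab 997 210 true, .stab 478 212 true, .stab 355 212 false,
  .stab 1386 216 false, .stab 929 210 true, .stab 312 210 true, .stab 831 212 true, .stab 358 210 false, .stab 1020 213 true, .stab 54 213 true, .stab 448 216 true,
  .stab 340 216 true, .stab 329 212 false, .stab 339 216 true, .stab 108 210 true, .stab 825 213 true, .stab 641 216 true, .stab 998 216 false, .stab 753 213 true,
  .stab 351 213 true, .stab 1387 216 true, .stab 1204 213 true, .stab 1155 213 true, .stab 255 216 false, .stab 1235 216 true, .stab 326 212 true, .stab 1018 212 false]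

end CfsgLib.HN51
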