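import Cfsg.Agent.HNOrder51.Table

/-!
Replaying derivations of coset facts from the relators.

A fact `(a, u, e, b, v)` says `N d_a u t^e = N d_b v`, where `d` is a list of node words.
-/

set_option autoImplicit false

namespace CfsgLib.HN51

/-- a fact -/
structure Fact where
  a : ℕ
  u : List ℕ
  e : Bool
  b : ℕ
  v : List ℕ

/-- a move along a path -/
inductive Mv where
  | R (f : ℕ) (d : Bool)
  | T (f : ℕ) (d tw : Bool)
  | L (a : ℕ)

/-- the reason of a fact -/
inductive Just where
  | base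
  | node
  | part (j : ℕ)
  | path (ms : List Mv)

/-- the base of `⟨x, y, z⟩` on the 1408 points -/
def basePts : List ℕ := [0, 3, 7, 8, 16]

/-- equal images of the base points -/
def same (u w : List ℕ) : Bool := basePts.all fun b => Nat.beq (run b u) (run b w)

/-- words with equal images on the base are equal in the group -/
def Faith : Prop :=
  ∀ u v : List ℕ, isN u = true → isN v = true → same u v = true → ev u = ev v

/-- the elements fixing the point `0` commute with `t` -/
def CFix : Prop := ∀ w : List ℕ, isN w = true → run 0 w = 0 → Commute (ev w) T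

/-- `t` to the power `0` or `1` -/
def te (e : Bool) : Cfsg.Spor.HN := cond e T 1

section

variable (d : ℕ → List ℕ) (fs : List Fact)

/-- the meaning of a fact -/
def Holds (f : Fact) : Prop :=
  psi (ev (d f.a) * ev f.u * te f.e) = psi (ev (d f.b) * ev f.v)

/-- the default fact -/
def noFact : Fact := ⟨0, [], false, 0, []⟩

/-- A state is a node and a word for the inverse of the element; a move gives the new state and
the letters read. -/
def move (i : ℕ) (s : ℕ × List ℕ) : Mv → Option ((ℕ × List ℕ) × List ℕ)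
  | .L a => bif a.blt 5 then some ((s.1, linv a :: s.2), [a]) else none
  | .R j dir =>
    let f := fs.getD j noFact
    bif j.blt i && !f.e && isN f.u && isN f.v then
      bif dir then
        bif Nat.beq s.1 f.a then some ((f.b, s.2 ++ f.u ++ winv f.v), []) else none
      else
        bif Nat.beq s.1 f.b then some ((f.a, s.2 ++ f.v ++ winv f.u), []) else none
    else none
  | .T j dir tw =>
    let f := fs.getD j noFact
    let iw := cond tw ([0, 0] ++ s.2) s.2
    bif j.blt i && f.e && isN f.u && isN f.v then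
      bif dir then
        bif Nat.beq s.1 f.a && Nat.beq (run 0 (iw ++ f.u)) 0 then
          let r := iw ++ f.u ++ winv f.v
          some ((f.b, cond tw ([1, 1] ++ r) r), [cond tw 6 5])
        else none
      else
        bif Nat.beq s.1 f.b && Nat.beq (run 0 (iw ++ f.v)) 0 then
          let r := iw ++ f.v ++ winv f.u
          some ((f.a, cond tw ([1, 1] ++ r) r), [cond tw 5 6])
        else none
    else none

/-- follow a path -/
def path (i : ℕ) : ℕ × List ℕ → List Mv → Option ((ℕ × List ℕ) × List ℕ)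
  | s, [] => some (s, [])
  | s, m :: ms =>
    match move fs i s m with
    | none => none
    | some (s', l) =>
      match path i s' ms with
      | none => none
      | some (s'', l') => some (s'', l ++ l')

/-- words whose value is `1` -/
def identZero : List (List ℕ) :=
  [[], [4, 6, 4, 6, 4, 6], [6, 5], [1, 6, 0, 6, 6], [6, 1, 6, 0, 6], [6, 6, 6, 6, 6]]

/-- words whose value is `t` -/
def identOne : List (List ℕ) := [[5], [4, 6, 4, 6, 4], [1, 6, 0, 6], [6, 6, 6, 6]]

/-- equality of letter lists -/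
def beqW : List ℕ → List ℕ → Bool
  | [], [] => true
  | a :: l, b :: l' => Nat.beq a b && beqW l l'
  | _, _ => false

/-- check one fact -/
def okAt (js : List Just) (i : ℕ) : Bool :=
  let f := fs.getD i noFact
  isN f.u && isN f.v &&
  match js.getD i .base with
  | .base => !f.e && Nat.beq f.a 0 && Nat.beq f.b 0 && beqW (d 0) []
  | .node => f.e && beqW f.v [] && beqW (d f.b) (d f.a ++ f.u ++ [5])
  | .part j =>
    let g := fs.getD j noFact
    j.blt i && f.e && g.e && isN g.u && isN g.v && Nat.beq f.a g.b && Nat.beq f.b g.a &&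
      same f.u (g.v ++ [1, 1]) && same f.v (g.u ++ [1, 1])
  | .path ms =>
    match path fs i (f.a, winv f.u) ms with
    | none => false
    | some ((b, iw), l) =>
      Nat.beq b f.b && isN iw && same iw (winv f.v) &&
        (cond f.e identOne identZero).any (beqW l)

end

theorem beqW_eq : ∀ {u v : List ℕ}, beqW u v = true → u = v
  | [], [], _ => rfl
  | [], _ :: _, h => absurd h (by simp [beqW])
  | _ :: _, [], h => absurd h (by simp [beqW])
  | a :: l, b :: l', h => by
    simp only [beqW, Bool.and_eq_true, Nat.beq_eq] at h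
    rw [h.1, beqW_eq h.2]

theorem X_sq_conj' : X * X * T⁻¹ * (X⁻¹ * X⁻¹) = T := by
  rw [← x_sq_conj]; group

theorem X_sq_conj_T : X * X * T * (X⁻¹ * X⁻¹) = T⁻¹ := by
  have h := congrArg (·⁻¹) X_sq_conj'
  simp only [mul_inv_rev, inv_inv] at h
  rw [← h]; group

theorem zt_inv : Z * T⁻¹ * Z * T⁻¹ * Z = T := by
  have h := ZT_cube
  have e : (Z * T) ^ 3 = Z * T * Z * T * Z * T := by simp [pow_succ, mul_assoc]
  rw [e] at h
  have h' := congrArg (·⁻¹) h
  simp only [mul_inv_rev, inv_inv, inv_one, Z_inv] at h'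
  calc Z * T⁻¹ * Z * T⁻¹ * Z = T * (T⁻¹ * (Z * (T⁻¹ * (Z * (T⁻¹ * Z))))) := by group
    _ = T := by rw [h', mul_one]

theorem T_inv_four : T⁻¹ * T⁻¹ * T⁻¹ * T⁻¹ = T := by
  have e : T⁻¹ * T⁻¹ * T⁻¹ * T⁻¹ = (T ^ 5)⁻¹ * T := by group
  rw [e, T_pow_five, inv_one, one_mul]

theorem x_inv_T : X⁻¹ * T⁻¹ * X * T⁻¹ = T := by
  have e : X⁻¹ * T⁻¹ * X * T⁻¹ = (X⁻¹ * T * X)⁻¹ * T⁻¹ := by group
  rw [e, x_conj, inv_inv, pow_two, mul_inv_cancel_right]

theorem identOne_ev : ∀ w ∈ identOne, ev w = T := by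
  simp only [identOne, List.forall_mem_cons, List.forall_mem_nil, and_true, ev, List.map_cons,
    List.map_nil, List.prod_cons, List.prod_nil, mul_one, gen, true_and]
  refine ⟨?_, ?_, ?_⟩
  · simpa [mul_assoc] using zt_inv
  · simpa [mul_assoc] using x_inv_T
  · simpa [mul_assoc] using T_inv_four

theorem identZero_ev : ∀ w ∈ identZero, ev w = 1 := by
  have h1 := zt_inv
  have h2 := x_inv_T
  have h3 := T_inv_four
  simp only [identZero, List.forall_mem_cons, List.forall_mem_nil, and_true, ev, List.map_cons,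
    List.map_nil, List.prod_cons, List.prod_nil, mul_one, gen, true_and]
  refine ⟨?_, inv_mul_cancel T, ?_, ?_, ?_, by simp⟩
  · rw [show Z * (T⁻¹ * (Z * (T⁻¹ * (Z * T⁻¹)))) = Z * T⁻¹ * Z * T⁻¹ * Z * T⁻¹ by group, h1,
      mul_inv_cancel]
  · rw [show X⁻¹ * (T⁻¹ * (X * (T⁻¹ * T⁻¹))) = X⁻¹ * T⁻¹ * X * T⁻¹ * T⁻¹ by group, h2,
      mul_inv_cancel]
  · rw [show T⁻¹ * (X⁻¹ * (T⁻¹ * (X * T⁻¹))) = T⁻¹ * (X⁻¹ * T⁻¹ * X * T⁻¹) by group, h2,
      inv_mul_cancel]
  · rw [show T⁻¹ * (T⁻¹ * (T⁻¹ * (T⁻¹ * T⁻¹))) = T⁻¹ * T⁻¹ * T⁻¹ * T⁻¹ * T⁻¹ by group, h3,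
      mul_inv_cancel]

section

variable {d : ℕ → List ℕ} {fs : List Fact}

/-- the coset of a state -/
def stPt (d : ℕ → List ℕ) (s : ℕ × List ℕ) : Cfsg.Spor.HN ⧸ Nsub :=
  psi (ev (d s.1) * (ev s.2)⁻¹)

/-- One traversal of a fact, in either orientation. -/
theorem cross (hC : CFix) {p q iw u v : List ℕ} (e : Bool) (hu : isN u = true) (hv : isN v = true)
    (hiw : isN iw = true) (h : psi (ev p * ev u * te e) = psi (ev q * ev v))
    (hc : e = true → run 0 (iw ++ u) = 0) :
    psi (ev p * (ev iw)⁻¹ * te e) = psi (ev q * (ev (iw ++ u ++ winv v))⁻¹) := by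
  have hcomm : Commute (ev u)⁻¹ (ev iw)⁻¹ → True := fun _ => trivial
  clear hcomm
  have hc' : Commute ((ev (iw ++ u))⁻¹) (te e) := by
    cases e
    · exact Commute.one_right _
    · exact (hC _ (isN_append hiw hu) (hc rfl)).inv_left
  have h' := psi_mul ((ev (iw ++ u))⁻¹) h
  rw [mul_assoc _ (te e), ← hc'.eq] at h'
  simp only [ev_append, ev_winv hv, mul_inv_rev, inv_inv] at h' ⊢
  convert h' using 2 <;> group

theorem X_sq_conj_inv : X⁻¹ * X⁻¹ * T⁻¹ * (X * X) = T := by
  have h := congrArg (·⁻¹) x_sq_conj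
  simpa [mul_assoc] using h

/-- Traversal of an edge against its direction. -/
theorem cross_inv (hC : CFix) {p q iw u v : List ℕ} (hu : isN u = true) (hv : isN v = true)
    (hiw : isN iw = true) (h : psi (ev p * ev u * T) = psi (ev q * ev v))
    (hc : run 0 (iw ++ v) = 0) :
    psi (ev q * (ev iw)⁻¹ * T⁻¹) = psi (ev p * (ev (iw ++ v ++ winv u))⁻¹) := by
  have hc' : Commute ((ev (iw ++ v))⁻¹) T := (hC _ (isN_append hiw hv) hc).inv_left
  have h' := psi_mul ((ev (iw ++ v))⁻¹ * T⁻¹) h.symm
  have e1 : ev p * ev u * T * ((ev (iw ++ v))⁻¹ * T⁻¹) =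
      ev p * (ev (iw ++ v ++ winv u))⁻¹ := by
    rw [mul_assoc _ T, ← mul_assoc T, ← hc'.eq, mul_inv_cancel_right, ev_append _ (winv u),
      ev_winv hu, mul_inv_rev, inv_inv, mul_assoc]
  have e2 : ev q * ev v * ((ev (iw ++ v))⁻¹ * T⁻¹) = ev q * (ev iw)⁻¹ * T⁻¹ := by
    rw [ev_append, mul_inv_rev]; group
  rw [e1, e2] at h'
  exact h'

theorem move_sound (hC : CFix) {i : ℕ} (hfs : ∀ j < i, Holds d (fs.getD j noFact))
    {s s' : ℕ × List ℕ} {m : Mv} {l : List ℕ} (hs : isN s.2 = true)
    (h : move fs i s m = some (s', l)) :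
    isN s'.2 = true ∧ psi (ev (d s.1) * (ev s.2)⁻¹ * ev l) = stPt d s' := by
  cases m with
  | L a =>
    simp only [move] at h
    cases ha : a.blt 5 <;> simp only [ha, cond_true, cond_false, reduceCtorEq, Option.some.injEq,
      Prod.mk.injEq] at h
    obtain ⟨rfl, rfl⟩ := h
    rw [Nat.blt_eq] at ha
    refine ⟨?_, ?_⟩
    · simp only [isN, List.all_cons, Bool.and_eq_true, Nat.blt_eq]
      exact ⟨linv_lt ha, hs⟩
    · rw [stPt, ev_cons, ev_cons, ev_nil, mul_one, gen_linv ha, mul_inv_rev, inv_inv, mul_assoc]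
  | R j dir =>
    obtain ⟨a₀, w₀⟩ := s
    simp only [move, Bool.cond_eq_ite, Option.ite_none_right_eq_some] at h
    obtain ⟨hg, h⟩ := h
    simp only [Bool.and_eq_true, Nat.blt_eq, Bool.not_eq_true'] at hg
    obtain ⟨⟨⟨hj, he⟩, hu⟩, hv⟩ := hg
    have hf := hfs j hj
    rw [Holds, he] at hf
    cases dir <;> simp only [Bool.false_eq_true, ↓reduceIte, Option.ite_none_right_eq_some,
      Option.some.injEq, Prod.mk.injEq] at h <;> obtain ⟨hn, rfl, rfl⟩ := h <;>
      rw [Nat.beq_eq] at hn <;> subst hn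
    · refine ⟨isN_append (isN_append hs hv) (isN_winv hu), ?_⟩
      have := cross hC false hv hu hs (by simpa [te] using hf.symm) (by simp)
      simpa [te, stPt, ev_nil] using this
    · refine ⟨isN_append (isN_append hs hu) (isN_winv hv), ?_⟩
      have := cross hC false hu hv hs (by simpa [te] using hf) (by simp)
      simpa [te, stPt, ev_nil] using this
  | T j dir tw =>
    obtain ⟨a₀, w₀⟩ := s
    simp only [move, Bool.cond_eq_ite, Option.ite_none_right_eq_some] at h
    obtain ⟨hg, h⟩ := h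
    simp only [Bool.and_eq_true, Nat.blt_eq] at hg
    obtain ⟨⟨⟨hj, he⟩, hu⟩, hv⟩ := hg
    have hf := hfs j hj
    rw [Holds, he] at hf
    simp only [te, cond_true] at hf
    have h00 : isN ([0, 0] ++ w₀) = true := isN_append rfl hs
    have e00 : (ev ([0, 0] ++ w₀))⁻¹ = (ev w₀)⁻¹ * (X⁻¹ * X⁻¹) := by
      simp [ev_append, ev, gen, mul_assoc]
    have e11 : ∀ r : List ℕ, (ev ([1, 1] ++ r))⁻¹ = (ev r)⁻¹ * (X * X) := fun r => by
      simp [ev_append, ev, gen, mul_assoc]
    have e5 : ev [5] = T := by simp [ev, gen]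
    have e6 : ev [6] = T⁻¹ := by simp [ev, gen]
    cases dir <;> cases tw <;> simp only [Bool.false_eq_true, ↓reduceIte,
      Option.ite_none_right_eq_some, Option.some.injEq, Prod.mk.injEq, Bool.and_eq_true,
      Nat.beq_eq] at h <;> obtain ⟨⟨rfl, hr⟩, rfl, rfl⟩ := h
    · refine ⟨isN_append (isN_append hs hv) (isN_winv hu), ?_⟩
      rw [stPt, e6]
      exact cross_inv hC hu hv hs hf hr
    · refine ⟨isN_append rfl (isN_append (isN_append h00 hv) (isN_winv hu)), ?_⟩
      rw [stPt, e5, e11, ← mul_assoc,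
        ← psi_mul (X * X) (cross_inv hC hu hv h00 hf hr), e00]
      congr 1
      conv_lhs => rw [← X_sq_conj_inv]
      group
    · refine ⟨isN_append (isN_append hs hu) (isN_winv hv), ?_⟩
      rw [stPt, e5]
      exact cross hC true hu hv hs hf (fun _ => hr)
    · refine ⟨isN_append rfl (isN_append (isN_append h00 hu) (isN_winv hv)), ?_⟩
      rw [stPt, e6, e11, ← mul_assoc,
        ← psi_mul (X * X) (cross hC true hu hv h00 hf (fun _ => hr)), e00]
      congr 1
      simp only [te, cond_true]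
      conv_lhs => rw [← x_sq_conj]
      group

theorem path_sound (hC : CFix) {i : ℕ} (hfs : ∀ j < i, Holds d (fs.getD j noFact)) :
    ∀ {ms : List Mv} {s s' : ℕ × List ℕ} {l : List ℕ}, isN s.2 = true →
      path fs i s ms = some (s', l) →
      isN s'.2 = true ∧ psi (ev (d s.1) * (ev s.2)⁻¹ * ev l) = stPt d s'
  | [], s, s', l, hs, h => by
    simp only [path, Option.some.injEq, Prod.mk.injEq] at h
    obtain ⟨rfl, rfl⟩ := h
    exact ⟨hs, by simp [stPt, ev_nil]⟩
  | m :: ms, s, s', l, hs, h => by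
    simp only [path] at h
    cases hm : move fs i s m with
    | none => simp [hm] at h
    | some r =>
      obtain ⟨s₁, l₁⟩ := r
      cases hp : path fs i s₁ ms with
      | none => simp [hm, hp] at h
      | some r₂ =>
        obtain ⟨s₂, l₂⟩ := r₂
        simp only [hm, hp, Option.some.injEq, Prod.mk.injEq] at h
        obtain ⟨rfl, rfl⟩ := h
        obtain ⟨h₁, e₁⟩ := move_sound hC hfs hs hm
        obtain ⟨h₂, e₂⟩ := path_sound hC hfs h₁ hp
        refine ⟨h₂, ?_⟩
        rw [ev_append, ← mul_assoc, psi_mul (ev l₂) e₁, e₂]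

theorem facts_sound (hF : Faith) (hC : CFix) {js : List Just} {n : ℕ}
    (h : ∀ i < n, okAt d fs js i = true) : ∀ i < n, Holds d (fs.getD i noFact) := by
  intro i
  induction i using Nat.strong_induction_on with
  | _ i ih =>
    intro hi
    have hfs : ∀ j < i, Holds d (fs.getD j noFact) := fun j hj => ih j hj (by omega)
    have hok := h i hi
    simp only [okAt, Bool.and_eq_true] at hok
    obtain ⟨⟨hu, hv⟩, hok⟩ := hok
    generalize hf : fs.getD i noFact = f at *
    unfold Holds
    cases hj : js.getD i .base with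
    | base =>
      rw [hj] at hok
      simp only [Bool.and_eq_true, Bool.not_eq_true', Nat.beq_eq] at hok
      obtain ⟨⟨⟨he, ha⟩, hb⟩, hd⟩ := hok
      rw [he, ha, hb, beqW_eq hd, psi_eq]
      simp only [te, cond_false, mul_one, ev_nil, one_mul]
      exact mul_mem (ev_mem hu) (inv_mem (ev_mem hv))
    | node =>
      rw [hj] at hok
      simp only [Bool.and_eq_true] at hok
      obtain ⟨⟨he, hv0⟩, hd⟩ := hok
      rw [he, beqW_eq hv0, beqW_eq hd]
      simp [te, ev, gen, mul_assoc]
    | part j =>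
      rw [hj] at hok
      simp only [Bool.and_eq_true, Nat.blt_eq, Nat.beq_eq] at hok
      obtain ⟨⟨⟨⟨⟨⟨⟨⟨hji, he⟩, hge⟩, hgu⟩, hgv⟩, hab⟩, hba⟩, h1⟩, h2⟩ := hok
      have hg := hfs j hji
      rw [Holds, hge] at hg
      rw [he, hab, hba, hF _ _ hu (isN_append hgv rfl) h1, hF _ _ hv (isN_append hgu rfl) h2]
      have key : T * (X⁻¹ * X⁻¹) * T = X⁻¹ * X⁻¹ := by
        have e : T * (X⁻¹ * X⁻¹) * T = T * (X⁻¹ * X⁻¹ * T * (X * X)) * (X⁻¹ * X⁻¹) := by group
        rw [e, x_sq_conj, mul_inv_cancel, one_mul]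
      have h' := psi_mul (ev [1, 1] * T) hg.symm
      rw [ev_append, ev_append]
      simp only [te, cond_true, mul_assoc] at h' ⊢
      rw [h']
      congr 3
    | path ms =>
      rw [hj] at hok
      dsimp only at hok
      cases hp : path fs i (f.a, winv f.u) ms with
      | none => simp [hp] at hok
      | some r =>
        obtain ⟨⟨b, iw⟩, l⟩ := r
        simp only [hp, Bool.and_eq_true, Nat.beq_eq, List.any_eq_true] at hok
        obtain ⟨⟨⟨rfl, hiw⟩, hsame⟩, w, hw, hwl⟩ := hok
        obtain ⟨-, e⟩ := path_sound hC hfs (isN_winv hu) hp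
        have hl : ev l = te f.e := by
          rw [beqW_eq hwl]
          revert hw
          cases f.e
          · exact identZero_ev w
          · exact identOne_ev w
        rw [stPt, ev_winv hu, inv_inv, hl, hF _ _ hiw (isN_winv hv) hsame, ev_winv hv,
          inv_inv] at e
        exact e

end

end CfsgLib.HN51
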